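import Cfsg.Agent.KFacts.OddLift.TitGen
import Cfsg.Agent.H87.TitsAbs

/-!
# A subgroup of order 27 of the Tits group whose nontrivial elements are conjugate

`t` is the letter `2` (it normalises the group of order 13 generated by the letter `0`), `s` the conjugate of `t` by the
word `[7, 2, 6, 1]`, `z = t s t⁻¹ s⁻¹`.
-/

set_option autoImplicit false

namespace Cfsg.Agent.H87.TitsData

open Cfsg.Agent.KFacts.OddLift.Basic Cfsg.Agent.KFacts.OddLift.TitMat Cfsg.Agent.KFacts.OddLift.TitGen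
open Cfsg.Agent.SporadicRecognition.CosetCert Cfsg.Agent.SporadicRecognition.CosetCertHyp
open Cfsg.Agent.ChevalleyStructure.Tits.Pack Cfsg.Agent.ChevalleyStructure.Tits.Mat
  Cfsg.Agent.ChevalleyStructure.Tits.Main Cfsg.Agent.ChevalleyStructure.Tits.Order

open scoped MatrixGroups

/-- word of `s` -/
def sw : List ℕ := [7, 2, 6, 1, 2, 0, 7, 3, 6]

/-- word of `s⁻¹` -/
def siw : List ℕ := [7, 2, 6, 1, 3, 0, 7, 3, 6]

/-- word of `z` -/
def zw : List ℕ := [2] ++ (sw ++ ([3] ++ siw))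

/-- power of a word -/
def pw (w : List ℕ) : ℕ → List ℕ
  | 0 => []
  | n + 1 => pw w n ++ w

/-- words of the elements of `R` -/
def mw (a b c : ℕ) : List ℕ := pw [2] a ++ (pw sw b ++ pw zw c)

/-- conjugating words -/
def cj : List (ℕ × ℕ × ℕ × List ℕ) := [
  (0, 0, 1, [4, 7, 0, 4, 7, 4, 2, 7, 5]), (0, 0, 2, [5, 1, 7, 1, 4, 0, 6, 5, 2, 0]), (0, 1, 0, [7, 2, 6, 1]),
  (0, 1, 1, [0, 7, 3, 6]), (0, 1, 2, [3, 7, 2, 6, 1]), (0, 2, 0, [0, 6, 3, 6, 1]),
  (0, 2, 1, [6, 3, 6, 2, 0]), (0, 2, 2, [6, 2, 7, 1, 1]), (1, 0, 0, []),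
  (1, 0, 1, [1, 2, 6, 2, 6, 0]), (1, 0, 2, [1, 7, 3, 7, 3, 0]), (1, 1, 0, [4, 1, 5, 0, 7, 1, 3, 5]),
  (1, 1, 1, [4, 3, 7, 2, 5, 2, 7]), (1, 1, 2, [4, 3, 4, 1, 7, 1, 1, 5]), (1, 2, 0, [4, 3, 4, 1, 7, 1, 4, 3, 0]),
  (1, 2, 1, [4, 0, 4, 7, 4, 2, 7, 5]), (1, 2, 2, [4, 3, 4, 1, 7, 0, 5, 1, 1]), (2, 0, 0, [7, 3, 7, 1]),
  (2, 0, 1, [6, 1, 3, 7, 2, 1]), (2, 0, 2, [6, 2, 6, 0, 6]), (2, 1, 0, [0, 4, 0, 7, 2, 5, 2, 7]),
  (2, 1, 1, [5, 3, 4, 3, 7, 0, 4, 3, 1]), (2, 1, 2, [4, 3, 4, 2, 7, 0, 4, 3, 1]), (2, 2, 0, [5, 6, 0, 7, 1, 5, 1, 7]),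
  (2, 2, 1, [4, 7, 2, 6, 4, 2, 0, 7]), (2, 2, 2, [5, 0, 7, 1, 4, 0, 6, 0])]

/-- relations `u = v` -/
def rl : List (List ℕ × List ℕ) := [
  (pw [2] 3, []), (pw sw 3, []), (pw zw 3, []), (zw ++ [2], [2] ++ zw), (zw ++ sw, sw ++ zw),
  ([2] ++ sw, zw ++ (sw ++ [2])), (pw [0] 13, []), ([2, 0], [0, 0, 0, 2])] ++
  cj.map fun p => (p.2.2.2 ++ [2], mw p.1 p.2.1 p.2.2.1 ++ p.2.2.2)

theorem rl_ok : rl.all (fun p => Nat.beq (evP p.1) (evP p.2)) = true := by decide +kernel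

theorem rl_lt : rl.all (fun p => (p.1.all fun y => Nat.blt y 8) && p.2.all fun y => Nat.blt y 8) = true := by
  decide +kernel

theorem rel {u v : List ℕ} (h : (u, v) ∈ rl) : ev (lt b 4) u = ev (lt b 4) v := by
  have h1 := rl_ok
  rw [List.all_eq_true] at h1
  have h2 := rl_lt
  rw [List.all_eq_true] at h2
  have h3 := h2 _ h
  rw [Bool.and_eq_true] at h3
  apply Subtype.ext
  rw [coe_ev_b, coe_ev_b]
  apply Subtype.ext
  rw [coe_ev_bH, coe_ev_bH]
  apply Units.ext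
  rw [coe_ev (all_lt8 h3.1), coe_ev (all_lt8 h3.2), Nat.eq_of_beq_eq_true (h1 _ h)]

theorem ev_append {G : Type*} [Group G] (g : ℕ → G) (u v : List ℕ) : ev g (u ++ v) = ev g u * ev g v := by
  induction u with
  | nil => rw [List.nil_append, ev_nil, one_mul]
  | cons x u ih => rw [List.cons_append, ev_cons, ih, ev_cons, mul_assoc]

theorem ev_pw {G : Type*} [Group G] (g : ℕ → G) (w : List ℕ) (n : ℕ) : ev g (pw w n) = ev g w ^ n := by
  induction n with
  | zero => rw [pw, ev_nil, pow_zero]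
  | succ n ih => rw [pw, ev_append, ih, pow_succ]

theorem ev_one {G : Type*} [Group G] (g : ℕ → G) (y : ℕ) : ev g [y] = g y := by
  rw [ev_cons, ev_nil, mul_one]

theorem toMat_ne {n : ℕ} (k : Fin 48) (h : n.testBit (4 + k) = true) : toMat n ≠ 1 := by
  intro h1
  have h2 := congrFun (congrFun h1 (Sum.inr k)) (Sum.inl 0)
  rw [toMat_apply, Matrix.one_apply_ne (by simp)] at h2
  have h3 : (52 * ix (Sum.inl 0) + ix (Sum.inr k)) = 4 + k := by
    rw [ix_inl, ix_inr]
    simp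
  rw [h3, h] at h2
  exact absurd h2 (by decide)

theorem bit0 : (P 0).testBit 40 = true := by decide +kernel

theorem bit2 : (P 2).testBit 7 = true := by decide +kernel

theorem b_ne {i : ℕ} (hi : i < 4) (k : Fin 48) (h : (P (2 * i)).testBit (4 + k) = true) : b i ≠ 1 := by
  intro h1
  have h2 : ((b i : commutator H0) : H0) = 1 := by rw [h1]; rfl
  have h3 : ((bH i : H0) : GL I52 (ZMod 2)) = 1 := by
    have : ((b i : commutator H0) : H0) = bH i := coe_b i
    rw [← this, h2]; rfl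
  have h4 := coe_β hi
  have h5 : β i = 1 := h3
  rw [h5, Units.val_one] at h4
  exact toMat_ne k h h4.symm

/-- the data in the Tits group -/
noncomputable def dat : TitsAbs.Dat (commutator H0) where
  x := lt b 4 0
  t := lt b 4 2
  s := ev (lt b 4) sw
  z := ev (lt b 4) zw
  x13 := by
    have h := rel (u := pw [0] 13) (v := []) (by simp [rl])
    rwa [ev_pw, ev_one, ev_nil] at h
  x1 := by
    rw [lt_even b 4 (by norm_num) (by norm_num)]
    exact b_ne (i := 0) (by norm_num) 36 bit0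
  txt := by
    have h := rel (u := [2, 0]) (v := [0, 0, 0, 2]) (by simp [rl])
    simp only [ev_cons, ev_nil, mul_one] at h
    rw [h, pow_succ, pow_two]
    group
  t1 := by
    rw [lt_even b 4 (by norm_num) (by norm_num)]
    exact b_ne (i := 1) (by norm_num) 3 bit2
  t3 := by
    have h := rel (u := pw [2] 3) (v := []) (by simp [rl])
    rwa [ev_pw, ev_one, ev_nil] at h
  s3 := by
    have h := rel (u := pw sw 3) (v := []) (by simp [rl])
    rwa [ev_pw, ev_nil] at h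
  z3 := by
    have h := rel (u := pw zw 3) (v := []) (by simp [rl])
    rwa [ev_pw, ev_nil] at h
  zt := by
    have h := rel (u := zw ++ [2]) (v := [2] ++ zw) (by simp [rl])
    rwa [ev_append, ev_append, ev_one] at h
  zs := by
    have h := rel (u := zw ++ sw) (v := sw ++ zw) (by simp [rl])
    rwa [ev_append, ev_append] at h
  ts := by
    have h := rel (u := [2] ++ sw) (v := zw ++ (sw ++ [2])) (by simp [rl])
    rwa [ev_append, ev_append, ev_append, ev_one] at h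
  conj := by
    intro a ha b' hb c hc h0
    have key : ∃ g : List ℕ, (a, b', c, g) ∈ cj := by
      have h : ((List.range 3).all fun a => (List.range 3).all fun b => (List.range 3).all fun c =>
          Nat.beq (a + b + c) 0 || (cj.any fun p => Nat.beq p.1 a && (Nat.beq p.2.1 b && Nat.beq p.2.2.1 c))) = true := by
        decide +kernel
      rw [List.all_eq_true] at h
      have h1 := h a (List.mem_range.2 ha)
      rw [List.all_eq_true] at h1
      have h1 := h1 b' (List.mem_range.2 hb)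
      rw [List.all_eq_true] at h1
      have h1 := h1 c (List.mem_range.2 hc)
      rw [Bool.or_eq_true] at h1
      rcases h1 with h1 | h1
      · have := Nat.eq_of_beq_eq_true h1
        omega
      rw [List.any_eq_true] at h1
      obtain ⟨⟨a1, b1, c1, g⟩, hm, h2⟩ := h1
      rw [Bool.and_eq_true, Bool.and_eq_true] at h2
      have e1 := Nat.eq_of_beq_eq_true h2.1
      have e2 := Nat.eq_of_beq_eq_true h2.2.1
      have e3 := Nat.eq_of_beq_eq_true h2.2.2
      simp only at e1 e2 e3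
      subst e1 e2 e3
      exact ⟨g, hm⟩
    obtain ⟨g, hg⟩ := key
    have h := rel (u := g ++ [2]) (v := mw a b' c ++ g)
      (List.mem_append_right _ (List.mem_map.2 ⟨(a, b', c, g), hg, rfl⟩))
    rw [ev_append, ev_append, ev_one] at h
    have e : ev (lt b 4) (mw a b' c) = lt b 4 2 ^ a * ev (lt b 4) sw ^ b' * ev (lt b 4) zw ^ c := by
      unfold mw
      rw [ev_append, ev_append, ev_pw, ev_pw, ev_pw, ev_one, mul_assoc]
    rw [e] at h
    rw [isConj_comm, isConj_iff]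
    refine ⟨ev (lt b 4) g, ?_⟩
    rw [h]
    group

theorem dat_aux (K : Subgroup (GL I52 (ZMod 2))) (hK : K = H0) :
    Nonempty (TitsAbs.Dat (commutator K)) ∧ Nat.card (commutator K) = 2 ^ 11 * 3 ^ 3 * 5 ^ 2 * 13 := by
  subst hK
  exact ⟨⟨dat⟩, H0_result.2.2.2⟩

/-- **The Tits group contains the configuration `TitsAbs.Dat`.** -/
theorem dat_tits : Nonempty (TitsAbs.Dat Cfsg.Lie.TitsGroup) := (dat_aux _ T0_eq_H0).1

theorem card_tits : Nat.card Cfsg.Lie.TitsGroup = 2 ^ 11 * 3 ^ 3 * 5 ^ 2 * 13 := (dat_aux _ T0_eq_H0).2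

end Cfsg.Agent.H87.TitsData
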