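import Mathlib

/-!
# Permutation characters as real functions

* `ip` : the inner product of real functions on a finite group; `pc G Y` : the permutation character;
* `ip_pc` : `ip (pc Y) (pc Z)` is the number of orbits on `Y × Z`;
* `card_orbits_prod` : for `X` transitive this is the number of orbits of a point stabiliser on `Y`.
* `nOrb` and invariants: counting orbits by invariant functions.
-/

set_option autoImplicit false
set_option linter.unusedSectionVars false

namespace Cfsg.Agent.H87.Orb

open Finset MulAction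

section ip

variable {G : Type*} [Group G] [Fintype G]

/-- the inner product of real functions. -/
noncomputable def ip (f g : G → ℝ) : ℝ := (Fintype.card G : ℝ)⁻¹ * ∑ x, f x * g x

theorem ip_comm (f g : G → ℝ) : ip f g = ip g f := by
  unfold ip
  congr 1
  apply sum_congr rfl
  intro x _
  ring

theorem ip_add_left (f g h : G → ℝ) : ip (f + g) h = ip f h + ip g h := by
  unfold ip
  rw [← mul_add, ← sum_add_distrib]
  congr 1
  apply sum_congr rfl
  intro x _
  rw [Pi.add_apply]
  ring

theorem ip_add_right (f g h : G → ℝ) : ip f (g + h) = ip f g + ip f h := by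
  rw [ip_comm, ip_add_left, ip_comm g, ip_comm h]

theorem ip_smul_left (c : ℝ) (f g : G → ℝ) : ip (c • f) g = c * ip f g := by
  have h1 : ∑ x, (c • f) x * g x = c * ∑ x, f x * g x := by
    rw [mul_sum]
    apply sum_congr rfl
    intro x _
    rw [Pi.smul_apply, smul_eq_mul]
    ring
  unfold ip
  rw [h1]
  ring

theorem ip_smul_right (c : ℝ) (f g : G → ℝ) : ip f (c • g) = c * ip f g := by
  rw [ip_comm, ip_smul_left, ip_comm]

theorem ip_neg_left (f g : G → ℝ) : ip (-f) g = - ip f g := by
  rw [← neg_one_smul ℝ f, ip_smul_left]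
  ring

theorem ip_neg_right (f g : G → ℝ) : ip f (-g) = - ip f g := by
  rw [ip_comm, ip_neg_left, ip_comm]

theorem ip_sub_left (f g h : G → ℝ) : ip (f - g) h = ip f h - ip g h := by
  rw [sub_eq_add_neg, ip_add_left, ip_neg_left]
  ring

theorem ip_sub_right (f g h : G → ℝ) : ip f (g - h) = ip f g - ip f h := by
  rw [ip_comm, ip_sub_left, ip_comm g, ip_comm h]

theorem ip_zero_left (f : G → ℝ) : ip 0 f = 0 := by
  simp [ip]

theorem ip_zero_right (f : G → ℝ) : ip f 0 = 0 := by
  simp [ip]

theorem ip_self_nonneg (f : G → ℝ) : 0 ≤ ip f f := by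
  unfold ip
  apply mul_nonneg
  · positivity
  · exact sum_nonneg fun x _ => mul_self_nonneg _

theorem ip_self_eq_zero {f : G → ℝ} (h : ip f f = 0) : f = 0 := by
  unfold ip at h
  rcases mul_eq_zero.1 h with h1 | h1
  · exfalso
    have : (Fintype.card G : ℝ) ≠ 0 := by
      rw [Nat.cast_ne_zero]
      exact Fintype.card_ne_zero
    exact this (inv_eq_zero.1 h1)
  · rw [sum_eq_zero_iff_of_nonneg (fun x _ => mul_self_nonneg _)] at h1
    funext x
    exact mul_self_eq_zero.1 (h1 x (mem_univ x))

theorem ip_sum_right {ι : Type*} (s : Finset ι) (f : G → ℝ) (g : ι → G → ℝ) :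
    ip f (∑ i ∈ s, g i) = ∑ i ∈ s, ip f (g i) := by
  classical
  induction s using Finset.induction_on with
  | empty => rw [sum_empty, sum_empty, ip_zero_right]
  | insert a s ha ih => rw [sum_insert ha, sum_insert ha, ip_add_right, ih]

theorem ip_sum_left {ι : Type*} (s : Finset ι) (f : G → ℝ) (g : ι → G → ℝ) :
    ip (∑ i ∈ s, g i) f = ∑ i ∈ s, ip (g i) f := by
  rw [ip_comm, ip_sum_right]
  exact sum_congr rfl fun i _ => ip_comm _ _

/-- two unit vectors with inner product `±1`. -/
theorem eq_of_norm_one {f g : G → ℝ} (hf : ip f f = 1) (hg : ip g g = 1) (h : ip f g = 1) : f = g := by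
  have h1 : ip (f - g) (f - g) = 0 := by
    rw [ip_sub_left, ip_sub_right, ip_sub_right, hf, hg, h, ip_comm g f, h]
    ring
  have := ip_self_eq_zero h1
  exact sub_eq_zero.1 this

theorem ip_sq_le {f g : G → ℝ} (hf : ip f f = 1) (hg : ip g g = 1) : |ip f g| ≤ 1 := by
  have h1 := ip_self_nonneg (f - g)
  have h2 := ip_self_nonneg (f + g)
  rw [ip_sub_left, ip_sub_right, ip_sub_right, hf, hg, ip_comm g f] at h1
  rw [ip_add_left, ip_add_right, ip_add_right, hf, hg, ip_comm g f] at h2
  rw [abs_le]
  constructor <;> linarith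

end ip

section pc

variable (G : Type*) [Group G]

/-- the permutation character. -/
noncomputable def pc (Y : Type*) [MulAction G Y] : G → ℝ := fun g => (Nat.card (fixedBy Y g) : ℝ)

/-- the number of orbits. -/
noncomputable def nOrb (Y : Type*) [MulAction G Y] : ℕ := Nat.card (orbitRel.Quotient G Y)

variable {G}

theorem pc_one (Y : Type*) [MulAction G Y] : pc G Y 1 = Nat.card Y := by
  unfold pc
  congr 1
  exact Nat.card_congr (Equiv.subtypeUnivEquiv (fun y => one_smul G y))

theorem pc_congr {Y Z : Type*} [MulAction G Y] [MulAction G Z] (e : Y ≃ Z) (he : ∀ (g : G) (y : Y), e (g • y) = g • e y) :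
    pc G Y = pc G Z := by
  funext g
  unfold pc
  congr 1
  refine Nat.card_congr (e.subtypeEquiv fun y => ?_)
  rw [mem_fixedBy, mem_fixedBy, ← he]
  exact e.injective.eq_iff.symm

theorem ip_pc [Fintype G] (Y Z : Type*) [MulAction G Y] [MulAction G Z] [Finite Y] [Finite Z] :
    ip (pc G Y) (pc G Z) = (nOrb G (Y × Z) : ℝ) := by
  classical
  have : Fintype Y := Fintype.ofFinite _
  have : Fintype Z := Fintype.ofFinite _
  have h1 : ∀ g : G, pc G Y g * pc G Z g = (Fintype.card (fixedBy (Y × Z) g) : ℝ) := by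
    intro g
    rw [pc, pc, ← Nat.cast_mul, ← Nat.card_prod, ← Nat.card_eq_fintype_card]
    congr 1
    refine Nat.card_congr ⟨fun x => ⟨(x.1.1, x.2.1), ?_⟩, fun x => (⟨x.1.1, ?_⟩, ⟨x.1.2, ?_⟩), ?_, ?_⟩
    · rw [mem_fixedBy]
      exact Prod.ext x.1.2 x.2.2
    · exact congrArg Prod.fst x.2
    · exact congrArg Prod.snd x.2
    · intro x; rfl
    · intro x; rfl
  have h2 := sum_card_fixedBy_eq_card_orbits_mul_card_group G (Y × Z)
  rw [ip, Finset.sum_congr rfl (fun g _ => h1 g), ← Nat.cast_sum, h2, Nat.cast_mul, nOrb, ← Nat.card_eq_fintype_card,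
    ← Nat.card_eq_fintype_card, mul_comm, mul_assoc, mul_inv_cancel₀, mul_one]
  rw [Nat.cast_ne_zero]
  exact Nat.card_pos.ne'

theorem nOrb_congr {H : Type*} [Group H] {Y Z : Type*} [MulAction G Y] [MulAction H Z] (e : Y ≃ Z)
    (he : ∀ y y' : Y, y ∈ orbit G y' ↔ e y ∈ orbit H (e y')) : nOrb G Y = nOrb H Z := by
  unfold nOrb
  exact Nat.card_congr (Quotient.congr e he)

/-- orbits on `X × Y` for `X` transitive. -/
theorem card_orbits_prod {X Y : Type*} [MulAction G X] [MulAction G Y] [IsPretransitive G X] (x : X) :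
    nOrb G (X × Y) = nOrb (stabilizer G x) Y := by
  unfold nOrb
  symm
  refine Nat.card_congr (Equiv.ofBijective (Quotient.map' (fun y : Y => (x, y)) ?_) ⟨?_, ?_⟩)
  · rintro y y' ⟨k, rfl⟩
    refine ⟨k.1, ?_⟩
    change (k.1 • x, k.1 • y') = (x, k.1 • y')
    rw [k.2]
  · intro a b
    refine Quotient.inductionOn₂ a b ?_
    intro y y' h
    have h1 : (x, y) ∈ orbit G (x, y') := (Quotient.exact h : _)
    obtain ⟨g, hg⟩ := h1
    apply Quotient.sound
    refine ⟨⟨g, congrArg Prod.fst hg⟩, congrArg Prod.snd hg⟩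
  · intro a
    refine Quotient.inductionOn a ?_
    rintro ⟨x', y⟩
    obtain ⟨g, hg⟩ := exists_smul_eq G x' x
    refine ⟨Quotient.mk _ (g • y), ?_⟩
    apply Quotient.sound
    refine ⟨g, ?_⟩
    change (g • x', g • y) = (x, g • y)
    rw [hg]

theorem nOrb_eq_one {Y : Type*} [MulAction G Y] [IsPretransitive G Y] [Nonempty Y] : nOrb G Y = 1 := by
  unfold nOrb
  rw [Nat.card_eq_one_iff_unique]
  constructor
  · constructor
    intro a b
    refine Quotient.inductionOn₂ a b ?_
    intro y y'
    exact Quotient.sound (exists_smul_eq G y' y)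
  · exact ⟨Quotient.mk _ (Classical.arbitrary Y)⟩

theorem nOrb_pos {Y : Type*} [MulAction G Y] [Finite Y] [Nonempty Y] : 0 < nOrb G Y := by
  have : Nonempty (orbitRel.Quotient G Y) := ⟨Quotient.mk _ (Classical.arbitrary Y)⟩
  exact Nat.card_pos

theorem pretransitive_of_nOrb {Y : Type*} [MulAction G Y] (h : nOrb G Y = 1) (y y' : Y) : ∃ g : G, g • y = y' := by
  unfold nOrb at h
  rw [Nat.card_eq_one_iff_unique] at h
  have h1 := h.1.elim (Quotient.mk (orbitRel G Y) y') (Quotient.mk _ y)
  exact Quotient.exact h1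

/-- the classes of an action as a function to `Fin N`. -/
theorem exists_class {Y : Type*} [MulAction G Y] [Finite Y] {N : ℕ} (h : nOrb G Y = N) :
    ∃ c : Y → Fin N, Function.Surjective c ∧ ∀ x y, c x = c y ↔ ∃ g : G, g • y = x := by
  have hfin : Finite (orbitRel.Quotient G Y) := inferInstance
  subst h
  let e : orbitRel.Quotient G Y ≃ Fin (nOrb G Y) := Finite.equivFin _
  refine ⟨fun y => e (Quotient.mk _ y), ?_, ?_⟩
  · intro t
    obtain ⟨y, hy⟩ := Quotient.exists_rep (e.symm t)
    refine ⟨y, ?_⟩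
    change e (Quotient.mk _ y) = t
    rw [hy, e.apply_symm_apply]
  · intro x y
    rw [e.injective.eq_iff]
    exact ⟨fun h => Quotient.exact h, fun h => Quotient.sound h⟩

/-- An invariant function bounds the number of orbits. -/
theorem card_le_nOrb {Y T : Type*} [MulAction G Y] [Finite Y] (f : Y → T) (hf : ∀ (g : G) (y : Y), f (g • y) = f y)
    (s : Finset T) (hs : ∀ t ∈ s, ∃ y, f y = t) : s.card ≤ nOrb G Y := by
  classical
  have : Fintype Y := Fintype.ofFinite _
  have : Fintype (orbitRel.Quotient G Y) := Fintype.ofFinite _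
  let f' : orbitRel.Quotient G Y → T := Quotient.lift f (by
    rintro y y' ⟨g, rfl⟩
    exact hf g y')
  have h1 : s ⊆ univ.image f' := by
    intro t ht
    obtain ⟨y, hy⟩ := hs t ht
    exact mem_image.2 ⟨Quotient.mk _ y, mem_univ _, hy⟩
  calc s.card ≤ (univ.image f').card := card_le_card h1
    _ ≤ (univ : Finset (orbitRel.Quotient G Y)).card := card_image_le
    _ = nOrb G Y := by rw [nOrb, Nat.card_eq_fintype_card, card_univ]

/-- An invariant function with as many values as orbits is a complete invariant. -/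
theorem orbit_of_invariant {Y T : Type*} [MulAction G Y] [Finite Y] (f : Y → T)
    (hf : ∀ (g : G) (y : Y), f (g • y) = f y) (s : Finset T) (hs : ∀ t ∈ s, ∃ y, f y = t) (hc : nOrb G Y ≤ s.card)
    {y y' : Y} (h : f y = f y') : ∃ g : G, g • y = y' := by
  classical
  have : Fintype Y := Fintype.ofFinite _
  have : Fintype (orbitRel.Quotient G Y) := Fintype.ofFinite _
  let f' : orbitRel.Quotient G Y → T := Quotient.lift f (by
    rintro y y' ⟨g, rfl⟩
    exact hf g y')
  have h1 : s ⊆ univ.image f' := by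
    intro t ht
    obtain ⟨y, hy⟩ := hs t ht
    exact mem_image.2 ⟨Quotient.mk _ y, mem_univ _, hy⟩
  have h2 : (univ : Finset (orbitRel.Quotient G Y)).card ≤ (univ.image f').card := by
    calc (univ : Finset (orbitRel.Quotient G Y)).card = nOrb G Y := by
          rw [nOrb, Nat.card_eq_fintype_card, card_univ]
      _ ≤ s.card := hc
      _ ≤ (univ.image f').card := card_le_card h1
  have h3 : Function.Injective f' := by
    have h4 := card_image_iff.1 (le_antisymm card_image_le h2)
    exact fun a b hab => h4 (mem_coe.2 (mem_univ a)) (mem_coe.2 (mem_univ b)) hab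
  have h4 : (Quotient.mk (orbitRel G Y) y') = Quotient.mk _ y := h3 (by
    change f y' = f y
    exact h.symm)
  exact Quotient.exact h4

end pc

end Cfsg.Agent.H87.Orb
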