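import Cfsg.Agent.H139.FlagInner
import Cfsg.Agent.H87.Orb

/-!
# Inner products of flag characters of `SL_n(q)`

`ip_theta` : the inner product over `SL_n(q)` of the permutation characters on the cosets of two standard parabolic
subgroups of `GL_n(q)` is the number of matrices with the given margins.
-/

set_option autoImplicit false

namespace Cfsg.Agent.H87.SLInner

open scoped MatrixGroups
open Finset MulAction Matrix Cfsg.Agent.H87.Orb Cfsg.Agent.H139.Bruhat Cfsg.Agent.H139.FlagInner
open Cfsg.Agent.H139.Young Cfsg.Agent.H139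

variable {F : Type*} [Field F] {n : ℕ}

/-- the cosets of a standard parabolic subgroup. -/
def Co (F : Type*) [Field F] {n : ℕ} (a : Fin n → ℕ) : Type _ := GL (Fin n) F ⧸ parabolicGL n F a

instance (a : Fin n → ℕ) : MulAction (GL (Fin n) F) (Co F a) :=
  inferInstanceAs (MulAction (GL (Fin n) F) (GL (Fin n) F ⧸ parabolicGL n F a))

instance (a : Fin n → ℕ) : IsPretransitive (GL (Fin n) F) (Co F a) :=
  inferInstanceAs (IsPretransitive (GL (Fin n) F) (GL (Fin n) F ⧸ parabolicGL n F a))

instance (a : Fin n → ℕ) : MulAction (SpecialLinearGroup (Fin n) F) (Co F a) :=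
  MulAction.compHom _ (SpecialLinearGroup.toGL (n := Fin n) (R := F))

instance [Finite F] (a : Fin n → ℕ) : Finite (Co F a) :=
  inferInstanceAs (Finite (GL (Fin n) F ⧸ parabolicGL n F a))

instance (a : Fin n → ℕ) : Nonempty (Co F a) :=
  inferInstanceAs (Nonempty (GL (Fin n) F ⧸ parabolicGL n F a))

theorem sl_smul (a : Fin n → ℕ) (g : SpecialLinearGroup (Fin n) F) (y : Co F a) :
    g • y = (SpecialLinearGroup.toGL g : GL (Fin n) F) • y := rfl

/-- diagonal matrices. -/
def dg (d : Fin n → Fˣ) : GL (Fin n) F :=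
  Units.map (Matrix.diagonalRingHom (Fin n) F).toMonoidHom (MulEquiv.piUnits.symm d)

theorem coe_dg (d : Fin n → Fˣ) : ((dg d : GL (Fin n) F) : Matrix (Fin n) (Fin n) F) = Matrix.diagonal fun i => (d i : F) :=
  rfl

theorem dg_mem (d : Fin n → Fˣ) : dg d ∈ upperTriangularGL n F := by
  intro i j hij
  rw [coe_dg, Matrix.diagonal_apply_ne]
  exact (ne_of_gt hij)

theorem dg_perm (d : Fin n → Fˣ) (σ : Equiv.Perm (Fin n)) :
    dg d * permGL F n σ = permGL F n σ * dg (fun i => d (σ i)) := by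
  apply Units.ext
  ext i j
  rw [Units.val_mul, Units.val_mul, permGL_mul_apply, coe_dg, coe_dg, Matrix.diagonal_mul, coe_permGL]
  rw [Matrix.diagonal_apply]
  have h1 : (Equiv.Perm.permMatrix F σ⁻¹) i j = if σ⁻¹ i = j then 1 else 0 := by
    rw [Equiv.Perm.permMatrix, PEquiv.toMatrix_apply]
    simp only [Equiv.toPEquiv_apply, Option.mem_def, Option.some.injEq]
  rw [h1]
  split_ifs with h
  · rw [mul_one]
    congr 2
    simp
  · rw [mul_zero]

theorem det_dg (d : Fin n → Fˣ) : (dg d : GL (Fin n) F).det = ∏ i, d i := by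
  apply Units.ext
  rw [GeneralLinearGroup.val_det_apply, coe_dg, Matrix.det_diagonal, Units.coe_prod]

/-- the stabiliser in `GL_n` of two cosets has elements of all determinants. -/
theorem exists_det (hn : 0 < n) (a b : Fin n → ℕ) (p : Co F a × Co F b) (c : Fˣ) :
    ∃ s : GL (Fin n) F, s.det = c ∧ s • p = p := by
  obtain ⟨p1, p2⟩ := p
  induction p1 using QuotientGroup.induction_on with | H x => ?_
  induction p2 using QuotientGroup.induction_on with | H y => ?_
  obtain ⟨u, hu, σ, v, hv, e⟩ := bruhat (x⁻¹ * y)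
  set d : Fin n → Fˣ := Function.update 1 ⟨0, hn⟩ c with hd
  have hdet : ∏ i, d i = c := by
    rw [hd, Finset.prod_update_of_mem (mem_univ _)]
    simp
  refine ⟨x * u * dg d * u⁻¹ * x⁻¹, ?_, ?_⟩
  · rw [map_mul, map_mul, map_mul, map_mul, map_inv, map_inv, det_dg, hdet]
    have : ∀ X U : Fˣ, X * U * c * U⁻¹ * X⁻¹ = c := by
      intro X U
      rw [show X * U * c * U⁻¹ * X⁻¹ = X * (U * c * U⁻¹) * X⁻¹ by group, mul_inv_cancel_comm, mul_inv_cancel_comm]
    exact this _ _
  · apply Prod.ext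
    · change (QuotientGroup.mk (x * u * dg d * u⁻¹ * x⁻¹ * x) : GL (Fin n) F ⧸ parabolicGL n F a) =
        QuotientGroup.mk x
      rw [QuotientGroup.eq]
      have h1 : (x * u * dg d * u⁻¹ * x⁻¹ * x)⁻¹ * x = u * (dg d)⁻¹ * u⁻¹ := by group
      rw [h1]
      exact mul_mem (mul_mem (upper_le a hu) (inv_mem (upper_le a (dg_mem d)))) (inv_mem (upper_le a hu))
    · change (QuotientGroup.mk (x * u * dg d * u⁻¹ * x⁻¹ * y) : GL (Fin n) F ⧸ parabolicGL n F b) =
        QuotientGroup.mk y
      rw [QuotientGroup.eq]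
      have hy : y = x * (u * permGL F n σ * v) := by rw [← e]; group
      have h1 : (x * u * dg d * u⁻¹ * x⁻¹ * y)⁻¹ * y = v⁻¹ * (dg (fun i => d (σ i)))⁻¹ * v := by
        rw [hy]
        have h2 : x * u * dg d * u⁻¹ * x⁻¹ * (x * (u * permGL F n σ * v)) = x * u * (dg d * permGL F n σ) * v := by
          group
        rw [h2, dg_perm]
        group
      rw [h1]
      exact mul_mem (mul_mem (inv_mem (upper_le b hv)) (inv_mem (upper_le b (dg_mem _)))) (upper_le b hv)

theorem nOrb_SL_eq (hn : 0 < n) (a b : Fin n → ℕ) :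
    nOrb (SpecialLinearGroup (Fin n) F) (Co F a × Co F b) = nOrb (GL (Fin n) F) (Co F a × Co F b) := by
  apply nOrb_congr (Equiv.refl _)
  intro y y'
  constructor
  · rintro ⟨g, hg⟩
    exact ⟨SpecialLinearGroup.toGL g, hg⟩
  · rintro ⟨g, hg⟩
    obtain ⟨s, hs1, hs2⟩ := exists_det hn a b y' (g.det)
    have hdet : ((g * s⁻¹ : GL (Fin n) F) : Matrix (Fin n) (Fin n) F).det = 1 := by
      have h1 : (g * s⁻¹).det = 1 := by
        rw [map_mul, map_inv, hs1, mul_inv_cancel]
      have h2 := congrArg Units.val h1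
      rwa [GeneralLinearGroup.val_det_apply] at h2
    refine ⟨⟨((g * s⁻¹ : GL (Fin n) F) : Matrix (Fin n) (Fin n) F), hdet⟩, ?_⟩
    have h3 : (SpecialLinearGroup.toGL ⟨((g * s⁻¹ : GL (Fin n) F) : Matrix (Fin n) (Fin n) F), hdet⟩ :
        GL (Fin n) F) = g * s⁻¹ := by
      apply Units.ext
      rfl
    change (SpecialLinearGroup.toGL ⟨((g * s⁻¹ : GL (Fin n) F) : Matrix (Fin n) (Fin n) F), hdet⟩ :
        GL (Fin n) F) • y' = y
    rw [h3, mul_smul]
    have h4 : s⁻¹ • y' = y' := by
      rw [inv_smul_eq_iff]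
      exact hs2.symm
    rw [h4]
    exact hg

theorem nOrb_GL [Finite F] (a b : Fin n → ℕ) (ha : ∑ i, a i = n) (hb : ∑ i, b i = n) :
    nOrb (GL (Fin n) F) (Co F a × Co F b) = Nat.card (Marg a b) := by
  classical
  have : Fintype F := Fintype.ofFinite _
  have : Fintype (GL (Fin n) F) := Fintype.ofFinite _
  have h1 := inner_flag (F := F) a b ha hb
  rw [DoubleCoset.inner_eq_card_orbits] at h1
  exact Nat.cast_injective h1

variable (F) in
/-- the flag character. -/
noncomputable def theta (a : Fin n → ℕ) : SpecialLinearGroup (Fin n) F → ℝ :=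
  pc (SpecialLinearGroup (Fin n) F) (Co F a)

/-- **The inner product of two flag characters over `SL_n(q)`.** -/
theorem ip_theta [Finite F] [Fintype (SpecialLinearGroup (Fin n) F)] (hn : 0 < n) (a b : Fin n → ℕ)
    (ha : ∑ i, a i = n) (hb : ∑ i, b i = n) :
    ip (theta F a) (theta F b) = (Nat.card (Marg a b) : ℝ) := by
  rw [theta, theta, ip_pc, nOrb_SL_eq hn, nOrb_GL a b ha hb]

end Cfsg.Agent.H87.SLInner
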