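import Cfsg.Agent.H87.Flags
import Cfsg.Agent.H87.SLInner

/-!
# Flags and cosets of parabolic subgroups

`coEquiv` : the cosets of the parabolic subgroup of a composition are the flags of the corresponding dimensions.
-/

set_option autoImplicit false
set_option linter.unusedSectionVars false

namespace Cfsg.Agent.H87.FlagsGL

open scoped MatrixGroups Pointwise
open Finset MulAction Matrix Module Cfsg.Agent.H87.Orb Cfsg.Agent.H87.SLInner Cfsg.Agent.H87.Flags
open Cfsg.Agent.H139.BlockCount Cfsg.Agent.H139.FlagInner

variable {F : Type*} [Field F] {n : ℕ}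

/-- column vectors (a synonym avoiding the instances of Mathlib). -/
def Vec (F : Type*) (n : ℕ) : Type _ := Fin n → F

instance : AddCommGroup (Vec F n) := inferInstanceAs (AddCommGroup (Fin n → F))

instance : Module F (Vec F n) := inferInstanceAs (Module F (Fin n → F))

instance [Finite F] : Finite (Vec F n) := inferInstanceAs (Finite (Fin n → F))

noncomputable instance [Fintype F] : Fintype (Vec F n) := Fintype.ofFinite _

instance : FiniteDimensional F (Vec F n) := inferInstanceAs (FiniteDimensional F (Fin n → F))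

/-- the coordinates. -/
def co : Vec F n ≃ₗ[F] (Fin n → F) := LinearEquiv.refl F _

theorem finrank_vec : finrank F (Vec F n) = n := by
  rw [(co (F := F) (n := n)).finrank_eq, finrank_fintype_fun_eq_card, Fintype.card_fin]

theorem co_injective : Function.Injective (co (F := F) (n := n)) := co.injective

/-- the natural action of `GL_n`. -/
instance glAct : DistribMulAction (GL (Fin n) F) (Vec F n) where
  smul g v := co.symm ((g : Matrix (Fin n) (Fin n) F) *ᵥ co v)
  one_smul v := by
    change co.symm (((1 : GL (Fin n) F) : Matrix (Fin n) (Fin n) F) *ᵥ co v) = v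
    rw [Units.val_one, Matrix.one_mulVec, LinearEquiv.symm_apply_apply]
  mul_smul g h v := by
    change co.symm (((g * h : GL (Fin n) F) : Matrix (Fin n) (Fin n) F) *ᵥ co v) =
      co.symm ((g : Matrix (Fin n) (Fin n) F) *ᵥ co (co.symm ((h : Matrix (Fin n) (Fin n) F) *ᵥ co v)))
    rw [Units.val_mul, LinearEquiv.apply_symm_apply, Matrix.mulVec_mulVec]
  smul_zero g := by
    change co.symm ((g : Matrix (Fin n) (Fin n) F) *ᵥ co 0) = 0
    rw [map_zero, Matrix.mulVec_zero, map_zero]
  smul_add g v w := by
    change co.symm ((g : Matrix (Fin n) (Fin n) F) *ᵥ co (v + w)) =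
      co.symm ((g : Matrix (Fin n) (Fin n) F) *ᵥ co v) + co.symm ((g : Matrix (Fin n) (Fin n) F) *ᵥ co w)
    rw [map_add, Matrix.mulVec_add, map_add]

theorem co_smul (g : GL (Fin n) F) (v : Vec F n) : co (g • v) = (g : Matrix (Fin n) (Fin n) F) *ᵥ co v :=
  co.apply_symm_apply _

instance glComm : SMulCommClass (GL (Fin n) F) F (Vec F n) where
  smul_comm g c v := by
    apply co_injective
    rw [co_smul, map_smul, map_smul, co_smul, Matrix.mulVec_smul]

/-- the natural action of `SL_n`. -/
instance slAct : DistribMulAction (SpecialLinearGroup (Fin n) F) (Vec F n) :=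
  DistribMulAction.compHom (Vec F n) (SpecialLinearGroup.toGL (n := Fin n) (R := F))

theorem sl_smul_eq (g : SpecialLinearGroup (Fin n) F) (v : Vec F n) :
    g • v = (SpecialLinearGroup.toGL g : GL (Fin n) F) • v := rfl

theorem co_smul' (g : SpecialLinearGroup (Fin n) F) (v : Vec F n) :
    co (g • v) = (g : Matrix (Fin n) (Fin n) F) *ᵥ co v := by
  rw [sl_smul_eq, co_smul]
  rfl

instance slComm : SMulCommClass (SpecialLinearGroup (Fin n) F) F (Vec F n) where
  smul_comm g c v := by
    rw [sl_smul_eq, sl_smul_eq, smul_comm]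

/-- the standard subspaces. -/
def E (F : Type*) [Field F] (n k : ℕ) : Submodule F (Vec F n) where
  carrier := {v | ∀ i : Fin n, k ≤ i.val → co v i = 0}
  add_mem' := by
    intro v w hv hw i hi
    rw [map_add, Pi.add_apply, hv i hi, hw i hi, add_zero]
  zero_mem' := by
    intro i _
    rw [map_zero, Pi.zero_apply]
  smul_mem' := by
    intro c v hv i hi
    rw [map_smul, Pi.smul_apply, hv i hi, smul_zero]

theorem mem_E {k : ℕ} {v : Vec F n} : v ∈ E F n k ↔ ∀ i : Fin n, k ≤ i.val → co v i = 0 := Iff.rfl

theorem E_mono {k l : ℕ} (h : k ≤ l) : E F n k ≤ E F n l := fun _ hv i hi => hv i (h.trans hi)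

theorem finrank_E [Finite F] {k : ℕ} (hk : k ≤ n) : finrank F (E F n k) = k := by
  classical
  have : Fintype F := Fintype.ofFinite F
  have : Fintype (E F n k) := Fintype.ofFinite _
  have h1 := card_coord (F := F) (univ.filter fun i : Fin n => i.val < k)
  have h2 : Nat.card {v : Fin n → F // ∀ i, i ∉ (univ.filter fun i : Fin n => i.val < k) → v i = 0} =
      Nat.card (E F n k) := by
    refine Nat.card_congr (co.symm.toEquiv.subtypeEquiv ?_)
    intro v
    change _ ↔ co.symm v ∈ E F n k
    rw [mem_E]
    simp only [mem_filter, mem_univ, true_and, not_lt, LinearEquiv.apply_symm_apply]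
  have h3 : (univ.filter fun i : Fin n => i.val < k).card = k := by
    have : (univ.filter fun i : Fin n => i.val < k) = (univ : Finset (Fin k)).map (Fin.castLEEmb hk) := by
      ext i
      simp only [mem_filter, mem_univ, true_and, mem_map, Fin.castLEEmb_apply]
      constructor
      · intro h
        exact ⟨⟨i.val, h⟩, rfl⟩
      · rintro ⟨j, rfl⟩
        exact j.isLt
    rw [this, card_map, card_univ, Fintype.card_fin]
  rw [h2, h3, Nat.card_eq_fintype_card, card_eq_pow_finrank (K := F)] at h1
  exact Nat.pow_right_injective Fintype.one_lt_card h1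

/-- a composition matches the dimensions of a flag. -/
structure Matches (a : Fin n → ℕ) {k : ℕ} (d : Fin k → ℕ) : Prop where
  sum : ∑ i, a i = n
  mono : Monotone d
  le : ∀ i, d i ≤ n
  left : ∀ j ≤ n, psum a j = 0 ∨ psum a j = n ∨ ∃ i, d i = psum a j
  right : ∀ i, ∃ j ≤ n, psum a j = d i

/-- the standard flag. -/
def std [Finite F] {k : ℕ} (d : Fin k → ℕ) (hd : Monotone d) (hle : ∀ i, d i ≤ n) : Fl F (Vec F n) d :=
  ⟨fun i => E F n (d i), fun _ _ hij => E_mono (hd hij), fun i => finrank_E (hle i)⟩

theorem stabilizer_std [Finite F] {a : Fin n → ℕ} {k : ℕ} {d : Fin k → ℕ} (M : Matches a d) :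
    stabilizer (GL (Fin n) F) (std (F := F) d M.mono M.le) = parabolicGL n F a := by
  have hp : psum a n = n := by rw [psum_last, M.sum]
  have hE : ∀ j ≤ n, ∀ v : Vec F n, v ∈ E F n (psum a j) ↔ ∀ i, j ≤ compLabel a i → co v i = 0 := by
    intro j hj v
    rw [mem_E]
    have : ∀ i : Fin n, psum a j ≤ i.val ↔ j ≤ compLabel a i := by
      intro i
      have := compLabel_lt_iff a i hj hp
      omega
    simp only [this]
  ext g
  rw [mem_stabilizer_iff]
  constructor
  · intro h l m hlm
    have hj := compLabel_lt a M.sum l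
    set e : Vec F n := co.symm (Pi.single m 1) with he
    have hce : co e = Pi.single m 1 := co.apply_symm_apply _
    have hmem : e ∈ E F n (psum a (compLabel a l)) := by
      rw [hE _ hj.le]
      intro i hi
      rw [hce, Pi.single_eq_of_ne]
      rintro rfl
      omega
    have hgoal : g • e ∈ E F n (psum a (compLabel a l)) → (g : Matrix (Fin n) (Fin n) F) l m = 0 := by
      intro h1
      rw [hE _ hj.le] at h1
      have h2 := h1 l le_rfl
      rw [co_smul, hce, Matrix.mulVec_single_one] at h2
      exact h2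
    rcases M.left _ hj.le with h1 | h1 | ⟨i, h1⟩
    · exfalso
      rw [h1] at hmem
      have := hmem m (Nat.zero_le _)
      rw [hce, Pi.single_eq_same] at this
      exact one_ne_zero this
    · exfalso
      have h2 := (compLabel_lt_iff a l hj.le hp).2 (by rw [h1]; exact l.isLt)
      exact lt_irrefl _ h2
    · apply hgoal
      have h2 := congrArg (fun W => W.1 i) h
      change g • E F n (d i) = E F n (d i) at h2
      rw [h1] at h2
      rw [← h2]
      exact smul_mem_smul.2 hmem
  · intro h
    apply Subtype.ext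
    funext i
    change g • E F n (d i) = E F n (d i)
    apply Submodule.eq_of_le_of_finrank_eq
    · intro x hx
      rw [mem_smul_iff] at hx
      set v := g⁻¹ • x with hv0
      have hx' : x = g • v := by rw [hv0, smul_inv_smul]
      rw [hx']
      obtain ⟨j, hj, e⟩ := M.right i
      rw [← e] at hx ⊢
      rw [hE j hj] at hx ⊢
      rw [co_smul]
      exact stable (compLabel a) h hx
    · exact Flags.finrank_smul _ _

/-- an invertible matrix from a linear automorphism. -/
theorem exists_gl (g : Vec F n ≃ₗ[F] Vec F n) : ∃ g' : GL (Fin n) F, ∀ v : Vec F n, g' • v = g v := by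
  let f : (Fin n → F) ≃ₗ[F] (Fin n → F) := co.symm ≪≫ₗ g ≪≫ₗ co
  refine ⟨⟨LinearMap.toMatrix' (f : (Fin n → F) →ₗ[F] (Fin n → F)),
    LinearMap.toMatrix' (f.symm : (Fin n → F) →ₗ[F] (Fin n → F)), ?_, ?_⟩, ?_⟩
  · rw [← LinearMap.toMatrix'_comp, LinearEquiv.comp_coe, LinearEquiv.symm_trans_self,
      LinearEquiv.refl_toLinearMap, LinearMap.toMatrix'_id]
  · rw [← LinearMap.toMatrix'_comp, LinearEquiv.comp_coe, LinearEquiv.self_trans_symm,
      LinearEquiv.refl_toLinearMap, LinearMap.toMatrix'_id]
  · intro v
    apply co_injective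
    rw [co_smul]
    refine (LinearMap.toMatrix'_mulVec _ _).trans ?_
    change co (g (co.symm (co v))) = _
    rw [LinearEquiv.symm_apply_apply]

/-- `GL_n` is transitive on flags of given dimensions. -/
theorem fl_transitive {k : ℕ} {d : Fin k → ℕ} (W W' : Fl F (Vec F n) d) : ∃ g : GL (Fin n) F, g • W = W' := by
  obtain ⟨g, hg⟩ := chain W.1 W'.1 W.2.1 W'.2.1 (fun i => by rw [W.2.2, W'.2.2])
  obtain ⟨g', hg'⟩ := exists_gl g
  refine ⟨g', Subtype.ext (funext fun i => ?_)⟩
  rw [smul_val, ← hg i]
  ext x
  rw [mem_smul_iff]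
  constructor
  · intro h
    refine ⟨g'⁻¹ • x, h, ?_⟩
    have := hg' (g'⁻¹ • x)
    rw [smul_inv_smul] at this
    exact this.symm
  · rintro ⟨y, hy, rfl⟩
    have h1 : g'⁻¹ • g y = y := by rw [← hg', inv_smul_smul]
    have h2 : g'⁻¹ • g y ∈ W.1 i := by
      rw [h1]
      exact hy
    exact h2

/-- the map from cosets to flags. -/
noncomputable def coMap [Finite F] {a : Fin n → ℕ} {k : ℕ} {d : Fin k → ℕ} (M : Matches a d) :
    Co F a → Fl F (Vec F n) d :=
  Quotient.lift (fun g : GL (Fin n) F => g • std (F := F) d M.mono M.le) (by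
    intro g h hgh
    have h1 : g⁻¹ * h ∈ parabolicGL n F a := QuotientGroup.leftRel_apply.1 hgh
    rw [← stabilizer_std M, mem_stabilizer_iff, mul_smul, inv_smul_eq_iff] at h1
    exact h1.symm)

theorem coMap_mk [Finite F] {a : Fin n → ℕ} {k : ℕ} {d : Fin k → ℕ} (M : Matches a d) (g : GL (Fin n) F) :
    coMap M (QuotientGroup.mk g : GL (Fin n) F ⧸ parabolicGL n F a) = g • std (F := F) d M.mono M.le := rfl

theorem coMap_bijective [Finite F] {a : Fin n → ℕ} {k : ℕ} {d : Fin k → ℕ} (M : Matches a d) :
    Function.Bijective (coMap (F := F) M) := by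
  constructor
  · intro x y hxy
    induction x using QuotientGroup.induction_on with | H x => ?_
    induction y using QuotientGroup.induction_on with | H y => ?_
    rw [coMap_mk, coMap_mk] at hxy
    apply QuotientGroup.eq.2
    rw [← stabilizer_std M, mem_stabilizer_iff, mul_smul, inv_smul_eq_iff]
    exact hxy.symm
  · intro W
    obtain ⟨g, hg⟩ := fl_transitive (std (F := F) d M.mono M.le) W
    exact ⟨QuotientGroup.mk g, hg⟩

theorem coMap_smul [Finite F] {a : Fin n → ℕ} {k : ℕ} {d : Fin k → ℕ} (M : Matches a d) (g : GL (Fin n) F)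
    (x : Co F a) : coMap M (g • x) = g • coMap M x := by
  induction x using QuotientGroup.induction_on with | H x => ?_
  change coMap M (QuotientGroup.mk (g * x) : GL (Fin n) F ⧸ parabolicGL n F a) = _
  rw [coMap_mk, coMap_mk, mul_smul]

/-- the flag character is the permutation character on flags. -/
theorem theta_eq [Finite F] {a : Fin n → ℕ} {k : ℕ} {d : Fin k → ℕ} (M : Matches a d) :
    theta F a = pc (SpecialLinearGroup (Fin n) F) (Fl F (Vec F n) d) := by
  apply pc_congr (Equiv.ofBijective _ (coMap_bijective M))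
  intro g y
  exact coMap_smul M _ y

end Cfsg.Agent.H87.FlagsGL
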