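import Mathlib
import Cfsg.Agent.S2552

/-!
# Flags of subspaces and linear group actions

`Fl F V d` : chains of subspaces with the dimensions `d`; the action of a group acting linearly; `chain` : the
general linear group is transitive on the chains of given dimensions.
-/

set_option autoImplicit false
set_option linter.unusedSectionVars false

namespace Cfsg.Agent.H87.Flags

open Module Submodule
open scoped Pointwise

section act

variable {H F V : Type*} [Group H] [Field F] [AddCommGroup V] [Module F V] [DistribMulAction H V] [SMulCommClass H F V]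

theorem finrank_smul (h : H) (W : Submodule F V) : finrank F ↥(h • W) = finrank F W := by
  have e : h • W = W.map (DistribMulAction.toLinearEquiv F V h : V →ₗ[F] V) := rfl
  rw [e]
  exact LinearEquiv.finrank_map_eq _ _

theorem smul_le_smul {h : H} {W W' : Submodule F V} : h • W ≤ h • W' ↔ W ≤ W' := by
  constructor
  · intro hh x hx
    have h1 : h • x ∈ h • W' := hh (smul_mem_pointwise_smul _ _ _ hx)
    rw [mem_smul_pointwise_iff_exists] at h1
    obtain ⟨b, hb, e⟩ := h1
    rw [smul_left_cancel_iff] at e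
    rwa [← e]
  · intro hh x hx
    rw [mem_smul_pointwise_iff_exists] at hx ⊢
    obtain ⟨b, hb, e⟩ := hx
    exact ⟨b, hh hb, e⟩

theorem smul_mem_smul {h : H} {W : Submodule F V} {v : V} : h • v ∈ h • W ↔ v ∈ W := by
  constructor
  · intro hh
    rw [mem_smul_pointwise_iff_exists] at hh
    obtain ⟨b, hb, e⟩ := hh
    rw [smul_left_cancel_iff] at e
    rwa [← e]
  · intro hh
    exact smul_mem_pointwise_smul _ _ _ hh

theorem mem_smul_iff {h : H} {W : Submodule F V} {v : V} : v ∈ h • W ↔ h⁻¹ • v ∈ W := by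
  rw [← smul_mem_smul (h := h) (v := h⁻¹ • v), smul_inv_smul]

theorem act_span (h : H) (v : V) : h • span F {v} = span F {h • v} := by
  have e : h • span F {v} = (span F {v}).map (DistribMulAction.toLinearEquiv F V h : V →ₗ[F] V) := rfl
  rw [e, map_span, Set.image_singleton]
  rfl

theorem act_sup (h : H) (A B : Submodule F V) : h • (A ⊔ B) = h • A ⊔ h • B := by
  have e : ∀ W : Submodule F V, h • W = W.map (DistribMulAction.toLinearEquiv F V h : V →ₗ[F] V) := fun _ => rfl
  rw [e, e, e, Submodule.map_sup]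

theorem act_inf (h : H) (A B : Submodule F V) : h • (A ⊓ B) = h • A ⊓ h • B := by
  apply le_antisymm
  · exact le_inf (smul_le_smul.2 inf_le_left) (smul_le_smul.2 inf_le_right)
  · rintro x ⟨h1, h2⟩
    have e : x = h • (h⁻¹ • x) := by rw [smul_inv_smul]
    rw [SetLike.mem_coe, e, smul_mem_smul] at h1 h2
    rw [e, smul_mem_smul]
    exact ⟨h1, h2⟩

theorem act_span_pair (h : H) (v w : V) : h • span F {v, w} = span F {h • v, h • w} := by
  rw [span_insert, span_insert, act_sup, act_span, act_span]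

end act

/-- chains of subspaces with given dimensions. -/
def Fl (F V : Type*) [Field F] [AddCommGroup V] [Module F V] {k : ℕ} (d : Fin k → ℕ) : Type _ :=
  {W : Fin k → Submodule F V // Monotone W ∧ ∀ i, finrank F (W i) = d i}

section act2

variable {H F V : Type*} [Group H] [Field F] [AddCommGroup V] [Module F V] [DistribMulAction H V] [SMulCommClass H F V]
variable {k : ℕ} {d : Fin k → ℕ}

instance : MulAction H (Fl F V d) where
  smul h W := ⟨fun i => h • W.1 i, fun _ _ hij => smul_le_smul.2 (W.2.1 hij), fun i => by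
    rw [finrank_smul, W.2.2 i]⟩
  one_smul W := Subtype.ext (funext fun i => one_smul H (W.1 i))
  mul_smul g h W := Subtype.ext (funext fun i => mul_smul g h (W.1 i))

theorem smul_val (h : H) (W : Fl F V d) (i : Fin k) : (h • W).1 i = h • W.1 i := rfl

instance [Finite V] : Finite (Fl F V d) := by
  have : Finite (Submodule F V) := inferInstance
  unfold Fl
  infer_instance

end act2

section chain

variable {F V : Type*} [Field F] [AddCommGroup V] [Module F V] [FiniteDimensional F V]

/-- moving `A` to `B` over a common subspace. -/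
theorem ext_aux {U A B : Submodule F V} (hA : U ≤ A) (hB : U ≤ B) (h : finrank F A = finrank F B) :
    ∃ g : V ≃ₗ[F] V, (∀ u ∈ U, g u = u) ∧ A.map (g : V →ₗ[F] V) = B := by
  obtain ⟨Q, hQ⟩ := Submodule.exists_isCompl U
  have hfr : ∀ {C : Submodule F V}, U ≤ C → finrank F U + finrank F ↥(C ⊓ Q) = finrank F C := by
    intro C hC
    have h1 := finrank_sup_add_finrank_inf_eq U (C ⊓ Q)
    have h2 : U ⊓ (C ⊓ Q) = ⊥ := by
      rw [eq_bot_iff, ← hQ.inf_eq_bot]
      exact inf_le_inf_left _ inf_le_right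
    have h3 : U ⊔ (C ⊓ Q) = C := by
      rw [inf_comm, ← sup_inf_assoc_of_le Q hC, hQ.sup_eq_top, top_inf_eq]
    rw [h2, h3, finrank_bot, add_zero] at h1
    exact h1.symm
  have h1 : finrank F ↥(A ⊓ Q) = finrank F ↥(B ⊓ Q) := by
    have := hfr hA
    have := hfr hB
    omega
  -- an automorphism of `Q`
  obtain ⟨gQ, hgQ⟩ : ∃ gQ : Q ≃ₗ[F] Q, ((A ⊓ Q).comap Q.subtype).map (gQ : Q →ₗ[F] Q) = (B ⊓ Q).comap Q.subtype := by
    apply Cfsg.Agent.S2552.exists_gl
    rw [(comapSubtypeEquivOfLe (inf_le_right : A ⊓ Q ≤ Q)).finrank_eq,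
      (comapSubtypeEquivOfLe (inf_le_right : B ⊓ Q ≤ Q)).finrank_eq, h1]
  let E := Submodule.prodEquivOfIsCompl U Q hQ
  let g : V ≃ₗ[F] V := E.symm ≪≫ₗ ((LinearEquiv.refl F U).prodCongr gQ) ≪≫ₗ E
  have hg : ∀ (u : U) (w : Q), g ((u : V) + (w : V)) = (u : V) + (gQ w : V) := by
    intro u w
    have h2 : E.symm ((u : V) + (w : V)) = (u, w) := by
      apply E.injective
      rw [E.apply_symm_apply]
      simp [E]
    change E (((LinearEquiv.refl F U).prodCongr gQ) (E.symm ((u : V) + (w : V)))) = _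
    rw [h2]
    simp [E]
  refine ⟨g, ?_, ?_⟩
  · intro u hu
    have := hg ⟨u, hu⟩ 0
    rw [map_zero] at this
    simpa using this
  · apply eq_of_le_of_finrank_eq
    · rintro _ ⟨x, hx, rfl⟩
      have hx' : x ∈ U ⊔ Q := by rw [hQ.sup_eq_top]; exact mem_top
      obtain ⟨u, hu, w, hw, rfl⟩ := mem_sup.1 hx'
      have hwA : w ∈ A := (add_mem_cancel_left (hA hu)).1 hx
      have h2 : g (u + w) = u + (gQ ⟨w, hw⟩ : V) := hg ⟨u, hu⟩ ⟨w, hw⟩
      change g (u + w) ∈ B
      rw [h2]
      apply add_mem (hB hu)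
      have h3 : gQ ⟨w, hw⟩ ∈ (B ⊓ Q).comap Q.subtype := by
        rw [← hgQ]
        exact mem_map_of_mem (by exact ⟨hwA, hw⟩)
      exact h3.1
    · rw [LinearEquiv.finrank_map_eq, h]

/-- the general linear group is transitive on chains of given dimensions. -/
theorem chain {k : ℕ} (W W' : Fin k → Submodule F V) (hW : Monotone W) (hW' : Monotone W')
    (h : ∀ i, finrank F (W i) = finrank F (W' i)) :
    ∃ g : V ≃ₗ[F] V, ∀ i, (W i).map (g : V →ₗ[F] V) = W' i := by
  induction k with
  | zero => exact ⟨LinearEquiv.refl F V, fun i => i.elim0⟩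
  | succ k ih =>
    obtain ⟨g, hg⟩ := ih (fun i => W i.castSucc) (fun i => W' i.castSucc)
      (fun i j hij => hW (Fin.castSucc_le_castSucc_iff.2 hij))
      (fun i j hij => hW' (Fin.castSucc_le_castSucc_iff.2 hij)) (fun i => h i.castSucc)
    have hU1 : (⨆ i : Fin k, W' i.castSucc) ≤ (W (Fin.last k)).map (g : V →ₗ[F] V) := by
      apply iSup_le
      intro i
      rw [← hg i]
      exact map_mono (hW (Fin.le_last _))
    have hU2 : (⨆ i : Fin k, W' i.castSucc) ≤ W' (Fin.last k) := iSup_le fun i => hW' (Fin.le_last _)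
    obtain ⟨g', hg'1, hg'2⟩ := ext_aux hU1 hU2 (by rw [LinearEquiv.finrank_map_eq, h])
    refine ⟨g ≪≫ₗ g', ?_⟩
    have hcomp : ∀ C : Submodule F V, C.map ((g ≪≫ₗ g' : V ≃ₗ[F] V) : V →ₗ[F] V) =
        (C.map (g : V →ₗ[F] V)).map (g' : V →ₗ[F] V) := by
      intro C
      rw [← Submodule.map_comp]
      rfl
    intro i
    refine Fin.lastCases ?_ (fun i => ?_) i
    · rw [hcomp, hg'2]
    · rw [hcomp, hg i]
      apply eq_of_le_of_finrank_eq
      · rintro _ ⟨x, hx, rfl⟩
        have : g' x = x := hg'1 x (le_iSup (fun i : Fin k => W' i.castSucc) i hx)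
        change g' x ∈ _
        rw [this]
        exact hx
      · rw [LinearEquiv.finrank_map_eq]

end chain

end Cfsg.Agent.H87.Flags
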