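import Cfsg.Agent.H87.LemS
import Cfsg.Agent.H87.Flags
import Cfsg.Agent.H87.Orb

/-!
# Linear groups with two orbits on points and on lines

`geo3` : a linear group with two orbits on points, two orbits on lines and at most three orbits on incident point-line
pairs leaves a proper subspace invariant.
-/

set_option autoImplicit false
set_option linter.unusedSectionVars false

namespace Cfsg.Agent.H87.Geo3

open Finset Submodule Module MulAction
open Cfsg.Agent.H87.Cov Cfsg.Agent.H87.LemS Cfsg.Agent.H87.Flags Cfsg.Agent.H87.Orb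
open scoped Pointwise

variable {F V : Type*} [Field F] [Fintype F] [AddCommGroup V] [Module F V] [Fintype V]

/-- the number of vectors with `D` on a line is a multiple of the size of a point. -/
theorem exists_mul {P : Submodule F V} {D : V → Prop} (hI : Inv P D) {B : Submodule F V} (hPB : P ≤ B)
    (h : finrank F B = finrank F P + 2) : ∃ m ≤ Fintype.card F + 1, cn D P B = m * u P := by
  classical
  refine ⟨((cov P B).filter fun C => cn D P C = u P).card, ?_, ?_⟩
  · rw [← card_cov_two hPB h]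
    exact card_filter_le _ _
  · rw [cn_eq_sum D hPB, card_filter, sum_mul]
    apply sum_congr rfl
    intro C hC
    obtain ⟨v, _, hv, rfl⟩ := mem_cov.1 hC
    by_cases hD : D v
    · rw [cn_point hI hv hD, if_pos rfl, one_mul]
    · rw [cn_point' hI hv hD, if_neg (u_pos P).ne, zero_mul]

variable {H : Type*} [Group H] [DistribMulAction H V] [SMulCommClass H F V]

/-- the number of vectors is invariant. -/
theorem cn_smul (D : V → Prop) (hD : ∀ (h : H) (v : V), D v → D (h • v)) (h : H) (A B : Submodule F V) :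
    cn D (h • A) (h • B) = cn D A B := by
  classical
  have hD' : ∀ (h : H) (v : V), D (h • v) → D v := by
    intro h v hv
    have := hD h⁻¹ _ hv
    rwa [inv_smul_smul] at this
  symm
  refine card_bij (fun v _ => h • v) ?_ ?_ ?_
  · intro v hv
    simp only [mem_filter, mem_univ, true_and] at hv ⊢
    exact ⟨smul_mem_smul.2 hv.1, fun hh => hv.2.1 (smul_mem_smul.1 hh), hD h v hv.2.2⟩
  · intro v _ w _ e
    exact smul_left_cancel h e
  · intro v hv
    simp only [mem_filter, mem_univ, true_and] at hv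
    refine ⟨h⁻¹ • v, ?_, smul_inv_smul h v⟩
    simp only [mem_filter, mem_univ, true_and]
    exact ⟨mem_smul_iff.1 hv.1, fun hh => hv.2.1 (mem_smul_iff.2 hh), hD h⁻¹ v hv.2.2⟩

/-- the point of a vector. -/
def pt (v : V) (hv : v ≠ 0) : Fl F V ![1] :=
  ⟨fun _ => span F {v}, fun _ _ _ => le_rfl, fun i => by
    fin_cases i
    exact finrank_span_singleton hv⟩

/-- the line of a subspace. -/
def ln (B : Submodule F V) (hB : finrank F B = 2) : Fl F V ![2] :=
  ⟨fun _ => B, fun _ _ _ => le_rfl, fun i => by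
    fin_cases i
    exact hB⟩

/-- a flag. -/
def fl12 (A B : Submodule F V) (hA : finrank F A = 1) (hB : finrank F B = 2) (h : A ≤ B) : Fl F V ![1, 2] :=
  ⟨![A, B], by
    intro i j hij
    fin_cases i <;> fin_cases j
    · exact le_rfl
    · exact h
    · exact absurd hij (by decide)
    · exact le_rfl, fun i => by
    fin_cases i
    · exact hA
    · exact hB⟩

theorem pt_eq {v w : V} (hv : v ≠ 0) (hw : w ≠ 0) (h : span F {v} = span F {w}) :
    pt (F := F) v hv = pt w hw := Subtype.ext (funext fun _ => h)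

theorem smul_pt (h : H) {v : V} (hv : v ≠ 0) (hv' : h • v ≠ 0) : h • pt (F := F) v hv = pt (h • v) hv' := by
  apply Subtype.ext
  funext i
  rw [smul_val]
  exact act_span h v

/-- every point is the point of a vector. -/
theorem exists_pt (W : Fl F V ![1]) : ∃ (v : V) (hv : v ≠ 0), pt (F := F) v hv = W := by
  have h3 : finrank F ↥(W.1 0) = 1 := W.2.2 0
  obtain ⟨v, hv, hv'⟩ := finrank_eq_one_iff'.1 h3
  have hv0 : (v : V) ≠ 0 := fun h0 => hv (Subtype.ext h0)
  refine ⟨v, hv0, ?_⟩
  apply Subtype.ext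
  funext i
  fin_cases i
  change span F {(v : V)} = W.1 0
  apply eq_of_le_of_finrank_eq
  · rw [span_singleton_le_iff_mem]
    exact v.2
  · rw [finrank_span_singleton hv0, h3]

/-- the point of a flag. -/
def p1 (W : Fl F V ![1, 2]) : Fl F V ![1] := ⟨fun _ => W.1 0, fun _ _ _ => le_rfl, fun i => by
  fin_cases i
  exact W.2.2 0⟩

/-- the line of a flag. -/
def p2 (W : Fl F V ![1, 2]) : Fl F V ![2] := ⟨fun _ => W.1 1, fun _ _ _ => le_rfl, fun i => by
  fin_cases i
  exact W.2.2 1⟩

theorem smul_p1 (h : H) (W : Fl F V ![1, 2]) : h • p1 W = p1 (h • W) := rfl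

theorem smul_p2 (h : H) (W : Fl F V ![1, 2]) : h • p2 W = p2 (h • W) := rfl

theorem p1_fl12 (A B : Submodule F V) (hA : finrank F A = 1) (hB : finrank F B = 2) (h : A ≤ B) {v : V} (hv : v ≠ 0)
    (e : A = span F {v}) : p1 (fl12 A B hA hB h) = pt v hv := Subtype.ext (funext fun _ => e)

theorem p2_fl12 (A B : Submodule F V) (hA : finrank F A = 1) (hB : finrank F B = 2) (h : A ≤ B) :
    p2 (fl12 A B hA hB h) = ln B hB := Subtype.ext (funext fun _ => rfl)

theorem act_bot (h : H) : h • (⊥ : Submodule F V) = ⊥ := by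
  rw [eq_bot_iff]
  intro x hx
  rw [mem_smul_iff, mem_bot, smul_eq_zero_iff_eq] at hx
  exact hx

theorem geo3 (hdim : 4 ≤ finrank F V) (h1 : nOrb H (Fl F V ![1]) = 2) (h2 : nOrb H (Fl F V ![2]) = 2)
    (h12 : nOrb H (Fl F V ![1, 2]) ≤ 3) :
    ∃ U : Submodule F V, U ≠ ⊥ ∧ U ≠ ⊤ ∧ ∀ h : H, h • U = U := by
  classical
  -- classes
  obtain ⟨c1, hs1, hc1⟩ := exists_class h1
  obtain ⟨c2, hs2, hc2⟩ := exists_class h2
  -- a missing pair
  obtain ⟨⟨a, c⟩, hac⟩ : ∃ t : Fin 2 × Fin 2, ¬ ∃ W, (c1 (p1 W), c2 (p2 W)) = t := by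
    by_contra hcon
    push Not at hcon
    have h3 := card_le_nOrb (G := H) (fun W : Fl F V ![1, 2] => (c1 (p1 W), c2 (p2 W))) (by
      intro g W
      apply Prod.ext
      · exact (hc1 _ _).2 ⟨g, smul_p1 g W⟩
      · exact (hc2 _ _).2 ⟨g, smul_p2 g W⟩) univ (fun t _ => hcon t)
    rw [card_univ, Fintype.card_prod, Fintype.card_fin] at h3
    omega
  -- the set of points
  let D : V → Prop := fun v => ∃ hv : v ≠ 0, c1 (pt v hv) = a
  have hDs : ∀ (h : H) (v : V), D v → D (h • v) := by
    rintro h v ⟨hv, e⟩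
    have hv' : h • v ≠ 0 := fun h0 => hv ((smul_eq_zero_iff_eq h).1 h0)
    refine ⟨hv', ?_⟩
    rw [← e]
    exact (hc1 _ _).2 ⟨h, smul_pt h hv hv'⟩
  have hI : Inv (⊥ : Submodule F V) D := by
    rintro v w hv hw e ⟨hv', e'⟩
    rw [bot_sup_eq, bot_sup_eq] at e
    have hw' : w ≠ 0 := fun h0 => hw (by rw [h0]; exact zero_mem _)
    refine ⟨hw', ?_⟩
    rw [← e', pt_eq hw' hv' e.symm]
  -- lines of class `c` contain no point of the set
  have hcl : ∀ (B : Submodule F V) (hB : finrank F B = 2), c2 (ln B hB) = c → cn D ⊥ B = 0 := by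
    intro B hB e
    rw [eq_zero_iff]
    rintro v hv hv0 ⟨hv', e'⟩
    refine hac ⟨fl12 (span F {v}) B (finrank_span_singleton hv') hB ((span_singleton_le_iff_mem _ _).2 hv), ?_⟩
    rw [p1_fl12 _ _ _ _ _ hv' rfl, p2_fl12, e', e]
  -- the other lines are conjugate
  have hcl' : ∀ (B B' : Submodule F V) (hB : finrank F B = 2) (hB' : finrank F B' = 2), c2 (ln B hB) ≠ c →
      c2 (ln B' hB') ≠ c → cn D ⊥ B = cn D ⊥ B' := by
    intro B B' hB hB' e e'
    have h3 : c2 (ln B hB) = c2 (ln B' hB') := by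
      generalize c2 (ln B hB) = t at e ⊢
      generalize c2 (ln B' hB') = t' at e' ⊢
      omega
    obtain ⟨g, hg⟩ := (hc2 _ _).1 h3
    have h4 : g • B' = B := congrArg (fun W => W.1 0) hg
    rw [← h4]
    have := cn_smul (F := F) D hDs g ⊥ B'
    rwa [act_bot] at this
  -- representatives of both classes of points
  obtain ⟨b, hb⟩ : ∃ b : Fin 2, b ≠ a := exists_ne a
  have hrep : ∀ t : Fin 2, ∃ (v : V) (hv : v ≠ 0), c1 (pt (F := F) v hv) = t := by
    intro t
    obtain ⟨W, hW⟩ := hs1 t
    obtain ⟨v, hv, e⟩ := exists_pt W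
    exact ⟨v, hv, by rw [e, hW]⟩
  obtain ⟨va, hva, eva⟩ := hrep a
  obtain ⟨vb, hvb, evb⟩ := hrep b
  have hDa : D va := ⟨hva, eva⟩
  have hDb : ¬ D vb := by
    rintro ⟨h, e⟩
    exact hb (evb.symm.trans e)
  have hnot : vb ∉ (⊥ ⊔ span F {va} : Submodule F V) := by
    intro h3
    apply hDb
    have hvb' : vb ∉ (⊥ : Submodule F V) := by rwa [mem_bot]
    have hva' : va ∉ (⊥ : Submodule F V) := by rwa [mem_bot]
    exact hI va vb hva' hvb' (sup_span_eq h3 hvb').symm hDa
  set L : Submodule F V := (⊥ ⊔ span F {va}) ⊔ span F {vb} with hL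
  have hL2 : finrank F L = finrank F (⊥ : Submodule F V) + 2 := by
    rw [hL, finrank_sup_span hnot, finrank_sup_span (by rwa [mem_bot])]
  have hL2' : finrank F L = 2 := by rw [hL2, finrank_bot]
  have hvaL : va ∈ L := mem_sup_left (mem_sup_right (mem_span_singleton_self _))
  have hvbL : vb ∈ L := mem_sup_right (mem_span_singleton_self _)
  obtain ⟨m, hm, em⟩ := exists_mul hI (bot_le : ⊥ ≤ L) hL2
  have hm0 : m ≠ 0 := by
    rintro rfl
    rw [zero_mul, eq_zero_iff] at em
    exact em va hvaL (by rwa [mem_bot]) hDa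
  have hmq : m ≠ Fintype.card F + 1 := by
    rintro rfl
    rw [← cn_true_two bot_le hL2, full_iff] at em
    exact hDb (em vb hvbL (by rwa [mem_bot]))
  have hLc : c2 (ln L hL2') ≠ c := by
    intro e
    have := hcl L hL2' e
    rw [this] at em
    have hu := u_pos (⊥ : Submodule F V)
    rcases Nat.mul_eq_zero.1 em.symm with h | h
    · exact hm0 h
    · omega
  have hlines : Lines (⊥ : Submodule F V) D m := by
    intro B _ hB
    have hB' : finrank F B = 2 := by rw [hB, finrank_bot]
    by_cases hBc : c2 (ln B hB') = c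
    · exact Or.inl (hcl B hB' hBc)
    · right; left
      rw [hcl' B L hB' hL2' hBc hLc, em]
  rcases lemS hI (by omega) (by omega) hlines (by rw [finrank_bot]; omega) ⟨va, by rwa [mem_bot], hDa⟩
    ⟨vb, by rwa [mem_bot], hDb⟩ with ⟨U, hU⟩ | ⟨U, hU⟩
  · refine ⟨U, ?_, ?_, ?_⟩
    · rintro rfl
      have := (hU va).2 (Or.inr ⟨hDa, by rwa [mem_bot]⟩)
      rw [mem_bot] at this
      exact hva this
    · rintro rfl
      rcases (hU vb).1 mem_top with h | h
      · rw [mem_bot] at h
        exact hvb h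
      · exact hDb h.1
    · have key : ∀ h : H, h • U ≤ U := by
        intro h x hx
        rw [mem_smul_iff, hU] at hx
        rw [hU]
        rcases hx with h3 | ⟨h3, h4⟩
        · left
          rwa [mem_bot, smul_eq_zero_iff_eq, ← mem_bot F] at h3
        · right
          have h5 := hDs h _ h3
          rw [smul_inv_smul] at h5
          refine ⟨h5, ?_⟩
          rwa [mem_bot, smul_eq_zero_iff_eq, ← mem_bot F] at h4
      intro h
      exact eq_of_le_of_finrank_eq (key h) (Flags.finrank_smul h U)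
  · refine ⟨U, ?_, ?_, ?_⟩
    · rintro rfl
      have := (hU vb).2 (Or.inr ⟨hDb, by rwa [mem_bot]⟩)
      rw [mem_bot] at this
      exact hvb this
    · rintro rfl
      rcases (hU va).1 mem_top with h | h
      · rw [mem_bot] at h
        exact hva h
      · exact h.1 hDa
    · have key : ∀ h : H, h • U ≤ U := by
        intro h x hx
        rw [mem_smul_iff, hU] at hx
        rw [hU]
        rcases hx with h3 | ⟨h3, h4⟩
        · left
          rwa [mem_bot, smul_eq_zero_iff_eq, ← mem_bot F] at h3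
        · right
          refine ⟨fun h5 => h3 (hDs _ _ h5), ?_⟩
          rwa [mem_bot, smul_eq_zero_iff_eq, ← mem_bot F] at h4
      intro h
      exact eq_of_le_of_finrank_eq (key h) (Flags.finrank_smul h U)

end Cfsg.Agent.H87.Geo3
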