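import Cfsg.Agent.H87.Geo3

/-!
# Point-transitive linear groups with two orbits on lines: the subspaces `U x`

`step3` : if there are three orbits on incident point-plane pairs and at most four orbits on point-line-plane flags,
then for one of the two classes of lines, the union of the lines of the class through a point is a subspace.
-/

set_option autoImplicit false
set_option linter.unusedSectionVars false

namespace Cfsg.Agent.H87.Geo5

open Finset Submodule Module MulAction
open Cfsg.Agent.H87.Cov Cfsg.Agent.H87.LemS Cfsg.Agent.H87.Flags Cfsg.Agent.H87.Orb Cfsg.Agent.H87.Geo3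
open scoped Pointwise

variable {F V : Type*} [Field F] [Fintype F] [AddCommGroup V] [Module F V] [Fintype V]
variable {H : Type*} [Group H] [DistribMulAction H V] [SMulCommClass H F V]

variable (H) in
/-- an invariant proper class of lines. -/
structure LL (L : Submodule F V → Prop) : Prop where
  fr : ∀ B : Submodule F V, L B → finrank F B = 2
  inv : ∀ (h : H) (B : Submodule F V), L B → L (h • B)
  ex : ∃ B : Submodule F V, L B
  ex' : ∃ B : Submodule F V, finrank F B = 2 ∧ ¬ L B

/-- the complementary class. -/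
def Lc (L : Submodule F V → Prop) : Submodule F V → Prop := fun B => finrank F B = 2 ∧ ¬ L B

theorem LL.inv_iff {L : Submodule F V → Prop} (hL : LL H L) (h : H) (B : Submodule F V) : L (h • B) ↔ L B := by
  refine ⟨fun hh => ?_, hL.inv h B⟩
  have := hL.inv h⁻¹ _ hh
  rwa [inv_smul_smul] at this

theorem LL.compl {L : Submodule F V → Prop} (hL : LL H L) : LL H (Lc L) where
  fr := fun _ h => h.1
  inv := by
    rintro h B ⟨h1, h2⟩
    exact ⟨by rw [Flags.finrank_smul, h1], fun h3 => h2 ((hL.inv_iff h B).1 h3)⟩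
  ex := hL.ex'
  ex' := by
    obtain ⟨B, hB⟩ := hL.ex
    exact ⟨B, hL.fr B hB, fun h => h.2 hB⟩

open Classical in
/-- the number of lines of the class between `P` and `B`. -/
noncomputable def nl (L : Submodule F V → Prop) (P B : Submodule F V) : ℕ := ((cov P B).filter fun C => L C).card

/-- the set of points. -/
def DL (L : Submodule F V → Prop) (P : Submodule F V) (v : V) : Prop := L (P ⊔ span F {v})

theorem inv_DL (L : Submodule F V → Prop) (P : Submodule F V) : Inv P (DL L P) := by
  intro v w _ _ e h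
  unfold DL at h ⊢
  rwa [← e]

theorem cn_DL (L : Submodule F V → Prop) {P B : Submodule F V} (hPB : P ≤ B) :
    cn (DL L P) P B = nl L P B * u P := by
  classical
  rw [cn_eq_sum _ hPB, nl, card_filter, sum_mul]
  apply sum_congr rfl
  intro C hC
  obtain ⟨v, _, hv, rfl⟩ := mem_cov.1 hC
  by_cases hD : L (P ⊔ span F {v})
  · rw [cn_point (inv_DL L P) hv hD, if_pos hD, one_mul]
  · rw [cn_point' (inv_DL L P) hv hD, if_neg hD, zero_mul]

theorem cov_smul (h : H) (A B : Submodule F V) (C : Submodule F V) : h • C ∈ cov (h • A) (h • B) ↔ C ∈ cov A B := by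
  rw [mem_cov, mem_cov]
  constructor
  · rintro ⟨v, hv1, hv2, e⟩
    refine ⟨h⁻¹ • v, mem_smul_iff.1 hv1, fun hh => hv2 (mem_smul_iff.2 hh), ?_⟩
    have h1 : h • (A ⊔ span F {h⁻¹ • v}) = h • C := by
      rw [act_sup, act_span, smul_inv_smul, e]
    exact smul_left_cancel h h1
  · rintro ⟨v, hv1, hv2, rfl⟩
    refine ⟨h • v, smul_mem_smul.2 hv1, fun hh => hv2 (smul_mem_smul.1 hh), ?_⟩
    rw [act_sup, act_span]

theorem nl_smul {L : Submodule F V → Prop} (hL : LL H L) (h : H) (P B : Submodule F V) :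
    nl L (h • P) (h • B) = nl L P B := by
  classical
  symm
  refine card_bij (fun C _ => h • C) ?_ ?_ ?_
  · intro C hC
    rw [mem_filter] at hC ⊢
    exact ⟨(cov_smul h P B C).2 hC.1, hL.inv h C hC.2⟩
  · intro C _ C' _ e
    exact smul_left_cancel h e
  · intro C hC
    rw [mem_filter] at hC
    refine ⟨h⁻¹ • C, ?_, smul_inv_smul h C⟩
    rw [mem_filter]
    constructor
    · rw [← cov_smul h, smul_inv_smul]
      exact hC.1
    · exact hL.inv h⁻¹ C hC.2

/-- a flag of type `(1, 3)`. -/
def fl13 (A B : Submodule F V) (hA : finrank F A = 1) (hB : finrank F B = 3) (h : A ≤ B) : Fl F V ![1, 3] :=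
  ⟨![A, B], by
    intro i j hij
    fin_cases i <;> fin_cases j
    · exact le_rfl
    · exact h
    · exact absurd hij (by decide)
    · exact le_rfl, fun i => by
    fin_cases i
    · exact hA
    · exact hB⟩

/-- a flag of type `(1, 2, 3)`. -/
def fl123 (A B C : Submodule F V) (hA : finrank F A = 1) (hB : finrank F B = 2) (hC : finrank F C = 3) (h : A ≤ B)
    (h' : B ≤ C) : Fl F V ![1, 2, 3] :=
  ⟨![A, B, C], by
    intro i j hij
    fin_cases i <;> fin_cases j
    · exact le_rfl
    · exact h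
    · exact h.trans h'
    · exact absurd hij (by decide)
    · exact le_rfl
    · exact h'
    · exact absurd hij (by decide)
    · exact absurd hij (by decide)
    · exact le_rfl, fun i => by
    fin_cases i
    · exact hA
    · exact hB
    · exact hC⟩

/-- forgetting the line. -/
def p13 (W : Fl F V ![1, 2, 3]) : Fl F V ![1, 3] :=
  fl13 (W.1 0) (W.1 2) (W.2.2 0) (W.2.2 2) (W.2.1 (by decide))

theorem fl13_val (A B : Submodule F V) (hA : finrank F A = 1) (hB : finrank F B = 3) (h : A ≤ B) :
    (fl13 A B hA hB h).1 0 = A ∧ (fl13 A B hA hB h).1 1 = B := ⟨rfl, rfl⟩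

theorem ext13 {W W' : Fl F V ![1, 3]} (h0 : W.1 0 = W'.1 0) (h1 : W.1 1 = W'.1 1) : W = W' := by
  apply Subtype.ext
  funext i
  fin_cases i
  · exact h0
  · exact h1

theorem smul_p13 (h : H) (W : Fl F V ![1, 2, 3]) : h • p13 W = p13 (h • W) := ext13 rfl rfl

theorem p13_fl123 (A B C : Submodule F V) (hA : finrank F A = 1) (hB : finrank F B = 2) (hC : finrank F C = 3)
    (h : A ≤ B) (h' : B ≤ C) : p13 (fl123 A B C hA hB hC h h') = fl13 A C hA hC (h.trans h') := ext13 rfl rfl

theorem third : ∀ t t' : Fin 3, ¬ t = t' → ∃ t'' : Fin 3, t'' ≠ t ∧ t'' ≠ t' := by decide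

/-- **At most one intersection number besides `0` and `q + 1`.** -/
theorem exists_m {L : Submodule F V → Prop} (hL : LL H L) (h13 : nOrb H (Fl F V ![1, 3]) = 3)
    (h123 : nOrb H (Fl F V ![1, 2, 3]) ≤ 4) :
    ∃ m, 1 ≤ m ∧ m ≤ Fintype.card F ∧ ∀ P B : Submodule F V, finrank F P = 1 → finrank F B = 3 → P ≤ B →
      nl L P B = 0 ∨ nl L P B = m ∨ nl L P B = Fintype.card F + 1 := by
  classical
  obtain ⟨c, hs, hc⟩ := exists_class h13
  -- the invariant
  let f : Fl F V ![1, 2, 3] → Fin 3 × ℕ := fun W => (c (p13 W), if L (W.1 1) then 1 else 0)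
  have hf : ∀ (g : H) W, f (g • W) = f W := by
    intro g W
    apply Prod.ext
    · change c (p13 (g • W)) = c (p13 W)
      exact (hc _ _).2 ⟨g, smul_p13 g W⟩
    · exact if_congr (hL.inv_iff g (W.1 1)) rfl rfl
  have hval : ∀ (A B C : Submodule F V) (hA : finrank F A = 1) (hB : finrank F B = 2) (hC : finrank F C = 3)
      (h : A ≤ B) (h' : B ≤ C), f (fl123 A B C hA hB hC h h') =
        (c (fl13 A C hA hC (h.trans h')), if L B then 1 else 0) := by
    intro A B C hA hB hC h h'
    apply Prod.ext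
    · change c (p13 (fl123 A B C hA hB hC h h')) = _
      rw [p13_fl123]
    · rfl
  -- flags that are neither empty nor full
  have hmix : ∀ P B : Submodule F V, ∀ (hP : finrank F P = 1) (hB : finrank F B = 3) (hPB : P ≤ B),
      nl L P B ≠ 0 → nl L P B ≠ Fintype.card F + 1 →
      (∃ W, f W = (c (fl13 P B hP hB hPB), 1)) ∧ ∃ W, f W = (c (fl13 P B hP hB hPB), 0) := by
    intro P B hP hB hPB h0 h1
    constructor
    · obtain ⟨C, hC⟩ := card_pos.1 (Nat.pos_of_ne_zero h0)
      rw [mem_filter] at hC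
      have hC2 : finrank F C = 2 := by rw [finrank_of_mem_cov hC.1, hP]
      refine ⟨fl123 P C B hP hC2 hB (le_of_mem_cov hC.1) (le_of_mem_cov' hPB hC.1), ?_⟩
      rw [hval, if_pos hC.2]
    · obtain ⟨C, hC, hC'⟩ : ∃ C ∈ cov P B, ¬ L C := by
        by_contra hcon
        push Not at hcon
        apply h1
        rw [nl, filter_true_of_mem hcon, card_cov_two hPB (by rw [hB, hP])]
      have hC2 : finrank F C = 2 := by rw [finrank_of_mem_cov hC, hP]
      refine ⟨fl123 P C B hP hC2 hB (le_of_mem_cov hC) (le_of_mem_cov' hPB hC), ?_⟩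
      rw [hval, if_neg hC']
  -- every class is attained
  have hatt : ∀ t : Fin 3, ∃ e : ℕ, ∃ W, f W = (t, e) := by
    intro t
    obtain ⟨W, hW⟩ := hs t
    have h1 : finrank F ↥(W.1 0) = 1 := W.2.2 0
    have h3 : finrank F ↥(W.1 1) = 3 := W.2.2 1
    have hle : W.1 0 ≤ W.1 1 := W.2.1 (by decide)
    obtain ⟨C, hC1, hC2, hC3⟩ := exists_finrank_between hle 1 (by omega)
    have hC2' : finrank F C = 2 := by omega
    refine ⟨if L C then 1 else 0, fl123 (W.1 0) C (W.1 1) h1 hC2' h3 hC1 hC2, ?_⟩
    rw [hval, ← hW]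
    congr 2
    exact ext13 rfl rfl
  -- two mixed classes coincide
  have huniq : ∀ t t' : Fin 3, (∃ W, f W = (t, 1)) → (∃ W, f W = (t, 0)) → (∃ W, f W = (t', 1)) →
      (∃ W, f W = (t', 0)) → t = t' := by
    intro t t' a1 a2 a3 a4
    by_contra hne
    obtain ⟨t'', ht1, ht2⟩ := third t t' hne
    obtain ⟨e, a5⟩ := hatt t''
    have h5 := card_le_nOrb (G := H) f hf {(t, 1), (t, 0), (t', 1), (t', 0), (t'', e)} (by
      intro z hz
      simp only [mem_insert, mem_singleton] at hz
      rcases hz with rfl | rfl | rfl | rfl | rfl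
      · exact a1
      · exact a2
      · exact a3
      · exact a4
      · exact a5)
    rw [card_insert_of_notMem, card_insert_of_notMem, card_insert_of_notMem, card_insert_of_notMem,
      card_singleton] at h5
    · omega
    · simp only [mem_singleton, Prod.mk.injEq, not_and]
      intro h
      exact absurd h.symm ht2
    · simp only [mem_insert, mem_singleton, Prod.mk.injEq, not_or, not_and]
      exact ⟨fun _ => by omega, fun h => absurd h.symm ht2⟩
    · simp only [mem_insert, mem_singleton, Prod.mk.injEq, not_or, not_and]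
      exact ⟨fun h => absurd h hne, fun h => absurd h hne, fun h => absurd h.symm ht1⟩
    · simp only [mem_insert, mem_singleton, Prod.mk.injEq, not_or, not_and]
      exact ⟨fun _ => by omega, fun h => absurd h hne, fun h => absurd h hne, fun h => absurd h.symm ht1⟩
  by_cases hex : ∃ P B : Submodule F V, finrank F P = 1 ∧ finrank F B = 3 ∧ P ≤ B ∧ nl L P B ≠ 0 ∧
      nl L P B ≠ Fintype.card F + 1
  · obtain ⟨P, B, hP, hB, hPB, h0, h1⟩ := hex
    have hle : nl L P B ≤ Fintype.card F + 1 := by
      rw [← card_cov_two hPB (by rw [hB, hP])]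
      exact card_filter_le _ _
    refine ⟨nl L P B, by omega, by omega, ?_⟩
    intro P' B' hP' hB' hPB'
    by_cases h0' : nl L P' B' = 0
    · exact Or.inl h0'
    · by_cases h1' : nl L P' B' = Fintype.card F + 1
      · exact Or.inr (Or.inr h1')
      · right; left
        obtain ⟨a1, a2⟩ := hmix P B hP hB hPB h0 h1
        obtain ⟨a3, a4⟩ := hmix P' B' hP' hB' hPB' h0' h1'
        have h2 := huniq _ _ a3 a4 a1 a2
        obtain ⟨g, hg⟩ := (hc _ _).1 h2
        have e0 : g • P = P' := congrArg (fun W => W.1 0) hg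
        have e1 : g • B = B' := congrArg (fun W => W.1 1) hg
        rw [← e0, ← e1, nl_smul hL]
  · push Not at hex
    refine ⟨1, le_rfl, one_lt_q.le, ?_⟩
    intro P B hP hB hPB
    by_cases h0 : nl L P B = 0
    · exact Or.inl h0
    · exact Or.inr (Or.inr (hex P B hP hB hPB h0))

/-- there are lines of the class through every point. -/
theorem exists_line {L : Submodule F V → Prop} (hL : LL H L) (h1 : nOrb H (Fl F V ![1]) = 1) {x : V} (hx : x ≠ 0) :
    ∃ v, v ∉ span F {x} ∧ L (span F {x} ⊔ span F {v}) := by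
  obtain ⟨B, hB⟩ := hL.ex
  have hB2 := hL.fr B hB
  obtain ⟨y, hyB, hy⟩ : ∃ y ∈ B, y ≠ 0 := by
    have hne : B ≠ ⊥ := by
      rintro rfl
      rw [finrank_bot] at hB2
      omega
    obtain ⟨y, hy, hy'⟩ := exists_mem_ne_zero_of_ne_bot hne
    exact ⟨y, hy, hy'⟩
  obtain ⟨g, hg⟩ := pretransitive_of_nOrb h1 (pt (F := F) y hy) (pt x hx)
  have e : g • span F {y} = span F {x} := congrArg (fun W => W.1 0) hg
  have hle : span F {x} ≤ g • B := by
    rw [← e, Flags.smul_le_smul, span_singleton_le_iff_mem]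
    exact hyB
  have hgB := hL.inv g B hB
  have hgB2 : finrank F ↥(g • B) = 2 := hL.fr _ hgB
  obtain ⟨v, hv, hv'⟩ : ∃ v ∈ g • B, v ∉ span F {x} := by
    by_contra hcon
    push Not at hcon
    have h3 : g • B ≤ span F {x} := hcon
    have := finrank_mono h3
    rw [finrank_span_singleton hx] at this
    omega
  refine ⟨v, hv', ?_⟩
  have h3 : span F {x} ⊔ span F {v} = g • B := by
    apply eq_of_le_of_finrank_eq
    · exact sup_le hle ((span_singleton_le_iff_mem _ _).2 hv)
    · rw [finrank_sup_span hv', finrank_span_singleton hx, hgB2]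
  rw [h3]
  exact hgB

/-- **The lines of one of the classes through a point form a subspace.** -/
theorem step3 {L : Submodule F V → Prop} (hL : LL H L) (hdim : 5 ≤ finrank F V) (h1 : nOrb H (Fl F V ![1]) = 1)
    (h13 : nOrb H (Fl F V ![1, 3]) = 3) (h123 : nOrb H (Fl F V ![1, 2, 3]) ≤ 4) :
    ∃ L' : Submodule F V → Prop, LL H L' ∧ ∀ x : V, x ≠ 0 → ∃ U : Submodule F V,
      ∀ v, v ∈ U ↔ v ∈ span F {x} ∨ L' (span F {x} ⊔ span F {v}) := by
  classical
  obtain ⟨m, hm1, hm2, hm⟩ := exists_m hL h13 h123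
  -- lemma S
  have key : ∀ x : V, x ≠ 0 → (∃ U : Submodule F V, ∀ v, v ∈ U ↔ v ∈ span F {x} ∨ L (span F {x} ⊔ span F {v})) ∨
      (∃ U : Submodule F V, ∀ v, v ∈ U ↔ v ∈ span F {x} ∨ Lc L (span F {x} ⊔ span F {v})) := by
    intro x hx
    have hP := finrank_span_singleton (K := F) hx
    have hlines : Lines (span F {x}) (DL L (span F {x})) m := by
      intro B hPB hB
      rw [cn_DL L hPB]
      rcases hm (span F {x}) B hP (by rw [hB, hP]) hPB with h | h | h
      · left; rw [h, zero_mul]
      · right; left; rw [h]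
      · right; right; rw [h]
    obtain ⟨p, hp, hDp⟩ := exists_line hL h1 hx
    obtain ⟨r, hr, hDr⟩ := exists_line hL.compl h1 hx
    rcases lemS (inv_DL L (span F {x})) hm1 hm2 hlines (by rw [hP]; omega) ⟨p, hp, hDp⟩ ⟨r, hr, hDr.2⟩ with
      ⟨U, hU⟩ | ⟨U, hU⟩
    · left
      refine ⟨U, fun v => ?_⟩
      rw [hU]
      constructor
      · rintro (h | h)
        · exact Or.inl h
        · exact Or.inr h.1
      · rintro (h | h)
        · exact Or.inl h
        · by_cases hv : v ∈ span F {x}
          · exact Or.inl hv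
          · exact Or.inr ⟨h, hv⟩
    · right
      refine ⟨U, fun v => ?_⟩
      rw [hU]
      constructor
      · rintro (h | h)
        · exact Or.inl h
        · exact Or.inr ⟨by rw [finrank_sup_span h.2, hP], h.1⟩
      · rintro (h | h)
        · exact Or.inl h
        · by_cases hv : v ∈ span F {x}
          · exact Or.inl hv
          · exact Or.inr ⟨h.2, hv⟩
  -- the same alternative for all points
  have move : ∀ (L' : Submodule F V → Prop), LL H L' → (∃ x : V, x ≠ 0 ∧ ∃ U : Submodule F V, ∀ v, v ∈ U ↔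
      v ∈ span F {x} ∨ L' (span F {x} ⊔ span F {v})) → ∀ x : V, x ≠ 0 → ∃ U : Submodule F V,
      ∀ v, v ∈ U ↔ v ∈ span F {x} ∨ L' (span F {x} ⊔ span F {v}) := by
    rintro L' hL' ⟨x, hx, U, hU⟩ y hy
    obtain ⟨g, hg⟩ := pretransitive_of_nOrb h1 (pt (F := F) x hx) (pt y hy)
    have e : g • span F {x} = span F {y} := congrArg (fun W => W.1 0) hg
    refine ⟨g • U, fun v => ?_⟩
    rw [mem_smul_iff, hU, ← e, mem_smul_iff]
    have e2 : g • span F {x} ⊔ span F {v} = g • (span F {x} ⊔ span F {g⁻¹ • v}) := by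
      rw [act_sup, act_span, act_span, smul_inv_smul]
    rw [e2, hL'.inv_iff]
  obtain ⟨x, hx⟩ : ∃ x : V, x ≠ 0 := by
    have : Nontrivial V := nontrivial_of_finrank_pos (R := F) (by omega)
    exact exists_ne 0
  rcases key x hx with ⟨U, hU⟩ | ⟨U, hU⟩
  · exact ⟨L, hL, move L hL ⟨x, hx, U, hU⟩⟩
  · exact ⟨Lc L, hL.compl, move (Lc L) hL.compl ⟨x, hx, U, hU⟩⟩

end Cfsg.Agent.H87.Geo5
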