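import Cfsg.Agent.H87.Geo5c

/-!
# The subspaces `U x` of dimension 2
-/

set_option autoImplicit false
set_option linter.unusedSectionVars false

namespace Cfsg.Agent.H87.Geo5

open Finset Submodule Module MulAction
open Cfsg.Agent.H87.Cov Cfsg.Agent.H87.LemS Cfsg.Agent.H87.Flags Cfsg.Agent.H87.Orb Cfsg.Agent.H87.Geo3
open scoped Pointwise

variable {F V : Type*} [Field F] [Fintype F] [AddCommGroup V] [Module F V] [Fintype V]
variable {H : Type*} [Group H] [DistribMulAction H V] [SMulCommClass H F V]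

/-- a flag of type `(2, 4)`. -/
def fl24 (A B : Submodule F V) (hA : finrank F A = 2) (hB : finrank F B = 4) (h : A ≤ B) : Fl F V ![2, 4] :=
  ⟨![A, B], by
    intro i j hij
    fin_cases i <;> fin_cases j
    · exact le_rfl
    · exact h
    · exact absurd hij (by decide)
    · exact le_rfl, fun i => by
    fin_cases i
    · exact hA
    · exact hB⟩

section
variable {L : Submodule F V → Prop} {d : ℕ}

omit [Fintype V] in
theorem arith3 {q N : ℕ} (hq : 2 ≤ q) (h : q ^ 5 = N * (q ^ 2 - 1) + 1) : False := by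
  obtain ⟨k, rfl⟩ : ∃ k, q = k + 2 := ⟨q - 2, by omega⟩
  have e : (k + 2) ^ 2 - 1 = (k + 1) * (k + 3) := by
    have : (k + 2) ^ 2 = (k + 1) * (k + 3) + 1 := by ring
    omega
  rw [e] at h
  have h1 : (k + 1) * (k + 3) ∣ (k + 1) := by
    have h2 : (k + 1) * (k + 3) ∣ (k + 1) * (k + 3) * ((k + 2) ^ 3 + (k + 2)) + (k + 1) := by
      have : (k + 1) * (k + 3) * ((k + 2) ^ 3 + (k + 2)) + (k + 1) = N * ((k + 1) * (k + 3)) := by
        have h3 : (k + 1) * (k + 3) * ((k + 2) ^ 3 + (k + 2)) + (k + 1) + 1 = N * ((k + 1) * (k + 3)) + 1 := by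
          rw [← h]
          ring
        omega
      rw [this]
      exact dvd_mul_left _ _
    exact (Nat.dvd_add_right (dvd_mul_right _ _)).1 h2
  have := Nat.le_of_dvd (by omega) h1
  nlinarith

theorem Dat.two5 (D : Dat H L 2) (hn : finrank F V = 5) : False := by
  classical
  have : Fintype (Submodule F V) := Fintype.ofFinite _
  have h3 := dc (univ.filter fun v : V => v ≠ 0) (univ.filter fun B : Submodule F V => L B) (fun v B => v ∈ B)
    (Fintype.card F ^ 2 - 1) (by
      intro v hv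
      have hv' : v ≠ 0 := (mem_filter.1 hv).2
      refine ⟨U L v, ⟨?_, D.self_mem hv'⟩, ?_⟩
      · rw [mem_filter]
        exact ⟨mem_univ _, (D.line_iff (D.fr v hv') hv' (D.self_mem hv')).2 le_rfl⟩
      · rintro B ⟨hB, hvB⟩
        rw [mem_filter] at hB
        exact eq_of_le_of_finrank_eq (le_U hB.2 hvB) (by rw [D.hL.fr B hB.2, D.fr v hv'])) (by
      intro B hB
      rw [mem_filter] at hB
      have h4 := cn_true (bot_le : (⊥ : Submodule F V) ≤ B)
      rw [finrank_bot, pow_zero, D.hL.fr B hB.2] at h4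
      rw [← h4, Nat.add_sub_cancel, cn]
      congr 1
      ext v
      simp only [mem_filter, mem_univ, true_and, and_true, mem_bot]
      exact and_comm)
  have h4 := cn_true (bot_le : (⊥ : Submodule F V) ≤ ⊤)
  have h5 : cn (fun _ : V => True) (⊥ : Submodule F V) ⊤ = (univ.filter fun v : V => v ≠ 0).card := by
    rw [cn]
    congr 1
    ext v
    simp only [mem_filter, mem_univ, true_and, and_true, mem_bot, mem_top, ne_eq]
  rw [h5, h3, finrank_bot, pow_zero, finrank_top, hn] at h4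
  exact arith3 (one_lt_q (F := F)) h4.symm

/-- the span of the lines in a subspace. -/
def M (L : Submodule F V → Prop) (S : Submodule F V) : Submodule F V := sSup {B | L B ∧ B ≤ S}

theorem act_M (hL : LL H L) (h : H) (S : Submodule F V) : h • M L S = M L (h • S) := by
  have key : ∀ (h : H) (P : Submodule F V), h • M L P ≤ M L (h • P) := by
    intro h P
    have h1 : M L P ≤ h⁻¹ • M L (h • P) := by
      apply sSup_le
      rintro B ⟨hB, hPB⟩
      have h2 : h • B ≤ M L (h • P) := le_sSup ⟨hL.inv h B hB, Flags.smul_le_smul.2 hPB⟩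
      have h3 : h⁻¹ • (h • B) ≤ h⁻¹ • M L (h • P) := Flags.smul_le_smul.2 h2
      rwa [inv_smul_smul] at h3
    have h4 := (Flags.smul_le_smul (h := h)).2 h1
    rwa [smul_inv_smul] at h4
  apply le_antisymm (key h S)
  have h1 := (Flags.smul_le_smul (h := h)).2 (key h⁻¹ (h • S))
  rwa [smul_inv_smul, inv_smul_smul] at h1

theorem Dat.eq_U (D : Dat H L 2) {B : Submodule F V} (hB : L B) {x : V} (hx : x ≠ 0) (hxB : x ∈ B) : B = U L x :=
  eq_of_le_of_finrank_eq (le_U hB hxB) (by rw [D.hL.fr B hB, D.fr x hx])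

theorem Dat.L_U (D : Dat H L 2) {x : V} (hx : x ≠ 0) : L (U L x) :=
  (D.line_iff (D.fr x hx) hx (D.self_mem hx)).2 le_rfl

omit [Fintype V] in
theorem arith4 {q n c : ℕ} (hq : 2 ≤ q) (hn : 6 ≤ n) (h : c * (q ^ 3 * (q - 1)) + q ^ 3 = q ^ n) : q ^ 2 < c := by
  obtain ⟨m, rfl⟩ : ∃ m, n = m + 6 := ⟨n - 6, by omega⟩
  obtain ⟨k, rfl⟩ : ∃ k, q = k + 2 := ⟨q - 2, by omega⟩
  rw [show k + 2 - 1 = k + 1 by omega] at h
  have h1 : (k + 2) ^ 3 * (c * (k + 1) + 1) = (k + 2) ^ 3 * (k + 2) ^ (m + 3) := by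
    rw [← pow_add, show 3 + (m + 3) = m + 6 by ring, ← h]
    ring
  have h2 := Nat.eq_of_mul_eq_mul_left (by positivity) h1
  have h3 : (k + 2) ^ 3 ≤ (k + 2) ^ (m + 3) := Nat.pow_le_pow_right (by omega) (by omega)
  rw [← h2] at h3
  by_contra hcon
  have h4 : c ≤ (k + 2) ^ 2 := by omega
  have h5 : c * (k + 1) ≤ (k + 2) ^ 2 * (k + 1) := Nat.mul_le_mul_right _ h4
  nlinarith

/-- a 4-dimensional subspace with just one line of the class. -/
theorem Dat.exists_one (D : Dat H L 2) (hn : 6 ≤ finrank F V) {x : V} (hx : x ≠ 0) {v : V} (hv : v ∉ U L x) :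
    ∃ w, w ∉ U L x ⊔ span F {v} ∧ ∀ B, L B → B ≤ U L x ⊔ span F {v} ⊔ span F {w} → B = U L x := by
  classical
  by_contra hcon
  push Not at hcon
  have hA : finrank F ↥(U L x ⊔ span F {v}) = 3 := by rw [finrank_sup_span hv, D.fr x hx]
  have h1 := card_cov (le_top : U L x ⊔ span F {v} ≤ ⊤)
  rw [hA, finrank_top] at h1
  have h2 := arith4 (one_lt_q (F := F)) hn h1
  have h3 : cov (U L x ⊔ span F {v}) ⊤ ⊆ (univ.filter fun l : V => l ∈ U L x).image fun l =>
      U L x ⊔ span F {v} ⊔ U L (v + l) := by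
    intro S hS
    obtain ⟨w, _, hw, rfl⟩ := mem_cov.1 hS
    obtain ⟨B, hB, hBS, hne⟩ := hcon w hw
    have hB2 := D.hL.fr B hB
    obtain ⟨a, ha0, haA, haB⟩ := exists_inf (le_sup_left : U L x ⊔ span F {v} ≤ U L x ⊔ span F {v} ⊔ span F {w}) hBS
      (by rw [finrank_sup_span hw, hA, hB2]; norm_num)
    have haU : a ∉ U L x := by
      intro h
      apply hne
      rw [D.eq_U hB ha0 haB, ← D.eq_U (D.L_U hx) ha0 h]
    obtain ⟨l, hl, cv, hcv, e⟩ := mem_sup.1 haA
    obtain ⟨c, rfl⟩ := mem_span_singleton.1 hcv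
    have hc : c ≠ 0 := by
      rintro rfl
      rw [zero_smul, add_zero] at e
      exact haU (e ▸ hl)
    have e2 : v + c⁻¹ • l = c⁻¹ • a := by
      rw [← e, smul_add, smul_smul, inv_mul_cancel₀ hc, one_smul, add_comm]
    rw [mem_image]
    refine ⟨c⁻¹ • l, ?_, ?_⟩
    · rw [mem_filter]
      exact ⟨mem_univ _, smul_mem _ _ hl⟩
    · have e3 : U L (v + c⁻¹ • l) = B := by
        rw [e2, D.eq_U hB ha0 haB]
        apply U_congr
        apply span_eq_of_mem
        · exact smul_ne_zero (inv_ne_zero hc) ha0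
        · exact smul_mem _ _ (mem_span_singleton_self a)
      change U L x ⊔ span F {v} ⊔ U L (v + c⁻¹ • l) = _
      rw [e3]
      apply eq_of_le_of_finrank_le
      · exact sup_le le_sup_left hBS
      · rw [finrank_sup_span hw, hA]
        have h4 : U L x ⊔ span F {v} < U L x ⊔ span F {v} ⊔ B := by
          rw [left_lt_sup]
          intro hBA
          obtain ⟨z, hz0, hz1, hz2⟩ := exists_inf (le_sup_left : U L x ≤ U L x ⊔ span F {v}) hBA
            (by rw [hA, D.fr x hx, hB2]; norm_num)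
          apply hne
          rw [D.eq_U hB hz0 hz2, ← D.eq_U (D.L_U hx) hz0 hz1]
        have h5 := finrank_lt_finrank_of_lt h4
        omega
  have h4 := (card_le_card h3).trans card_image_le
  rw [card_filter_mem, D.fr x hx] at h4
  omega

theorem Dat.two6 (D : Dat H L 2) (hn : 6 ≤ finrank F V) (h24 : nOrb H (Fl F V ![2, 4]) = 4) : False := by
  classical
  let f : Fl F V ![2, 4] → ℕ × ℕ × ℕ := fun W =>
    (finrank F ↥(M L (W.1 1)), finrank F ↥(W.1 0 ⊓ M L (W.1 1)), if L (W.1 0) then 1 else 0)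
  have hf : ∀ (g : H) W, f (g • W) = f W := by
    intro g W
    change (finrank F ↥(M L (g • W.1 1)), finrank F ↥(g • W.1 0 ⊓ M L (g • W.1 1)), if L (g • W.1 0) then 1 else 0) = _
    rw [← act_M D.hL, ← act_inf, Flags.finrank_smul, Flags.finrank_smul]
    congr 2
    exact if_congr (D.hL.inv_iff g (W.1 0)) rfl rfl
  have hval : ∀ (A B : Submodule F V) (hA : finrank F A = 2) (hB : finrank F B = 4) (h : A ≤ B),
      f (fl24 A B hA hB h) = (finrank F ↥(M L B), finrank F ↥(A ⊓ M L B), if L A then 1 else 0) :=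
    fun _ _ _ _ _ => rfl
  obtain ⟨B0, hB0⟩ := D.hL.ex
  have hB02 := D.hL.fr B0 hB0
  obtain ⟨x, hxB, hx⟩ := exists_mem_ne_zero_of_ne_bot (ne_bot_of hB02)
  have hUx : finrank F ↥(U L x) = 2 := D.fr x hx
  obtain ⟨v, hv⟩ : ∃ v, v ∉ U L x := by
    by_contra hcon
    push Not at hcon
    have : U L x = ⊤ := by
      rw [eq_top_iff]
      intro v _
      exact hcon v
    rw [this, finrank_top] at hUx
    omega
  have hv0 : v ≠ 0 := by
    rintro rfl
    exact hv (zero_mem _)
  obtain ⟨w, hw, hS⟩ := D.exists_one hn hx hv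
  have hA3 : finrank F ↥(U L x ⊔ span F {v}) = 3 := by rw [finrank_sup_span hv, hUx]
  have hS4 : finrank F ↥(U L x ⊔ span F {v} ⊔ span F {w}) = 4 := by rw [finrank_sup_span hw, hA3]
  have hUS : U L x ≤ U L x ⊔ span F {v} ⊔ span F {w} := le_sup_left.trans le_sup_left
  have hM1 : M L (U L x ⊔ span F {v} ⊔ span F {w}) = U L x := by
    apply le_antisymm
    · apply sSup_le
      rintro B ⟨hB, hBS⟩
      exact (hS B hB hBS).le
    · exact le_sSup ⟨D.L_U hx, hUS⟩
  have hvx : v ∉ span F {x} := fun h => hv ((span_singleton_le_iff_mem x _).2 (D.self_mem hx) h)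
  have hwv : w ∉ span F {v} := fun h => hw (mem_sup_right h)
  -- the five flags
  have a1 : ∃ W, f W = (2, 2, 1) := by
    refine ⟨fl24 (U L x) _ hUx hS4 hUS, ?_⟩
    rw [hval, hM1, inf_idem, hUx, if_pos (D.L_U hx)]
  have a2 : ∃ W, f W = (2, 1, 0) := by
    have hA : finrank F ↥(span F {x} ⊔ span F {v}) = 2 := by rw [finrank_sup_span hvx, finrank_span_singleton hx]
    have hle : span F {x} ⊔ span F {v} ≤ U L x ⊔ span F {v} ⊔ span F {w} :=
      sup_le (((span_singleton_le_iff_mem x _).2 (D.self_mem hx)).trans hUS) (le_sup_right.trans le_sup_left)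
    refine ⟨fl24 _ _ hA hS4 hle, ?_⟩
    have h1 : ¬ L (span F {x} ⊔ span F {v}) := by
      intro h
      have := hS _ h hle
      apply hv
      rw [← this]
      exact mem_sup_right (mem_span_singleton_self v)
    have h2 := finrank_sup_add_finrank_inf_eq (span F {x} ⊔ span F {v}) (U L x)
    have h3 : span F {x} ⊔ span F {v} ⊔ U L x = U L x ⊔ span F {v} := by
      apply le_antisymm
      · exact sup_le (sup_le (((span_singleton_le_iff_mem x _).2 (D.self_mem hx)).trans le_sup_left) le_sup_right)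
          le_sup_left
      · exact sup_le le_sup_right (le_sup_right.trans le_sup_left)
    rw [h3, hA3, hA, hUx] at h2
    rw [hval, hM1, hUx, if_neg h1]
    congr 2
    omega
  have a3 : ∃ W, f W = (2, 0, 0) := by
    have hA : finrank F ↥(span F {v} ⊔ span F {w}) = 2 := by rw [finrank_sup_span hwv, finrank_span_singleton hv0]
    have hle : span F {v} ⊔ span F {w} ≤ U L x ⊔ span F {v} ⊔ span F {w} :=
      sup_le (le_sup_right.trans le_sup_left) le_sup_right
    refine ⟨fl24 _ _ hA hS4 hle, ?_⟩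
    have h1 : ¬ L (span F {v} ⊔ span F {w}) := by
      intro h
      have := hS _ h hle
      apply hv
      rw [← this]
      exact mem_sup_left (mem_span_singleton_self v)
    have h2 := finrank_sup_add_finrank_inf_eq (span F {v} ⊔ span F {w}) (U L x)
    have h3 : span F {v} ⊔ span F {w} ⊔ U L x = U L x ⊔ span F {v} ⊔ span F {w} := by
      rw [sup_comm, sup_assoc]
    rw [h3, hS4, hA, hUx] at h2
    rw [hval, hM1, hUx, if_neg h1]
    congr 2
    omega
  have hUv : finrank F ↥(U L v) = 2 := D.fr v hv0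
  have hS24 : finrank F ↥(U L x ⊔ U L v) = 4 := by
    have h2 := finrank_sup_add_finrank_inf_eq (U L x) (U L v)
    have h3 : U L x ⊓ U L v = ⊥ := by
      by_contra h
      obtain ⟨z, hz, hz0⟩ := exists_mem_ne_zero_of_ne_bot h
      apply hv
      rw [D.eq_U (D.L_U hx) hz0 hz.1, ← D.eq_U (D.L_U hv0) hz0 hz.2]
      exact D.self_mem hv0
    rw [h3, finrank_bot] at h2
    omega
  have hM2 : M L (U L x ⊔ U L v) = U L x ⊔ U L v := by
    apply le_antisymm
    · apply sSup_le
      rintro B ⟨_, hBS⟩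
      exact hBS
    · exact sup_le (le_sSup ⟨D.L_U hx, le_sup_left⟩) (le_sSup ⟨D.L_U hv0, le_sup_right⟩)
  have a4 : ∃ W, f W = (4, 2, 1) := by
    refine ⟨fl24 (U L x) _ hUx hS24 le_sup_left, ?_⟩
    rw [hval, hM2, inf_eq_left.2 le_sup_left, hUx, if_pos (D.L_U hx), hS24]
  have a5 : ∃ W, f W = (4, 2, 0) := by
    have hA : finrank F ↥(span F {x} ⊔ span F {v}) = 2 := by rw [finrank_sup_span hvx, finrank_span_singleton hx]
    have hle : span F {x} ⊔ span F {v} ≤ U L x ⊔ U L v :=
      sup_le_sup ((span_singleton_le_iff_mem x _).2 (D.self_mem hx)) ((span_singleton_le_iff_mem v _).2 (D.self_mem hv0))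
    refine ⟨fl24 _ _ hA hS24 hle, ?_⟩
    have h1 : ¬ L (span F {x} ⊔ span F {v}) := by
      intro h
      apply hv
      rw [← D.eq_U h hx (mem_sup_left (mem_span_singleton_self x))]
      exact mem_sup_right (mem_span_singleton_self v)
    rw [hval, hM2, inf_eq_left.2 hle, hA, if_neg h1, hS24]
  have h5 := card_le_nOrb (G := H) f hf {(2, 2, 1), (2, 1, 0), (2, 0, 0), (4, 2, 1), (4, 2, 0)} (by
    intro z hz
    simp only [mem_insert, mem_singleton] at hz
    rcases hz with rfl | rfl | rfl | rfl | rfl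
    · exact a1
    · exact a2
    · exact a3
    · exact a4
    · exact a5)
  rw [h24] at h5
  revert h5
  decide

end

end Cfsg.Agent.H87.Geo5
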