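import Cfsg.Agent.H87.Geo5d

/-!
# The subspaces `U x` of dimension `n - 1`, and the conclusion
-/

set_option autoImplicit false
set_option linter.unusedSectionVars false

namespace Cfsg.Agent.H87.Geo5

open Finset Submodule Module MulAction
open Cfsg.Agent.H87.Cov Cfsg.Agent.H87.LemS Cfsg.Agent.H87.Flags Cfsg.Agent.H87.Orb Cfsg.Agent.H87.Geo3
open scoped Pointwise

variable {F V : Type*} [Field F] [Fintype F] [AddCommGroup V] [Module F V] [Fintype V]
variable {H : Type*} [Group H] [DistribMulAction H V] [SMulCommClass H F V]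

/-- the radical. -/
def rad (L : Submodule F V → Prop) (S : Submodule F V) : Submodule F V := S ⊓ ⨅ (s : V) (_ : s ∈ S ∧ s ≠ 0), U L s

section
variable {L : Submodule F V → Prop} {d : ℕ}

theorem mem_rad {S : Submodule F V} {v : V} : v ∈ rad L S ↔ v ∈ S ∧ ∀ s ∈ S, s ≠ 0 → v ∈ U L s := by
  simp only [rad, Submodule.mem_inf, Submodule.mem_iInf, and_imp]

theorem act_rad (hL : LL H L) (h : H) (S : Submodule F V) : h • rad L S = rad L (h • S) := by
  ext v
  rw [mem_smul_iff, mem_rad, mem_rad, mem_smul_iff]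
  refine and_congr Iff.rfl ⟨fun hh s hs hs0 => ?_, fun hh s hs hs0 => ?_⟩
  · have h1 := hh (h⁻¹ • s) (mem_smul_iff.1 hs) (by rwa [Ne, smul_eq_zero_iff_eq])
    rwa [← act_U hL, ← Flags.smul_mem_smul (h := h), smul_inv_smul, smul_inv_smul] at h1
  · have h1 := hh (h • s) (Flags.smul_mem_smul.2 hs) (by rwa [Ne, smul_eq_zero_iff_eq])
    rwa [← act_U hL, mem_smul_iff] at h1

section
variable (D : Dat H L d)
include D

theorem Dat.mem_zero {x y : V} (hx : x ≠ 0) (hy : y ≠ 0) (h : y ∉ U L x) {v : V} (hv : v ∈ span F {x} ⊔ span F {y})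
    (hvx : v ∈ U L x) (hvy : v ∈ U L y) : v = 0 := by
  have hyx : x ∉ U L y := fun h' => h (D.symm hy hx h')
  obtain ⟨a, ha, b, hb, rfl⟩ := mem_sup.1 hv
  have ha' : a ∈ U L x := (span_singleton_le_iff_mem x _).2 (D.self_mem hx) ha
  have hb' : b ∈ U L y := (span_singleton_le_iff_mem y _).2 (D.self_mem hy) hb
  have hb2 : b ∈ U L x := by
    have := sub_mem hvx ha'
    rwa [add_sub_cancel_left] at this
  have ha2 : a ∈ U L y := by
    have := sub_mem hvy hb'
    rwa [add_sub_cancel_right] at this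
  have aux : ∀ {x a : V} {W : Submodule F V}, x ∉ W → a ∈ span F {x} → a ∈ W → a = 0 := by
    intro x a W hx ha haW
    by_contra h0
    apply hx
    obtain ⟨c, rfl⟩ := mem_span_singleton.1 ha
    have hc : c ≠ 0 := by
      rintro rfl
      exact h0 (zero_smul _ _)
    have := smul_mem W c⁻¹ haW
    rwa [smul_smul, inv_mul_cancel₀ hc, one_smul] at this
  rw [aux hyx ha ha2, aux h hb hb2, add_zero]

theorem Dat.not_mem_span {x y : V} (hx : x ≠ 0) (h : y ∉ U L x) : y ∉ span F {x} :=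
  fun h' => h ((span_singleton_le_iff_mem x _).2 (D.self_mem hx) h')

/-- `span {x, y}` and a subspace of `U x ⊓ U y` have trivial intersection. -/
theorem Dat.finrank_sup {x y : V} (hx : x ≠ 0) (hy : y ≠ 0) (h : y ∉ U L x) {W : Submodule F V}
    (hW : W ≤ U L x ⊓ U L y) : finrank F ↥(span F {x} ⊔ span F {y} ⊔ W) = finrank F W + 2 := by
  have h1 := finrank_sup_add_finrank_inf_eq (span F {x} ⊔ span F {y}) W
  have h2 : (span F {x} ⊔ span F {y}) ⊓ W = ⊥ := by
    rw [eq_bot_iff]
    rintro v ⟨hv, hvW⟩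
    exact D.mem_zero hx hy h hv (hW hvW).1 (hW hvW).2
  rw [h2, finrank_bot, finrank_sup_span (D.not_mem_span hx h), finrank_span_singleton hx] at h1
  omega

theorem Dat.finrank_W (hd : d + 1 = finrank F V) {x y : V} (hx : x ≠ 0) (hy : y ≠ 0) (h : y ∉ U L x) :
    finrank F ↥(U L x ⊓ U L y) + 2 = finrank F V := by
  have h1 := finrank_sup_add_finrank_inf_eq (U L x) (U L y)
  have h2 : finrank F ↥(U L x ⊔ U L y) ≤ finrank F V := Submodule.finrank_le _
  rw [D.fr x hx, D.fr y hy] at h1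
  have h3 := D.finrank_sup hx hy h (le_refl (U L x ⊓ U L y))
  have h4 : finrank F ↥(span F {x} ⊔ span F {y} ⊔ (U L x ⊓ U L y)) ≤ finrank F V := Submodule.finrank_le _
  omega

theorem Dat.not_le (hd : d + 1 = finrank F V) {x y : V} (hx : x ≠ 0) (hy : y ≠ 0) (h : y ∉ U L x) {u : V} (hu : u ≠ 0)
    (huW : u ∈ U L x ⊓ U L y) : ¬ U L x ⊓ U L y ≤ U L u := by
  intro hle
  have h1 : span F {x} ⊔ span F {y} ⊔ (U L x ⊓ U L y) ≤ U L u :=
    sup_le (sup_le ((span_singleton_le_iff_mem _ _).2 (D.symm hx hu huW.1))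
      ((span_singleton_le_iff_mem _ _).2 (D.symm hy hu huW.2))) hle
  have h2 := finrank_mono h1
  rw [D.finrank_sup hx hy h le_rfl, D.finrank_W hd hx hy h, D.fr u hu] at h2
  omega

theorem Dat.exists_xy (hd : d + 1 = finrank F V) : ∃ x y : V, x ≠ 0 ∧ y ≠ 0 ∧ y ∉ U L x := by
  obtain ⟨B0, hB0⟩ := D.hL.ex
  have hB02 := D.hL.fr B0 hB0
  obtain ⟨x, _, hx⟩ := exists_mem_ne_zero_of_ne_bot (ne_bot_of hB02)
  obtain ⟨v, hv⟩ : ∃ v, v ∉ U L x := by
    by_contra hcon
    push Not at hcon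
    have : U L x = ⊤ := by
      rw [eq_top_iff]
      intro v _
      exact hcon v
    have h := D.fr x hx
    rw [this, finrank_top] at h
    omega
  refine ⟨x, v, hx, ?_, hv⟩
  rintro rfl
  exact hv (zero_mem _)

omit D in
theorem exists_inf_hyp {A B : Submodule F V} (hB : finrank F B + 1 = finrank F V) (hA : 2 ≤ finrank F A) :
    ∃ z, z ≠ 0 ∧ z ∈ A ∧ z ∈ B :=
  exists_inf (C := ⊤) le_top le_top (by rw [finrank_top]; omega)

omit D in
theorem finrank_inf_hyp {A B : Submodule F V} (hB : finrank F B + 1 = finrank F V) :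
    finrank F A ≤ finrank F ↥(A ⊓ B) + 1 := by
  have h1 := finrank_sup_add_finrank_inf_eq A B
  have h2 : finrank F ↥(A ⊔ B) ≤ finrank F V := Submodule.finrank_le _
  omega

theorem Dat.hyp5 (hd : d + 1 = finrank F V) (hn : finrank F V = 5) : False := by
  obtain ⟨x, y, hx, hy, hxy⟩ := D.exists_xy hd
  have hW := D.finrank_W hd hx hy hxy
  obtain ⟨u, huW, hu⟩ := exists_mem_ne_zero_of_ne_bot (ne_bot_of (k := 2) (show finrank F ↥(U L x ⊓ U L y) = 2 + 1 by omega))
  obtain ⟨v, hvW, hvu⟩ : ∃ v ∈ U L x ⊓ U L y, v ∉ U L u := by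
    have := D.not_le hd hx hy hxy hu huW
    by_contra hcon
    push Not at hcon
    exact this hcon
  have hv0 : v ≠ 0 := by
    rintro rfl
    exact hvu (zero_mem _)
  have h1 := finrank_inf_hyp (A := U L x ⊓ U L y) (B := U L u) (by rw [D.fr u hu, hd])
  obtain ⟨w, hw0, ⟨hwW, hwu⟩, hwv⟩ := exists_inf_hyp (A := (U L x ⊓ U L y) ⊓ U L u) (B := U L v)
    (by rw [D.fr v hv0, hd]) (by omega)
  have h2 : span F {u} ⊔ span F {v} ⊔ span F {w} = U L x ⊓ U L y := by
    apply eq_of_le_of_finrank_eq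
    · exact sup_le (sup_le ((span_singleton_le_iff_mem _ _).2 huW) ((span_singleton_le_iff_mem _ _).2 hvW))
        ((span_singleton_le_iff_mem _ _).2 hwW)
    · rw [finrank_sup_span, finrank_sup_span (D.not_mem_span hu hvu), finrank_span_singleton hu]
      · omega
      · intro h
        exact hw0 (D.mem_zero hu hv0 hvu h hwu hwv)
  apply D.not_le hd hx hy hxy hw0 hwW
  rw [← h2]
  exact sup_le (sup_le ((span_singleton_le_iff_mem _ _).2 (D.symm hu hw0 hwu))
    ((span_singleton_le_iff_mem _ _).2 (D.symm hv0 hw0 hwv))) ((span_singleton_le_iff_mem _ _).2 (D.self_mem hw0))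

theorem Dat.hyp6 (hd : d + 1 = finrank F V) (hn : 6 ≤ finrank F V) (h24 : nOrb H (Fl F V ![2, 4]) = 4) : False := by
  classical
  let f : Fl F V ![2, 4] → ℕ × ℕ × ℕ := fun W =>
    (finrank F ↥(rad L (W.1 1)), finrank F ↥(W.1 0 ⊓ rad L (W.1 1)), if L (W.1 0) then 1 else 0)
  have hf : ∀ (g : H) W, f (g • W) = f W := by
    intro g W
    change (finrank F ↥(rad L (g • W.1 1)), finrank F ↥(g • W.1 0 ⊓ rad L (g • W.1 1)),
      if L (g • W.1 0) then 1 else 0) = _
    rw [← act_rad D.hL, ← act_inf, Flags.finrank_smul, Flags.finrank_smul]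
    congr 2
    exact if_congr (D.hL.inv_iff g (W.1 0)) rfl rfl
  have hval : ∀ (A B : Submodule F V) (hA : finrank F A = 2) (hB : finrank F B = 4) (h : A ≤ B),
      f (fl24 A B hA hB h) = (finrank F ↥(rad L B), finrank F ↥(A ⊓ rad L B), if L A then 1 else 0) :=
    fun _ _ _ _ _ => rfl
  obtain ⟨x, y, hx, hy, hxy⟩ := D.exists_xy hd
  have hW := D.finrank_W hd hx hy hxy
  obtain ⟨u, huW, hu⟩ := exists_mem_ne_zero_of_ne_bot
    (ne_bot_of (k := finrank F V - 3) (show finrank F ↥(U L x ⊓ U L y) = finrank F V - 3 + 1 by omega))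
  obtain ⟨v, hvW, hvu⟩ : ∃ v ∈ U L x ⊓ U L y, v ∉ U L u := by
    have := D.not_le hd hx hy hxy hu huW
    by_contra hcon
    push Not at hcon
    exact this hcon
  have hv0 : v ≠ 0 := by
    rintro rfl
    exact hvu (zero_mem _)
  have h1 := finrank_inf_hyp (A := U L x ⊓ U L y) (B := U L u) (by rw [D.fr u hu, hd])
  obtain ⟨s, ⟨hsW, hsu⟩, hs⟩ : ∃ s ∈ (U L x ⊓ U L y) ⊓ U L u, s ∉ span F {u} := by
    by_contra hcon
    push Not at hcon
    have h3 : (U L x ⊓ U L y) ⊓ U L u ≤ span F {u} := hcon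
    have := finrank_mono h3
    rw [finrank_span_singleton hu] at this
    omega
  have hs0 : s ≠ 0 := by
    rintro rfl
    exact hs (zero_mem _)
  have hA : finrank F ↥(span F {x} ⊔ span F {y}) = 2 := by
    rw [finrank_sup_span (D.not_mem_span hx hxy), finrank_span_singleton hx]
  have hxyL : ¬ L (span F {x} ⊔ span F {y}) := by
    intro h
    exact hxy ((D.line_iff hA hx (mem_sup_left (mem_span_singleton_self x))).1 h
      (mem_sup_right (mem_span_singleton_self y)))
  -- the two subspaces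
  have hT : span F {u} ⊔ span F {v} ≤ U L x ⊓ U L y :=
    sup_le ((span_singleton_le_iff_mem _ _).2 huW) ((span_singleton_le_iff_mem _ _).2 hvW)
  have hT' : span F {u} ⊔ span F {s} ≤ U L x ⊓ U L y :=
    sup_le ((span_singleton_le_iff_mem _ _).2 huW) ((span_singleton_le_iff_mem _ _).2 hsW)
  have hT2 : finrank F ↥(span F {u} ⊔ span F {v}) = 2 := by
    rw [finrank_sup_span (D.not_mem_span hu hvu), finrank_span_singleton hu]
  have hT2' : finrank F ↥(span F {u} ⊔ span F {s}) = 2 := by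
    rw [finrank_sup_span hs, finrank_span_singleton hu]
  have hS4 : finrank F ↥(span F {x} ⊔ span F {y} ⊔ (span F {u} ⊔ span F {v})) = 4 := by
    rw [D.finrank_sup hx hy hxy hT, hT2]
  have hS4' : finrank F ↥(span F {x} ⊔ span F {y} ⊔ (span F {u} ⊔ span F {s})) = 4 := by
    rw [D.finrank_sup hx hy hxy hT', hT2']
  have hux : u ∉ span F {x} ⊔ span F {y} := fun h => hu (D.mem_zero hx hy hxy h huW.1 huW.2)
  have hux' : u ∉ span F {x} := fun h => hux (mem_sup_left h)
  have hxu : x ∉ span F {u} ⊔ span F {s} := by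
    intro h
    exact hx (D.mem_zero hx hy hxy (mem_sup_left (mem_span_singleton_self x)) (hT' h).1 (hT' h).2)
  have hB : finrank F ↥(span F {x} ⊔ span F {u}) = 2 := by
    rw [finrank_sup_span hux', finrank_span_singleton hx]
  have hBL : L (span F {x} ⊔ span F {u}) := D.line hx huW.1 hux'
  -- the radical of elements
  have hrad : ∀ T : Submodule F V, T ≤ U L x ⊓ U L y → ∀ r ∈ rad L (span F {x} ⊔ span F {y} ⊔ T), r ∈ T := by
    intro T hT r hr
    rw [mem_rad] at hr
    obtain ⟨hr1, hr2⟩ := hr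
    have hrx := hr2 x (mem_sup_left (mem_sup_left (mem_span_singleton_self x))) hx
    have hry := hr2 y (mem_sup_left (mem_sup_right (mem_span_singleton_self y))) hy
    obtain ⟨a, ha, b, hb, rfl⟩ := mem_sup.1 hr1
    have ha0 : a = 0 := by
      apply D.mem_zero hx hy hxy ha
      · have := sub_mem hrx (hT hb).1
        rwa [add_sub_cancel_right] at this
      · have := sub_mem hry (hT hb).2
        rwa [add_sub_cancel_right] at this
    rw [ha0, zero_add]
    exact hb
  have hR : rad L (span F {x} ⊔ span F {y} ⊔ (span F {u} ⊔ span F {v})) = ⊥ := by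
    rw [eq_bot_iff]
    intro r hr
    have hr1 := hrad _ hT r hr
    rw [mem_rad] at hr
    have hru := hr.2 u (mem_sup_right (mem_sup_left (mem_span_singleton_self u))) hu
    have hrv := hr.2 v (mem_sup_right (mem_sup_right (mem_span_singleton_self v))) hv0
    exact D.mem_zero hu hv0 hvu hr1 hru hrv
  have hR' : rad L (span F {x} ⊔ span F {y} ⊔ (span F {u} ⊔ span F {s})) = span F {u} ⊔ span F {s} := by
    apply le_antisymm
    · exact fun r hr => hrad _ hT' r hr
    · have h3 : span F {x} ⊔ span F {y} ⊔ (span F {u} ⊔ span F {s}) ≤ U L u :=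
        sup_le (sup_le ((span_singleton_le_iff_mem _ _).2 (D.symm hx hu huW.1))
          ((span_singleton_le_iff_mem _ _).2 (D.symm hy hu huW.2)))
          (sup_le ((span_singleton_le_iff_mem _ _).2 (D.self_mem hu)) ((span_singleton_le_iff_mem _ _).2 hsu))
      have h4 : span F {x} ⊔ span F {y} ⊔ (span F {u} ⊔ span F {s}) ≤ U L s :=
        sup_le (sup_le ((span_singleton_le_iff_mem _ _).2 (D.symm hx hs0 hsW.1))
          ((span_singleton_le_iff_mem _ _).2 (D.symm hy hs0 hsW.2)))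
          (sup_le ((span_singleton_le_iff_mem _ _).2 (D.symm hu hs0 hsu))
            ((span_singleton_le_iff_mem _ _).2 (D.self_mem hs0)))
      refine sup_le ?_ ?_
      · rw [span_singleton_le_iff_mem, mem_rad]
        exact ⟨mem_sup_right (mem_sup_left (mem_span_singleton_self u)), fun t ht ht0 => D.symm hu ht0 (h3 ht)⟩
      · rw [span_singleton_le_iff_mem, mem_rad]
        exact ⟨mem_sup_right (mem_sup_right (mem_span_singleton_self s)), fun t ht ht0 => D.symm hs0 ht0 (h4 ht)⟩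
  have a1 : ∃ W, f W = (0, 0, 1) := by
    refine ⟨fl24 _ _ hB hS4 (sup_le (le_sup_left.trans le_sup_left) (le_sup_left.trans le_sup_right)), ?_⟩
    rw [hval, hR, inf_bot_eq, finrank_bot, if_pos hBL]
  have a2 : ∃ W, f W = (0, 0, 0) := by
    refine ⟨fl24 _ _ hA hS4 le_sup_left, ?_⟩
    rw [hval, hR, inf_bot_eq, finrank_bot, if_neg hxyL]
  have a3 : ∃ W, f W = (2, 2, 1) := by
    refine ⟨fl24 _ _ hT2' hS4' le_sup_right, ?_⟩
    rw [hval, hR', inf_idem, hT2', if_pos (D.line hu hsu hs)]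
  have a4 : ∃ W, f W = (2, 1, 1) := by
    refine ⟨fl24 _ _ hB hS4' (sup_le (le_sup_left.trans le_sup_left) (le_sup_left.trans le_sup_right)), ?_⟩
    have h2 := finrank_sup_add_finrank_inf_eq (span F {x} ⊔ span F {u}) (span F {u} ⊔ span F {s})
    have h3 : span F {x} ⊔ span F {u} ⊔ (span F {u} ⊔ span F {s}) = span F {u} ⊔ span F {s} ⊔ span F {x} := by
      apply le_antisymm
      · exact sup_le (sup_le le_sup_right (le_sup_left.trans le_sup_left)) le_sup_left
      · exact sup_le le_sup_right (le_sup_left.trans le_sup_left)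
    rw [h3, finrank_sup_span hxu, hB, hT2'] at h2
    rw [hval, hR', hT2', if_pos hBL]
    congr 2
    omega
  have a5 : ∃ W, f W = (2, 0, 0) := by
    refine ⟨fl24 _ _ hA hS4' le_sup_left, ?_⟩
    have h2 := finrank_sup_add_finrank_inf_eq (span F {x} ⊔ span F {y}) (span F {u} ⊔ span F {s})
    rw [hS4', hA, hT2'] at h2
    rw [hval, hR', hT2', if_neg hxyL]
    congr 2
    omega
  have h5 := card_le_nOrb (G := H) f hf {(0, 0, 1), (0, 0, 0), (2, 2, 1), (2, 1, 1), (2, 0, 0)} (by
    intro z hz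
    simp only [mem_insert, mem_singleton] at hz
    rcases hz with rfl | rfl | rfl | rfl | rfl
    · exact a1
    · exact a2
    · exact a3
    · exact a4
    · exact a5)
  rw [h24] at h5
  revert h5
  decide

end

theorem Dat.false (D : Dat H L d) (hn : 5 ≤ finrank F V) (h2 : 2 ≤ d) (hd : d + 1 ≤ finrank F V)
    (h13 : nOrb H (Fl F V ![1, 3]) = 3) (h24 : 6 ≤ finrank F V → nOrb H (Fl F V ![2, 4]) = 4) : False := by
  rcases eq_or_lt_of_le h2 with rfl | h3
  · by_cases hn6 : 6 ≤ finrank F V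
    · exact D.two6 hn6 (h24 hn6)
    · exact D.two5 (by omega)
  · by_cases hd' : d + 1 = finrank F V
    · by_cases hn6 : 6 ≤ finrank F V
      · exact D.hyp6 hd' hn6 (h24 hn6)
      · exact D.hyp5 hd' (by omega)
    · exact D.dim hn h13 h3 (by omega)

end

/-- **No group has these numbers of orbits on flags.** -/
theorem geo5 (hn : 5 ≤ finrank F V) (h1 : nOrb H (Fl F V ![1]) = 1) (h2 : nOrb H (Fl F V ![2]) = 2)
    (h13 : nOrb H (Fl F V ![1, 3]) = 3) (h123 : nOrb H (Fl F V ![1, 2, 3]) = 4)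
    (h24 : 6 ≤ finrank F V → nOrb H (Fl F V ![2, 4]) = 4) : False := by
  obtain ⟨c, hs, hc⟩ := exists_class h2
  have hL : LL H (fun B : Submodule F V => ∃ hB : finrank F B = 2, c (ln B hB) = 0) := by
    refine ⟨?_, ?_, ?_, ?_⟩
    · rintro B ⟨hB, _⟩
      exact hB
    · rintro h B ⟨hB, hB'⟩
      refine ⟨by rw [Flags.finrank_smul, hB], ?_⟩
      rw [← hB', hc]
      exact ⟨h, rfl⟩
    · obtain ⟨W, hW⟩ := hs 0
      refine ⟨W.1 0, W.2.2 0, ?_⟩
      rw [← hW]
      congr 1
      apply Subtype.ext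
      funext i
      fin_cases i
      rfl
    · obtain ⟨W, hW⟩ := hs 1
      refine ⟨W.1 0, W.2.2 0, ?_⟩
      rintro ⟨hB, hB'⟩
      have e : ln (W.1 0) hB = W := by
        apply Subtype.ext
        funext i
        fin_cases i
        rfl
      rw [e, hW] at hB'
      exact absurd hB' (by decide)
  obtain ⟨L', hL', hU⟩ := step3 hL hn h1 h13 h123.le
  obtain ⟨d, D, hd2, hd⟩ := exists_dat hL' h1 hU
  exact D.false hn hd2 hd h13 h24

end Cfsg.Agent.H87.Geo5
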