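import Cfsg.Agent.H87.Flags

/-!
# Elements of order a primitive prime divisor of `q^(n-1) - 1` : elements commuting with them
-/

set_option autoImplicit false
set_option linter.unusedSectionVars false

namespace Cfsg.Agent.H87.HerA

open Submodule Module
open scoped Pointwise

variable {F V : Type*} [Field F] [Fintype F] [AddCommGroup V] [Module F V] [Finite V]
variable {G : Type*} [Group G] [DistribMulAction G V] [SMulCommClass G F V]

/-- the fixed vectors. -/
def Fx (F : Type*) {V : Type*} [Field F] [AddCommGroup V] [Module F V] {G : Type*} [Group G] [DistribMulAction G V]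
    [SMulCommClass G F V] (g : G) : Submodule F V where
  carrier := {v | g • v = v}
  add_mem' := by
    intro a b ha hb
    change g • (a + b) = a + b
    rw [smul_add, ha, hb]
  zero_mem' := smul_zero g
  smul_mem' := by
    intro c v hv
    change g • c • v = c • v
    rw [smul_comm, hv]

theorem mem_Fx {g : G} {v : V} : v ∈ Fx F g ↔ g • v = v := Iff.rfl

/-- counting fixed vectors in an invariant subspace. -/
theorem count {l k : ℕ} [hl : Fact l.Prime] {g : G} (hg : ∀ v : V, g ^ l ^ k • v = v) {B : Submodule F V}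
    (hB : ∀ v ∈ B, g • v ∈ B) :
    Fintype.card F ^ finrank F B ≡ Fintype.card F ^ finrank F ↥(B ⊓ Fx F g) [MOD l] := by
  classical
  let f : Function.End B := fun v => ⟨g • v.1, hB v v.2⟩
  have hf : f ^ l ^ k = 1 := by
    have h1 : ∀ (m : ℕ) (v : B), ((f ^ m) v).1 = g ^ m • v.1 := by
      intro m
      induction m with
      | zero =>
        intro v
        rw [pow_zero, pow_zero, one_smul]
        rfl
      | succ m ih =>
        intro v
        rw [pow_succ', pow_succ', mul_smul, ← ih]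
        rfl
    funext v
    apply Subtype.ext
    rw [h1, hg]
    rfl
  have hfin : Fintype B := Fintype.ofFinite B
  have hfin2 : Fintype ↥(B ⊓ Fx F g) := Fintype.ofFinite _
  have h2 := Equiv.Perm.card_fixedPoints_modEq hf
  have h3 : Fintype.card B = Fintype.card F ^ finrank F B := card_eq_pow_finrank
  have h4 : Fintype.card ↥(B ⊓ Fx F g) = Fintype.card F ^ finrank F ↥(B ⊓ Fx F g) := card_eq_pow_finrank
  rw [← h3, ← h4]
  refine h2.trans ?_
  have h5 : Fintype.card ↥(Function.fixedPoints f) = Fintype.card ↥(B ⊓ Fx F g) := by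
    refine Fintype.card_congr ⟨fun v => ⟨v.1.1, v.1.2, congrArg Subtype.val v.2⟩,
      fun v => ⟨⟨v.1, v.2.1⟩, Subtype.ext v.2.2⟩, fun v => rfl, fun v => rfl⟩
  rw [← h5]

/-- `r` is a primitive prime divisor of `q^(n-1) - 1`. -/
structure Pr (F : Type*) [Field F] [Fintype F] (n r : ℕ) : Prop where
  prime : r.Prime
  dvd : ∀ i, r ∣ Fintype.card F ^ i - 1 → (n - 1) ∣ i
  dvd' : r ∣ Fintype.card F ^ (n - 1) - 1
  ndvd : ¬ r ∣ Fintype.card F

variable {n r : ℕ}

theorem dim_mod (P : Pr F n r) {g : G} (hg : g ^ r = 1) {B : Submodule F V} (hB : ∀ v ∈ B, g • v ∈ B) :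
    (n - 1) ∣ finrank F B - finrank F ↥(B ⊓ Fx F g) := by
  have hr : Fact r.Prime := ⟨P.prime⟩
  have h1 := count (F := F) (V := V) (l := r) (k := 1) (g := g) (by
    intro v
    rw [pow_one, hg, one_smul]) hB
  have h2 : finrank F ↥(B ⊓ Fx F g) ≤ finrank F B := finrank_mono inf_le_left
  have hq : 0 < Fintype.card F := Fintype.card_pos
  apply P.dvd
  have h3 : r ∣ Fintype.card F ^ finrank F B - Fintype.card F ^ finrank F ↥(B ⊓ Fx F g) :=
    (Nat.modEq_iff_dvd' (Nat.pow_le_pow_right hq h2)).1 h1.symm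
  have h4 : Fintype.card F ^ finrank F B - Fintype.card F ^ finrank F ↥(B ⊓ Fx F g) =
      Fintype.card F ^ finrank F ↥(B ⊓ Fx F g) *
        (Fintype.card F ^ (finrank F B - finrank F ↥(B ⊓ Fx F g)) - 1) := by
    rw [Nat.mul_sub, mul_one, ← pow_add, Nat.add_sub_cancel' h2]
  rw [h4] at h3
  exact (P.prime.dvd_mul.1 h3).resolve_left fun h => P.ndvd (P.prime.dvd_of_dvd_pow h)

theorem finrank_Fx (hn : 3 ≤ n) (hV : finrank F V = n) (P : Pr F n r) {g : G} (hg : g ^ r = 1)
    (hg1 : ∃ v : V, g • v ≠ v) : finrank F (Fx F g : Submodule F V) = 1 := by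
  have h1 := dim_mod (F := F) (V := V) P hg (B := ⊤) (fun _ _ => mem_top)
  rw [top_inf_eq, finrank_top, hV] at h1
  have h2 : finrank F (Fx F g : Submodule F V) < n := by
    rw [← hV]
    apply finrank_lt
    intro h
    obtain ⟨v, hv⟩ := hg1
    apply hv
    rw [← mem_Fx (F := F), h]
    exact mem_top
  obtain ⟨k, hk⟩ := h1
  have hk0 : k ≠ 0 := by
    rintro rfl
    omega
  have hk1 : k < 2 := by
    by_contra hcon
    have : (n - 1) * 2 ≤ (n - 1) * k := Nat.mul_le_mul_left _ (by omega)
    omega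
  have : k = 1 := by omega
  subst this
  omega

theorem pair (hn : 3 ≤ n) (hV : finrank F V = n) (P : Pr F n r) {g : G} (hg : g ^ r = 1)
    (hg1 : ∃ v : V, g • v ≠ v) {D E : Submodule F V} (hD : ∀ v ∈ D, g • v ∈ D) (hE : ∀ v ∈ E, g • v ∈ E)
    (hD1 : finrank F D = 1) (hE1 : finrank F E = n - 1) (h : D ⊓ E ≠ ⊥) : False := by
  have hW := finrank_Fx hn hV P hg hg1
  have h1 : finrank F ↥(D ⊓ E) ≠ 0 := fun h0 => h (Submodule.finrank_eq_zero.1 h0)
  have h2 : finrank F ↥(D ⊓ E) ≤ finrank F D := finrank_mono inf_le_left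
  have h3 : D ⊓ E = D := eq_of_le_of_finrank_eq inf_le_left (by omega)
  have hDE : D ≤ E := inf_eq_left.1 h3
  have h4 := dim_mod P hg hD
  have h5 := dim_mod P hg hE
  have h6 : finrank F ↥(D ⊓ Fx F g) ≤ finrank F D := finrank_mono inf_le_left
  have h7 : finrank F ↥(D ⊓ Fx F g) = 1 := by
    by_contra hcon
    have h8 : finrank F ↥(D ⊓ Fx F g) = 0 := by omega
    rw [h8, hD1] at h4
    have := Nat.le_of_dvd (by norm_num) h4
    omega
  have h8 : finrank F ↥(D ⊓ Fx F g) ≤ finrank F ↥(E ⊓ Fx F g) := finrank_mono (inf_le_inf_right _ hDE)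
  have h9 : finrank F ↥(E ⊓ Fx F g) ≤ finrank F (Fx F g : Submodule F V) := finrank_mono inf_le_right
  have h10 : finrank F ↥(E ⊓ Fx F g) = 1 := by omega
  rw [h10, hE1] at h5
  have := Nat.le_of_dvd (by omega) h5
  omega

/-- **Elements of order a power of the characteristic do not commute with `g`.** -/
theorem lemA (hn : 3 ≤ n) (hV : finrank F V = n) (P : Pr F n r) {g u : G} (hg : g ^ r = 1)
    (hg1 : ∃ v : V, g • v ≠ v) {p k : ℕ} (hp : p.Prime) (hF : p ∣ Fintype.card F) (hu : u ^ p ^ k = 1)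
    (hc : g * u = u * g) (v : V) : u • v = v := by
  have hpf : Fact p.Prime := ⟨hp⟩
  by_contra hv
  let T : V →ₗ[F] V := (DistribMulAction.toLinearEquiv F V u : V →ₗ[F] V) - LinearMap.id
  have hT : ∀ w, T w = u • w - w := fun w => rfl
  have hker : LinearMap.ker T = Fx F u := by
    ext w
    rw [LinearMap.mem_ker, hT, mem_Fx, sub_eq_zero]
  have hdim := LinearMap.finrank_range_add_finrank_ker T
  rw [hker, hV] at hdim
  have hcomm : ∀ w : V, u • g • w = g • u • w := by
    intro w
    rw [← mul_smul, ← mul_smul, hc]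
  have hB1 : ∀ w ∈ (Fx F u : Submodule F V), g • w ∈ (Fx F u : Submodule F V) := by
    intro w hw
    rw [mem_Fx] at hw ⊢
    rw [hcomm, hw]
  have hB2 : ∀ w ∈ LinearMap.range T, g • w ∈ LinearMap.range T := by
    rintro _ ⟨w, rfl⟩
    refine ⟨g • w, ?_⟩
    rw [hT, hT, smul_sub, hcomm]
  have hB2u : ∀ w ∈ LinearMap.range T, u • w ∈ LinearMap.range T := by
    rintro _ ⟨w, rfl⟩
    refine ⟨u • w, ?_⟩
    rw [hT, hT, smul_sub]
  have hu' : ∀ v : V, u ^ p ^ k • v = v := by
    intro v
    rw [hu, one_smul]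
  have hq0 : ∀ m, m ≠ 0 → Fintype.card F ^ m ≡ 0 [MOD p] := by
    intro m hm
    rw [Nat.modEq_zero_iff_dvd]
    exact hF.trans (dvd_pow_self _ hm)
  have hne : ∀ m : ℕ, Fintype.card F ^ m ≡ 0 [MOD p] → m ≠ 0 := by
    rintro m h rfl
    rw [pow_zero, Nat.modEq_zero_iff_dvd] at h
    exact hp.one_lt.ne' (Nat.dvd_one.1 h)
  have c1 := count (F := F) (V := V) hu' (B := ⊤) (fun _ _ => mem_top)
  rw [top_inf_eq, finrank_top, hV] at c1
  have b1 := hne _ (c1.symm.trans (hq0 n (by omega)))
  have b2 : finrank F ↥(LinearMap.range T) ≠ 0 := by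
    intro h
    rw [h, zero_add] at hdim
    apply hv
    have : (Fx F u : Submodule F V) = ⊤ := eq_top_of_finrank_eq (by rw [hdim, hV])
    rw [← mem_Fx (F := F), this]
    exact mem_top
  have c2 := count (F := F) (V := V) hu' hB2u
  have b3 := hne _ (c2.symm.trans (hq0 _ b2))
  have b3' : LinearMap.range T ⊓ Fx F u ≠ ⊥ := by
    intro h
    rw [h, finrank_bot] at b3
    exact b3 rfl
  have hW := finrank_Fx hn hV P hg hg1
  have d1 := dim_mod P hg hB1
  have d2 := dim_mod P hg hB2
  have e1 : finrank F ↥(Fx F u ⊓ Fx F g : Submodule F V) ≤ finrank F (Fx F g : Submodule F V) :=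
    finrank_mono inf_le_right
  have e2 : finrank F ↥(LinearMap.range T ⊓ Fx F g : Submodule F V) ≤ finrank F (Fx F g : Submodule F V) :=
    finrank_mono inf_le_right
  have aux : ∀ b x : ℕ, (n - 1) ∣ b - x → x ≤ 1 → b ≠ 0 → b < n → b = 1 ∨ b = n - 1 := by
    rintro b x ⟨k, hk⟩ hx hb hbn
    rcases Nat.eq_zero_or_pos k with rfl | hk0
    · left
      omega
    · right
      have : (n - 1) * 1 ≤ (n - 1) * k := Nat.mul_le_mul_left _ hk0
      omega
  have f1 := aux _ _ d1 (by omega) b1 (by omega)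
  have f2 := aux _ _ d2 (by omega) b2 (by omega)
  rcases f1 with f1 | f1
  · exact pair hn hV P hg hg1 hB1 hB2 f1 (by omega) (by rwa [inf_comm])
  · exact pair hn hV P hg hg1 hB2 hB1 (by omega) f1 b3'

/-- the same for elements of order 7 of `GL_6(2)`. -/
theorem lem7 (hq : Fintype.card F = 2) (hV : finrank F V = 6) (P : Pr F 6 r) {g t : G} (hg : g ^ r = 1)
    (hg1 : ∃ v : V, g • v ≠ v) (ht : t ^ 7 = 1) (hc : g * t = t * g) (v : V) : t • v = v := by
  have h7 : Fact (Nat.Prime 7) := ⟨by norm_num⟩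
  have hW := finrank_Fx (by norm_num) hV P hg hg1
  have hcomm : ∀ w : V, t • g • w = g • t • w := by
    intro w
    rw [← mul_smul, ← mul_smul, hc]
  have hcard : Nat.card (Fx F g : Submodule F V) = 2 := by
    have hfin : Fintype (Fx F g : Submodule F V) := Fintype.ofFinite _
    rw [Nat.card_eq_fintype_card]
    have : Fintype.card (Fx F g : Submodule F V) = Fintype.card F ^ finrank F (Fx F g : Submodule F V) :=
      card_eq_pow_finrank
    rw [this, hq, hW, pow_one]
  have hle : (Fx F g : Submodule F V) ≤ Fx F t := by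
    intro w hw
    rw [mem_Fx]
    by_cases hw0 : w = 0
    · rw [hw0, smul_zero]
    · have htw : t • w ∈ (Fx F g : Submodule F V) := by
        rw [mem_Fx] at hw ⊢
        rw [← hcomm, hw]
      have htw0 : t • w ≠ 0 := by rwa [Ne, smul_eq_zero_iff_eq]
      obtain ⟨x, y, hxy, huniv⟩ := Nat.card_eq_two_iff.1 hcard
      have hall : ∀ z : (Fx F g : Submodule F V), z = x ∨ z = y := by
        intro z
        have : z ∈ ({x, y} : Set (Fx F g : Submodule F V)) := by rw [huniv]; trivial
        simpa using this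
      have a1 := hall ⟨w, hw⟩
      have a2 := hall ⟨t • w, htw⟩
      have a3 := hall 0
      have n1 : (⟨w, hw⟩ : (Fx F g : Submodule F V)) ≠ 0 := fun h => hw0 (congrArg Subtype.val h)
      have n2 : (⟨t • w, htw⟩ : (Fx F g : Submodule F V)) ≠ 0 := fun h => htw0 (congrArg Subtype.val h)
      have key : (⟨t • w, htw⟩ : (Fx F g : Submodule F V)) = ⟨w, hw⟩ := by
        rcases a1 with a1 | a1 <;> rcases a2 with a2 | a2 <;> rcases a3 with a3 | a3
        · rw [a1, a2]
        · rw [a1, a2]
        · exact absurd (a1.trans a3.symm) n1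
        · exact absurd (a2.trans a3.symm) n2
        · exact absurd (a2.trans a3.symm) n2
        · exact absurd (a1.trans a3.symm) n1
        · rw [a1, a2]
        · rw [a1, a2]
      exact congrArg Subtype.val key
  have hB : ∀ w ∈ (Fx F t : Submodule F V), g • w ∈ (Fx F t : Submodule F V) := by
    intro w hw
    rw [mem_Fx] at hw ⊢
    rw [hcomm, hw]
  have d1 := dim_mod P hg hB
  rw [inf_eq_right.2 hle, hW] at d1
  have d2 : finrank F (Fx F g : Submodule F V) ≤ finrank F (Fx F t : Submodule F V) := finrank_mono hle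
  have d3 : finrank F (Fx F t : Submodule F V) ≤ 6 := by
    rw [← hV]
    exact Submodule.finrank_le _
  have c1 := count (F := F) (V := V) (l := 7) (k := 1) (g := t) (by
    intro v
    rw [pow_one, ht, one_smul]) (B := ⊤) (fun _ _ => mem_top)
  rw [top_inf_eq, finrank_top, hV, hq] at c1
  rw [hW] at d2
  have d4 : finrank F (Fx F t : Submodule F V) = 6 := by
    generalize finrank F (Fx F t : Submodule F V) = f at d1 d2 d3 c1
    interval_cases f
    · exact absurd c1 (by decide)
    · exact absurd d1 (by decide)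
    · exact absurd d1 (by decide)
    · exact absurd d1 (by decide)
    · exact absurd d1 (by decide)
    · rfl
  have : (Fx F t : Submodule F V) = ⊤ := eq_top_of_finrank_eq (by rw [d4, hV])
  rw [← mem_Fx (F := F), this]
  exact mem_top

end Cfsg.Agent.H87.HerA
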