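import Cfsg.Agent.H87.HerB
import Cfsg.Agent.S0280
import Cfsg.Agent.S1059

/-!
# Proper linear groups that are transitive on points and lines are small

`her` (in the next file) : a group acting faithfully and linearly in dimension `n ≥ 5`, transitive on the points, with order divisible
by a primitive prime divisor of `q^(n-1) - 1` and too large for a semilinear group of dimension one, has order at
least `|SL_n(q)|`. The proof uses Hering's theorem.
-/

set_option autoImplicit false
set_option linter.unusedSectionVars false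

namespace Cfsg.Agent.H87.HerC

open Submodule Module
open Cfsg.Agent.H87.HerA Cfsg.Agent.H87.HerB
open scoped Pointwise

/-- The order of the automorphism group of a field of order `p ^ n` is at most `n`. -/
theorem card_ringEquiv_le {F : Type*} [Field F] [Finite F] {p n : ℕ} (hp1 : p.Prime)
    (hn : Nat.card F = p ^ n) : Nat.card (F ≃+* F) ≤ n := by
  have hp : Fact p.Prime := ⟨hp1⟩
  let _ := Fintype.ofFinite F
  have hn' := hn
  rw [Nat.card_eq_fintype_card] at hn
  have hchar : CharP F p := by
    obtain ⟨p', hpc⟩ := CharP.exists F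
    obtain ⟨k, hp', hk⟩ := FiniteField.card F p'
    have h1 : p' ∣ p ^ n := by
      rw [← hn, hk]; exact dvd_pow_self _ k.ne_zero
    have h3 := hp'.dvd_of_dvd_pow h1
    rw [← (Nat.prime_dvd_prime_iff_eq hp' hp1).1 h3]
    exact hpc
  let _ : Algebra (ZMod p) F := ZMod.algebra F p
  have hcomm : ∀ (ρ : F ≃+* F) (r : ZMod p), ρ (algebraMap (ZMod p) F r) = algebraMap (ZMod p) F r := by
    intro ρ r
    obtain ⟨n, rfl⟩ := ZMod.natCast_zmod_surjective r
    rw [map_natCast, map_natCast]
  let f : (F ≃+* F) → (F ≃ₐ[ZMod p] F) := fun ρ => AlgEquiv.ofRingEquiv (f := ρ) (hcomm ρ)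
  have hf : Function.Injective f := by
    intro a b hab
    ext x
    exact DFunLike.congr_fun hab x
  have h1 := Nat.card_le_card_of_injective f hf
  have h3 := Nat.card_congr (Equiv.ofBijective _ (FiniteField.bijective_frobeniusAlgEquivOfAlgebraic_pow (ZMod p) F))
  rw [Nat.card_fin] at h3
  have h5 : Module.finrank (ZMod p) F = n := by
    have h6 := Module.card_eq_pow_finrank (K := ZMod p) (V := F)
    rw [ZMod.card, hn] at h6
    exact (Nat.pow_right_injective hp1.two_le h6).symm
  rw [← h3, h5] at h1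
  exact h1

variable {F V : Type*} [Field F] [Fintype F] [AddCommGroup V] [Module F V] [Finite V]
variable {K : Type*} [Group K] [Finite K] [DistribMulAction K V] [SMulCommClass K F V] [FaithfulSMul K V]
variable {n r : ℕ}

/-- an element of order a primitive prime divisor on a normal subgroup. -/
theorem core (hn : 3 ≤ n) (hV : finrank F V = n) (P : Pr F n r) (hrK : r ∣ Nat.card K) (N : Subgroup K) [N.Normal]
    (hrN : ¬ r ∣ Nat.card N) {l : ℕ} (hl : l.Prime) :
    ∃ (g : K) (S : Sylow l N), g ^ r = 1 ∧ (∃ v : V, g • v ≠ v) ∧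
      Nat.card S ≡ Nat.card {x : N // x ∈ S ∧ g * x = x * g} [MOD r] := by
  have hr : Fact r.Prime := ⟨P.prime⟩
  obtain ⟨g, hg⟩ := exists_prime_orderOf_dvd_card' r hrK
  have hgr : g ^ r = 1 := by rw [← hg, pow_orderOf_eq_one]
  have hg1 : g ≠ 1 := by
    rintro rfl
    rw [orderOf_one] at hg
    exact P.prime.one_lt.ne hg
  obtain ⟨S, hS⟩ := coprime (MulAut.conjNormal (H := N) g) P.prime (by rw [← map_pow, hgr, map_one]) hrN hl
  refine ⟨g, S, hgr, ?_, ?_⟩
  · by_contra hcon
    push Not at hcon
    apply hg1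
    apply FaithfulSMul.eq_of_smul_eq_smul (α := V)
    intro v
    rw [hcon, one_smul]
  · have e : {x : N // x ∈ S ∧ MulAut.conjNormal (H := N) g x = x} ≃ {x : N // x ∈ S ∧ g * x = x * g} := by
      refine Equiv.subtypeEquivRight fun x => and_congr Iff.rfl ?_
      rw [Subtype.ext_iff, MulAut.conjNormal_apply, mul_inv_eq_iff_eq_mul]
    rw [← Nat.card_congr e]
    exact hS

/-- the order of a Sylow `p`-subgroup of a normal `r'`-subgroup. -/
theorem core_p (hn : 3 ≤ n) (hV : finrank F V = n) (P : Pr F n r) (hrK : r ∣ Nat.card K) (N : Subgroup K) [N.Normal]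
    (hrN : ¬ r ∣ Nat.card N) {p : ℕ} (hp : p.Prime) (hF : p ∣ Fintype.card F) {s : ℕ}
    (hs : ∀ S : Sylow p N, Nat.card S = Fintype.card F ^ s) : (n - 1) ∣ s := by
  have hpf : Fact p.Prime := ⟨hp⟩
  obtain ⟨g, S, hgr, hg1, hS⟩ := core (F := F) (V := V) hn hV P hrK N hrN hp
  have h1 : Nat.card {x : N // x ∈ S ∧ g * x = x * g} = 1 := by
    rw [Nat.card_eq_one_iff_unique]
    refine ⟨⟨fun x y => ?_⟩, ⟨⟨1, one_mem S, by simp⟩⟩⟩
    have key : ∀ x : {x : N // x ∈ S ∧ g * x = x * g}, x.1 = 1 := by
      rintro ⟨x, hx, hc⟩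
      obtain ⟨k, hk⟩ := S.isPGroup' ⟨x, hx⟩
      have hk' : (x : K) ^ p ^ k = 1 := by
        have := congrArg (fun z : S => ((z : N) : K)) hk
        simpa using this
      apply Subtype.ext
      change (x : K) = 1
      apply FaithfulSMul.eq_of_smul_eq_smul (α := V)
      intro v
      rw [one_smul]
      exact lemA hn hV P hgr hg1 hp hF hk' hc v
    exact Subtype.ext ((key x).trans (key y).symm)
  rw [h1, hs S] at hS
  apply P.dvd
  exact (Nat.modEq_iff_dvd' (Nat.one_le_pow _ _ Fintype.card_pos)).1 hS.symm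

end Cfsg.Agent.H87.HerC
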