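import Cfsg.Agent.H87.HerC
import Cfsg.Agent.Lib.Zsigmondy

/-!
# The cases of Hering's theorem
-/

set_option autoImplicit false
set_option linter.unusedSectionVars false

namespace Cfsg.Agent.H87.HerC

open Submodule Module
open Cfsg.Agent.H87.HerA Cfsg.Agent.H87.HerB
open scoped Pointwise

variable {F V : Type*} [Field F] [Fintype F] [AddCommGroup V] [Module F V] [Finite V]
variable {K : Type*} [Group K] [Finite K] [DistribMulAction K V] [SMulCommClass K F V] [FaithfulSMul K V]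
variable {n r : ℕ}

variable (F V K) in
/-- The situation. -/
structure Hyp (n : ℕ) : Prop where
  hn : 5 ≤ n
  hV : finrank F V = n
  trans : ∀ v w : V, v ≠ 0 → w ≠ 0 → ∃ (h : K) (c : F), h • v = c • w
  rK : ∀ r, Pr F n r → r ∣ Nat.card K
  lt : Nat.card K < Nat.card (Matrix.SpecialLinearGroup (Fin n) F)
  big : Nat.card (Matrix.SpecialLinearGroup (Fin n) F) ≤ Nat.card K * (1 + 2 * Nat.card K)

/-- the primes. -/
theorem exists_Pr (hn : 5 ≤ n) (hne : ¬ (Fintype.card F = 2 ∧ n = 7)) :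
    ∃ p e r : ℕ, p.Prime ∧ e ≠ 0 ∧ Fintype.card F = p ^ e ∧ Pr F n r := by
  obtain ⟨p, hpc⟩ := CharP.exists F
  obtain ⟨e, hp, hq⟩ := FiniteField.card F p
  have he : (e : ℕ) ≠ 0 := e.ne_zero
  have h4 : 4 ≤ (e : ℕ) * (n - 1) := by
    have : 1 * (n - 1) ≤ (e : ℕ) * (n - 1) := Nat.mul_le_mul_right _ (by omega)
    omega
  obtain ⟨r, hr, hr1, _, hr2⟩ := Cfsg.Agent.Lib.Zsigmondy.exists_primitive (a := p) (n := (e : ℕ) * (n - 1)) hp.two_le
    (by omega) (by intro h; omega) (by
      rintro ⟨hp2, h6⟩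
      have h7 : (n - 1) ∣ 6 := ⟨e, by rw [← h6, mul_comm]⟩
      have h8 : n - 1 ≤ 6 := Nat.le_of_dvd (by norm_num) h7
      have h9 : n - 1 = 6 := by
        have : n - 1 = 4 ∨ n - 1 = 5 ∨ n - 1 = 6 := by omega
        rcases this with h | h | h
        · rw [h] at h7
          exact absurd h7 (by decide)
        · rw [h] at h7
          exact absurd h7 (by decide)
        · exact h
      rw [h9] at h6
      have h10 : (e : ℕ) = 1 := by omega
      apply hne
      rw [hq, h10, hp2]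
      exact ⟨rfl, by omega⟩)
  refine ⟨p, e, r, hp, he, hq, hr, ?_, ?_, ?_⟩
  · intro i hi
    rw [hq, ← pow_mul, hr1] at hi
    exact (Nat.mul_dvd_mul_iff_left (Nat.pos_of_ne_zero he)).1 hi
  · rw [hq, ← pow_mul, hr1]
  · rw [hq]
    intro h
    exact hr2 (hr.dvd_of_dvd_pow h)

theorem card_sylow' {N : Type*} [Group N] [Finite N] {p e q : ℕ} [hp : Fact p.Prime] (he : e ≠ 0) (hq : q = p ^ e)
    (P : Sylow p N) {c A s : ℕ} (h : c * Nat.card N = q ^ s * A) (hc : ¬ p ∣ c) (hA : ¬ p ∣ A) : Nat.card P = q ^ s := by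
  rw [hq, ← pow_mul]
  apply card_sylow P (c := c) (A := A) _ hc hA
  rw [h, hq, ← pow_mul]

theorem Hyp.caseSL (h : Hyp F V K n) {a b : ℕ} (hab : a * b = n) {F' : Type*} [Field F'] [Fintype F']
    (hF' : Fintype.card F' = Fintype.card F ^ b) (N : Subgroup K) [N.Normal] (ha : 2 ≤ a)
    (ε : N ≃* Matrix.SpecialLinearGroup (Fin a) F') : False := by
  have hn := h.hn
  have hq1 : 1 < Fintype.card F := Fintype.one_lt_card
  have hN := card_sl (F := F') a (by omega)
  rw [← Nat.card_congr ε.toEquiv, hF', ← pow_mul] at hN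
  by_cases hb : b = 1
  · subst hb
    rw [mul_one] at hab
    subst hab
    have h1 := card_sl (F := F) a (by omega)
    rw [pow_one, one_mul, ← h1] at hN
    have h2 := Nat.eq_of_mul_eq_mul_left (by omega) hN
    have h3 : Nat.card N ≤ Nat.card K := Subgroup.card_le_card_group N
    have h4 := h.lt
    omega
  · have hb0 : b ≠ 0 := by
      rintro rfl
      omega
    have ha0 : a ≠ n := by
      rintro rfl
      have : a * 2 ≤ a * b := Nat.mul_le_mul_left _ (by omega)
      omega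
    have han : a ≤ n := Nat.le_of_dvd (by omega) ⟨b, hab.symm⟩
    obtain ⟨p, e, r, hp, he, hq, P⟩ := exists_Pr (F := F) hn (by
      rintro ⟨_, h7⟩
      rw [h7] at hab
      have : a ∣ 7 := ⟨b, hab.symm⟩
      rcases (Nat.dvd_prime (by norm_num)).1 this with h1 | h1 <;> omega)
    have hpf : Fact p.Prime := ⟨hp⟩
    have hpq : p ∣ Fintype.card F := by
      rw [hq]
      exact dvd_pow_self p he
    have hpq' : p ∣ Fintype.card F ^ b := hpq.trans (dvd_pow_self _ hb0)
    have hpos : 1 ≤ Fintype.card F ^ b := Nat.one_le_pow _ _ (by omega)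
    have hrN : ¬ r ∣ Nat.card N := by
      intro hr
      have h1 := Dvd.dvd.mul_left hr (Fintype.card F ^ b - 1)
      rw [hN] at h1
      rcases P.prime.dvd_mul.1 h1 with h2 | h2
      · exact P.ndvd (P.prime.dvd_of_dvd_pow h2)
      · rw [P.prime.prime.dvd_finsetProd_iff] at h2
        obtain ⟨i, hi, h3⟩ := h2
        rw [Finset.mem_range] at hi
        rw [← pow_mul] at h3
        have h4 := P.dvd _ h3
        have h5 : b * (i + 1) ≤ n := by
          rw [← hab, mul_comm a b]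
          exact Nat.mul_le_mul_left _ hi
        obtain ⟨k, hk⟩ := h4
        have hk0 : k ≠ 0 := by
          rintro rfl
          have : b * (i + 1) ≠ 0 := by positivity
          omega
        have hk2 : k < 2 := by
          by_contra hcon
          have : (n - 1) * 2 ≤ (n - 1) * k := Nat.mul_le_mul_left _ (by omega)
          omega
        have hk1 : k = 1 := by omega
        rw [hk1, mul_one] at hk
        have h6 : b ∣ n - 1 := ⟨i + 1, hk.symm⟩
        have h7 : b ∣ n := ⟨a, by rw [← hab, mul_comm]⟩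
        have h8 : b ∣ 1 := by
          have := (Nat.dvd_sub_iff_right (by omega : n - 1 ≤ n) h7).2 h6
          rwa [show n - (n - 1) = 1 by omega] at this
        exact hb (Nat.dvd_one.1 h8)
    have h1 := core_p (F := F) (V := V) (by omega) h.hV P (h.rK r P) N hrN hp hpq
      (s := b * (a * (a - 1) / 2)) (by
        intro S
        refine card_sylow' he hq S hN ?_ ?_
        · rw [← pow_one (Fintype.card F ^ b)]
          exact not_dvd_pow_sub_one hp hpq' one_ne_zero hpos
        · exact not_dvd_prod hp hpq' hpos _ _ fun i _ => Nat.succ_ne_zero i)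
    have h2 : (n - 1) ∣ n * (a - 1) := by
      have h3 : 2 * (a * (a - 1) / 2) = a * (a - 1) := Nat.two_mul_div_two_of_even (Nat.even_mul_pred_self a)
      have h4 : n * (a - 1) = 2 * (b * (a * (a - 1) / 2)) := by
        rw [← hab]
        calc a * b * (a - 1) = b * (a * (a - 1)) := by ring
          _ = b * (2 * (a * (a - 1) / 2)) := by rw [h3]
          _ = _ := by ring
      rw [h4]
      exact Dvd.dvd.mul_left h1 2
    have h3 : Nat.Coprime (n - 1) n := by
      have : n = n - 1 + 1 := by omega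
      rw [this, Nat.add_sub_cancel]
      exact Nat.coprime_self_add_right.2 (Nat.coprime_one_right _)
    have h4 := Nat.le_of_dvd (by omega) (h3.dvd_of_dvd_mul_left h2)
    omega

theorem Hyp.caseSp (h : Hyp F V K n) {m b : ℕ} (hab : 2 * m * b = n) {F' : Type*} [Field F'] [Fintype F']
    (hF' : Fintype.card F' = Fintype.card F ^ b) (N : Subgroup K) [N.Normal] (hm : 1 ≤ m)
    (ε : N ≃* Matrix.symplecticGroup (Fin m) F') : False := by
  have hn := h.hn
  have hq1 : 1 < Fintype.card F := Fintype.one_lt_card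
  have hN := Cfsg.Agent.LieClassical.SympCount.card_symplecticGroup (F := F') m
  rw [← Nat.card_congr ε.toEquiv, hF', ← pow_mul] at hN
  have hb0 : b ≠ 0 := by
    rintro rfl
    omega
  obtain ⟨p, e, r, hp, he, hq, P⟩ := exists_Pr (F := F) hn (by
    rintro ⟨_, h7⟩
    rw [h7, mul_assoc] at hab
    omega)
  have hpf : Fact p.Prime := ⟨hp⟩
  have hpq : p ∣ Fintype.card F := by
    rw [hq]
    exact dvd_pow_self p he
  have hpq' : p ∣ Fintype.card F ^ b := hpq.trans (dvd_pow_self _ hb0)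
  have hpos : 1 ≤ Fintype.card F ^ b := Nat.one_le_pow _ _ (by omega)
  have hrN : ¬ r ∣ Nat.card N := by
    intro h1
    rw [hN] at h1
    rcases P.prime.dvd_mul.1 h1 with h2 | h2
    · exact P.ndvd (P.prime.dvd_of_dvd_pow h2)
    · rw [P.prime.prime.dvd_finsetProd_iff] at h2
      obtain ⟨i, hi, h3⟩ := h2
      rw [Finset.mem_range] at hi
      rw [← pow_mul] at h3
      have h4 := P.dvd _ h3
      have h5 : b * (2 * (i + 1)) ≤ n := by
        rw [← hab, mul_comm (2 * m) b]
        exact Nat.mul_le_mul_left _ (by omega)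
      obtain ⟨k, hk⟩ := h4
      have hk0 : k ≠ 0 := by
        rintro rfl
        have : b * (2 * (i + 1)) ≠ 0 := by positivity
        omega
      have hk2 : k < 2 := by
        by_contra hcon
        have : (n - 1) * 2 ≤ (n - 1) * k := Nat.mul_le_mul_left _ (by omega)
        omega
      have hk1 : k = 1 := by omega
      rw [hk1, mul_one] at hk
      have h6 : b * (2 * (i + 1)) = 2 * (b * (i + 1)) := by ring
      have h7 : n = 2 * (m * b) := by rw [← hab]; ring
      omega
  have h1 := core_p (F := F) (V := V) (by omega) h.hV P (h.rK r P) N hrN hp hpq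
    (s := b * m ^ 2) (by
      intro S
      refine card_sylow' (c := 1) he hq S (by rw [one_mul]; exact hN) ?_ ?_
      · intro h1
        exact hp.one_lt.ne' (Nat.dvd_one.1 h1)
      · exact not_dvd_prod hp hpq' hpos _ _ fun i _ => by omega)
  have h2 : (n - 1) ∣ n * m := by
    have h4 : n * m = 2 * (b * m ^ 2) := by
      rw [← hab]
      ring
    rw [h4]
    exact Dvd.dvd.mul_left h1 2
  have h3 : Nat.Coprime (n - 1) n := by
    have : n = n - 1 + 1 := by omega
    rw [this, Nat.add_sub_cancel]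
    exact Nat.coprime_self_add_right.2 (Nat.coprime_one_right _)
  have h4 := Nat.le_of_dvd (by omega) (h3.dvd_of_dvd_mul_left h2)
  have h5 : 2 * m * 1 ≤ 2 * m * b := Nat.mul_le_mul_left _ (by omega)
  omega

theorem Hyp.caseG2 (h : Hyp F V K n) {b : ℕ} (hab : 6 * b = n) {F' : Type*} [Field F'] [Fintype F']
    (hF' : Fintype.card F' = Fintype.card F ^ b) (N : Subgroup K) [N.Normal]
    (ε : N ≃* Cfsg.Lie.chevG2.group F') : False := by
  have hn := h.hn
  have hq1 : 1 < Fintype.card F := Fintype.one_lt_card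
  have hN := Cfsg.Agent.S1059.result (F := F') rfl
  rw [← Nat.card_congr ε.toEquiv, hF'] at hN
  have hb0 : b ≠ 0 := by
    rintro rfl
    omega
  obtain ⟨p, e, r, hp, he, hq, P⟩ := exists_Pr (F := F) hn (by
    rintro ⟨_, h7⟩
    omega)
  have hpf : Fact p.Prime := ⟨hp⟩
  have hpq : p ∣ Fintype.card F := by
    rw [hq]
    exact dvd_pow_self p he
  have hpq' : p ∣ Fintype.card F ^ b := hpq.trans (dvd_pow_self _ hb0)
  have hpos : 1 ≤ Fintype.card F ^ b := Nat.one_le_pow _ _ (by omega)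
  have hrN : ¬ r ∣ Nat.card N := by
    intro h1
    rw [hN] at h1
    rcases P.prime.dvd_mul.1 h1 with h2 | h2
    · rcases P.prime.dvd_mul.1 h2 with h2 | h2
      · exact P.ndvd (P.prime.dvd_of_dvd_pow (P.prime.dvd_of_dvd_pow h2))
      · rw [← pow_mul] at h2
        have h4 := Nat.le_of_dvd (by omega) (P.dvd _ h2)
        omega
    · rw [← pow_mul] at h2
      obtain ⟨k, hk⟩ := P.dvd _ h2
      have hk0 : k ≠ 0 := by
        rintro rfl
        omega
      have hk2 : k < 2 := by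
        by_contra hcon
        have : (n - 1) * 2 ≤ (n - 1) * k := Nat.mul_le_mul_left _ (by omega)
        omega
      have hk1 : k = 1 := by omega
      rw [hk1, mul_one] at hk
      omega
  have h1 := core_p (F := F) (V := V) (by omega) h.hV P (h.rK r P) N hrN hp hpq
    (s := b * 6) (by
      intro S
      refine card_sylow' (c := 1) (A := ((Fintype.card F ^ b) ^ 2 - 1) * ((Fintype.card F ^ b) ^ 6 - 1)) he hq S
        (by rw [one_mul, hN, pow_mul]; ring) ?_ ?_
      · intro h1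
        exact hp.one_lt.ne' (Nat.dvd_one.1 h1)
      · rw [hp.dvd_mul, not_or]
        exact ⟨not_dvd_pow_sub_one hp hpq' (by norm_num) hpos, not_dvd_pow_sub_one hp hpq' (by norm_num) hpos⟩)
  obtain ⟨k, hk⟩ := h1
  have hk0 : k ≠ 0 := by
    rintro rfl
    omega
  have hk2 : k < 2 := by
    by_contra hcon
    have : (n - 1) * 2 ≤ (n - 1) * k := Nat.mul_le_mul_left _ (by omega)
    omega
  have hk1 : k = 1 := by omega
  rw [hk1, mul_one] at hk
  omega

theorem Hyp.casePSU (h : Hyp F V K n) (hn6 : n = 6) (hq2 : Fintype.card F = 2) {E : Type*} [Field E] [Fintype E]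
    (hE : Fintype.card E = 9) (N : Subgroup K) [N.Normal] (ε : N ≃* Cfsg.PSU 3 E 3) : False := by
  subst hn6
  obtain ⟨p, e, r, hp, he, hq, P⟩ := exists_Pr (F := F) (n := 6) (by norm_num) (by
    rintro ⟨_, h7⟩
    omega)
  have hN := Cfsg.Agent.S0280.result (F := E) (q := 3) (by rw [hE]; norm_num) 3 (by norm_num)
  rw [← Nat.card_congr ε.toEquiv] at hN
  have hN' : Nat.card N = 6048 := by
    have e1 : 3 ^ (3 * (3 - 1) / 2) * ∏ i ∈ Finset.range 3, (if Even i then 3 ^ (i + 1) + 1 else 3 ^ (i + 1) - 1) = 24192 := by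
      decide
    rw [e1] at hN
    have e2 : Nat.gcd 3 (3 + 1) = 1 := by decide
    rw [e2] at hN
    omega
  -- `r = 31`
  have hr : r = 31 := by
    have h1 := P.dvd'
    rw [hq2] at h1
    exact (Nat.prime_dvd_prime_iff_eq P.prime (by norm_num)).1 h1
  subst hr
  have hrN : ¬ 31 ∣ Nat.card N := by
    rw [hN']
    decide
  have h7 : Nat.Prime 7 := by norm_num
  have h7f : Fact (Nat.Prime 7) := ⟨h7⟩
  obtain ⟨g, S, hgr, hg1, hS⟩ := core (F := F) (V := V) (by norm_num) h.hV P (h.rK 31 P) N hrN h7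
  have hS7 : Nat.card S = 7 := by
    have := card_sylow S (c := 1) (A := 864) (k := 1) (by rw [hN']; norm_num) (by decide) (by decide)
    rwa [pow_one] at this
  rw [hS7] at hS
  have hle : Nat.card {x : N // x ∈ S ∧ g * x = x * g} ≤ 7 := by
    refine le_trans ?_ hS7.le
    exact Nat.card_le_card_of_injective (fun x : {x : N // x ∈ S ∧ g * x = x * g} => (⟨x.1, x.2.1⟩ : S))
      (fun x y e => Subtype.ext (congrArg (fun z : S => (z : N)) e))
  have hge : 1 < Nat.card {x : N // x ∈ S ∧ g * x = x * g} := by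
    generalize Nat.card {x : N // x ∈ S ∧ g * x = x * g} = c at hS hle
    by_contra hcon
    interval_cases c
    · exact absurd hS (by decide)
    · exact absurd hS (by decide)
  rw [Finite.one_lt_card_iff_nontrivial] at hge
  obtain ⟨x, hx⟩ := exists_ne (⟨1, one_mem S, by simp⟩ : {x : N // x ∈ S ∧ g * x = x * g})
  apply hx
  apply Subtype.ext
  apply Subtype.ext
  change ((x : N) : K) = 1
  apply FaithfulSMul.eq_of_smul_eq_smul (α := V)
  intro v
  rw [one_smul]
  refine lem7 hq2 h.hV P hgr hg1 ?_ x.2.2 v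
  have h8 : (⟨x.1, x.2.1⟩ : S) ^ 7 = 1 := by
    have := pow_card_eq_one' (x := (⟨x.1, x.2.1⟩ : (S : Subgroup N)))
    rwa [hS7] at this
  have := congrArg (fun z : S => ((z : N) : K)) h8
  simpa using this

theorem Hyp.case13 (h : Hyp F V K n) (hn6 : n = 6) (hq3 : Fintype.card F = 3)
    (ε : K ≃* Matrix.SpecialLinearGroup (Fin 2) (ZMod 13)) : False := by
  subst hn6
  obtain ⟨p, e, r, hp, he, hq, P⟩ := exists_Pr (F := F) (n := 6) (by norm_num) (by
    rintro ⟨_, h7⟩
    omega)
  have h13 : Fact (Nat.Prime 13) := ⟨by norm_num⟩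
  have hN := S0242.result (F := ZMod 13) (q := 13) (ZMod.card 13) 2 (by norm_num)
  rw [← Nat.card_congr ε.toEquiv, Fin.prod_univ_two] at hN
  have hN' : Nat.card K = 2184 := by
    simp only [Fin.val_zero, Fin.val_one, pow_zero, pow_one] at hN
    omega
  have h1 := h.rK r P
  rw [hN'] at h1
  have h2 := P.dvd'
  rw [hq3] at h2
  have h3 : r ∣ 2 * 11 ^ 2 := h2
  rcases P.prime.dvd_mul.1 h3 with h4 | h4
  · have h5 : r ∣ Fintype.card F ^ 1 - 1 := by
      rw [hq3]
      exact h4
    have := Nat.le_of_dvd (by norm_num) (P.dvd 1 h5)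
    omega
  · have h5 := (Nat.prime_dvd_prime_iff_eq P.prime (by norm_num)).1 (P.prime.dvd_of_dvd_pow h4)
    rw [h5] at h1
    exact absurd h1 (by decide)

theorem three_mul_sq_lt (m : ℕ) (hm : 5 ≤ m) : 3 * m ^ 2 < 4 ^ m := by
  induction m, hm using Nat.le_induction with
  | base => norm_num
  | succ m hm ih =>
    have h1 : 4 ^ (m + 1) = 4 * 4 ^ m := by ring
    rw [h1]
    nlinarith

theorem le_card_sl (n : ℕ) (hn : 1 ≤ n) :
    Fintype.card F ^ (n * (n - 1)) ≤ Nat.card (Matrix.SpecialLinearGroup (Fin n) F) := by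
  have hq1 : 1 < Fintype.card F := Fintype.one_lt_card
  obtain ⟨m, rfl⟩ : ∃ m, n = m + 1 := ⟨n - 1, by omega⟩
  obtain ⟨k, hk⟩ : ∃ k, Fintype.card F = k + 2 := ⟨Fintype.card F - 2, by omega⟩
  have h1 := S0242.result (F := F) rfl (m + 1) hn
  have h2 : ∏ _i : Fin (m + 1), (Fintype.card F ^ m * (Fintype.card F - 1)) ≤
      ∏ i : Fin (m + 1), (Fintype.card F ^ (m + 1) - Fintype.card F ^ (i : ℕ)) := by
    apply Finset.prod_le_prod
    · intro i _
      exact Nat.zero_le _
    · intro i _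
      have h3 : Fintype.card F ^ (i : ℕ) ≤ Fintype.card F ^ m := Nat.pow_le_pow_right (by omega) (by omega)
      have h4 : Fintype.card F ^ (m + 1) = Fintype.card F ^ m * (Fintype.card F - 1) + Fintype.card F ^ m := by
        rw [hk, show k + 2 - 1 = k + 1 by omega]
        ring
      omega
  rw [← h1, Finset.prod_const, Finset.card_univ, Fintype.card_fin, mul_pow] at h2
  have h5 : 1 ≤ (Fintype.card F - 1) ^ m := Nat.one_le_pow _ _ (by omega)
  have h6 : (Fintype.card F - 1) * Fintype.card F ^ ((m + 1) * m) ≤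
      (Fintype.card F - 1) * Nat.card (Matrix.SpecialLinearGroup (Fin (m + 1)) F) := by
    refine le_trans ?_ h2
    rw [← pow_mul, mul_comm m (m + 1), mul_comm, pow_succ]
    refine Nat.mul_le_mul_left _ ?_
    calc Fintype.card F - 1 = 1 * (Fintype.card F - 1) := (one_mul _).symm
      _ ≤ (Fintype.card F - 1) ^ m * (Fintype.card F - 1) := Nat.mul_le_mul_right _ h5
  exact Nat.le_of_mul_le_mul_left h6 (by omega)

theorem Hyp.caseGamma (h : Hyp F V K n) {E : Type*} [Field E] [Fintype E] (ε : V ≃+ E)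
    (hE : Fintype.card E = Fintype.card F ^ n)
    (hh : ∀ g : K, ∃ (c : E) (σ : E ≃+* E), ∀ v : V, ε (g • v) = c * σ (ε v)) : False := by
  have hn := h.hn
  obtain ⟨p, hpc⟩ := CharP.exists F
  obtain ⟨e, hp, hq⟩ := FiniteField.card F p
  have he : (e : ℕ) ≠ 0 := e.ne_zero
  have hEm : Nat.card E = p ^ ((e : ℕ) * n) := by
    rw [Nat.card_eq_fintype_card, hE, hq, ← pow_mul]
  have h1 := card_ringEquiv_le hp hEm
  have h2 : Nat.card K ≤ Nat.card E * ((e : ℕ) * n) := by
    choose c σ hcσ using hh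
    have h3 : Nat.card K ≤ Nat.card (E × (E ≃+* E)) := by
      have : Finite (E ≃+* E) := Finite.of_injective (fun σ : E ≃+* E => (σ : E → E)) DFunLike.coe_injective
      apply Nat.card_le_card_of_injective (fun g : K => (c g, σ g))
      intro g g' hgg
      apply FaithfulSMul.eq_of_smul_eq_smul (α := V)
      intro v
      apply ε.injective
      rw [hcσ, hcσ, (Prod.mk.inj hgg).1, (Prod.mk.inj hgg).2]
    rw [Nat.card_prod] at h3
    exact h3.trans (Nat.mul_le_mul_left _ h1)
  rw [hEm] at h2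
  have hm5 : 5 ≤ (e : ℕ) * n := by
    have : 1 * n ≤ (e : ℕ) * n := Nat.mul_le_mul_right _ (by omega)
    omega
  have h4 := three_mul_sq_lt _ hm5
  have h5 := le_card_sl (F := F) n (by omega)
  have h6 := h.big
  set m := (e : ℕ) * n with hm
  have h7 : Fintype.card F ^ (n * 4) ≤ Fintype.card F ^ (n * (n - 1)) :=
    Nat.pow_le_pow_right Fintype.card_pos (Nat.mul_le_mul_left _ (by omega))
  have h8 : Fintype.card F ^ (n * 4) = (p ^ m) ^ 2 * (p ^ m) ^ 2 := by
    rw [hq, hm]
    ring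
  have h9 : 4 ^ m ≤ (p ^ m) ^ 2 := by
    have h40 : 4 ≤ p ^ 2 := by nlinarith [hp.two_le]
    have h41 : (p ^ m) ^ 2 = (p ^ 2) ^ m := by
      rw [← pow_mul, ← pow_mul, mul_comm]
    rw [h41]
    exact Nat.pow_le_pow_left h40 m
  have h10 : 1 ≤ p ^ m := Nat.one_le_pow _ _ hp.pos
  have h11 : 1 ≤ Nat.card K := Nat.card_pos
  have h12 : Nat.card K * (1 + 2 * Nat.card K) ≤ 3 * (p ^ m * m) ^ 2 := by
    calc Nat.card K * (1 + 2 * Nat.card K) ≤ Nat.card K * (3 * Nat.card K) := Nat.mul_le_mul_left _ (by omega)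
      _ = 3 * Nat.card K ^ 2 := by ring
      _ ≤ 3 * (p ^ m * m) ^ 2 := Nat.mul_le_mul_left _ (Nat.pow_le_pow_left h2 2)
  have h13 : (p ^ m) ^ 2 * (p ^ m) ^ 2 ≤ (p ^ m) ^ 2 * (3 * m ^ 2) := by
    calc (p ^ m) ^ 2 * (p ^ m) ^ 2 = Fintype.card F ^ (n * 4) := h8.symm
      _ ≤ 3 * (p ^ m * m) ^ 2 := (h7.trans h5).trans (h6.trans h12)
      _ = (p ^ m) ^ 2 * (3 * m ^ 2) := by ring
  have h14 := Nat.le_of_mul_le_mul_left h13 (by positivity)
  omega

universe u v

/-- the statement of Hering's theorem (`S3695`). -/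
def Hering : Prop := ∀ {K : Type u} {V : Type v} [Field K] [Fintype K] [AddCommGroup V] [Module K V] [Finite V]
    (q n : ℕ) (_hq : Fintype.card K = q) (_hn : Module.finrank K V = n) (_h1 : 1 ≤ n)
    (H : Subgroup (Equiv.Perm V)) (_hadd : ∀ h ∈ H, ∀ v w : V, h (v + w) = h v + h w)
    (_hsemi : ∀ h ∈ H, ∃ σ : K ≃+* K, ∀ (c : K) (v : V), h (c • v) = σ c • h v)
    (_htrans : ∀ v w : V, v ≠ 0 → w ≠ 0 → ∃ h ∈ H, ∃ c : K, h v = c • w),
    (∃ (a b : ℕ) (F : Type) (_ : Field F) (_ : Fintype F), a * b = n ∧ Fintype.card F = q ^ b ∧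
      ∃ N : Subgroup H, N.Normal ∧
        ((2 ≤ a ∧ Nonempty (N ≃* Matrix.SpecialLinearGroup (Fin a) F)) ∨
         (∃ m : ℕ, a = 2 * m ∧ 1 ≤ m ∧ Nonempty (N ≃* Matrix.symplecticGroup (Fin m) F)) ∨
         (a = 6 ∧ q % 2 = 0 ∧ 4 ≤ Fintype.card F ∧ Nonempty (N ≃* Cfsg.Lie.chevG2.group F)) ∨
         (a = 6 ∧ Fintype.card F = 2 ∧ ∃ (E : Type) (_ : Field E) (_ : Fintype E), Fintype.card E = 9 ∧
           Nonempty (N ≃* Cfsg.PSU 3 E 3)))) ∨
    (∃ (F : Type) (_ : Field F) (_ : Fintype F) (e : V ≃+ F), Fintype.card F = q ^ n ∧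
      ∀ h ∈ H, ∃ (c : F) (σ : F ≃+* F), ∀ v : V, e (h v) = c * σ (e v)) ∨
    (n = 2 ∧ (q = 5 ∨ q = 7 ∨ q = 11 ∨ q = 23) ∧ ∃ N : Subgroup H, N.Normal ∧ Nonempty (N ≃* QuaternionGroup 2)) ∨
    (n = 2 ∧ (q = 9 ∨ q = 11 ∨ q = 19 ∨ q = 29 ∨ q = 59) ∧
      ∃ N : Subgroup H, N.Normal ∧ Nonempty (N ≃* Matrix.SpecialLinearGroup (Fin 2) (ZMod 5))) ∨
    (n = 4 ∧ q = 2 ∧ (Nonempty (H ≃* alternatingGroup (Fin 6)) ∨ Nonempty (H ≃* alternatingGroup (Fin 7)))) ∨
    (n = 4 ∧ q = 3 ∧ ((∃ N : Subgroup H, N.Normal ∧ Nat.card N = 32 ∧ Nat.card H ∣ 32 * 120) ∨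
      ∃ N : Subgroup H, N.Normal ∧ Nonempty (N ≃* Matrix.SpecialLinearGroup (Fin 2) (ZMod 5)))) ∨
    (n = 6 ∧ q = 3 ∧ Nonempty (H ≃* Matrix.SpecialLinearGroup (Fin 2) (ZMod 13)))

/-- **The consequence of Hering's theorem.** -/
theorem her {F : Type u} {V : Type v} [Field F] [Fintype F] [AddCommGroup V] [Module F V] [Finite V]
    {K : Type*} [Group K] [Finite K] [DistribMulAction K V] [SMulCommClass K F V] [FaithfulSMul K V] {n : ℕ}
    (hering : Hering.{u, v}) (h : Hyp F V K n) : False := by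
  have hn := h.hn
  have hinj : Function.Injective (MulAction.toPermHom K V) := MulAction.toPerm_injective
  let H : Subgroup (Equiv.Perm V) := (MulAction.toPermHom K V).range
  let ε : K ≃* H := MonoidHom.ofInjective hinj
  have hε : ∀ (g : K) (v : V), (ε g : Equiv.Perm V) v = g • v := fun g v => rfl
  have hmem : ∀ x ∈ H, ∃ g : K, ∀ v, x v = g • v := by
    rintro _ ⟨g, rfl⟩
    exact ⟨g, fun v => rfl⟩
  rcases hering (Fintype.card F) n rfl h.hV (by omega) H (by
      intro x hx v w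
      obtain ⟨g, hg⟩ := hmem x hx
      rw [hg, hg, hg, smul_add]) (by
      intro x hx
      obtain ⟨g, hg⟩ := hmem x hx
      refine ⟨RingEquiv.refl F, fun c v => ?_⟩
      rw [hg, hg, smul_comm]
      rfl) (by
      intro v w hv hw
      obtain ⟨g, c, hgc⟩ := h.trans v w hv hw
      exact ⟨_, ⟨g, rfl⟩, c, hgc⟩) with
    ⟨a, b, F', _, _, hab, hF', N, hN, hcases⟩ | ⟨E, _, _, e, hE, hsl⟩ | ⟨h2, _⟩ | ⟨h2, _⟩ | ⟨h2, _⟩ | ⟨h2, _⟩ |
    ⟨h6, h3, ⟨e⟩⟩
  · -- the subgroup of `K`
    have hNn : (N.comap ε.toMonoidHom).Normal := hN.comap _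
    have eN : (N.comap ε.toMonoidHom) ≃* N := by
      exact MulEquiv.trans (Subgroup.equivMapOfInjective _ ε.toMonoidHom ε.injective)
        (MulEquiv.subgroupCongr (Subgroup.map_comap_eq_self_of_surjective (f := ε.toMonoidHom) ε.surjective N))
    rcases hcases with ⟨ha, ⟨e⟩⟩ | ⟨m, ha, hm, ⟨e⟩⟩ | ⟨ha, _, _, ⟨e⟩⟩ | ⟨ha, h2, E, _, _, hE, ⟨e⟩⟩
    · exact h.caseSL hab hF' _ ha (eN.trans e)
    · rw [ha] at hab
      exact h.caseSp hab hF' _ hm (eN.trans e)
    · rw [ha] at hab
      exact h.caseG2 hab hF' _ (eN.trans e)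
    · have hq1 : 1 < Fintype.card F := Fintype.one_lt_card
      rw [ha] at hab
      rw [h2] at hF'
      have hb0 : b ≠ 0 := by
        rintro rfl
        omega
      have h4 : Fintype.card F ∣ 2 := by
        rw [hF']
        exact dvd_pow_self _ hb0
      have h5 : Fintype.card F = 2 := by
        rcases (Nat.dvd_prime Nat.prime_two).1 h4 with h5 | h5
        · omega
        · exact h5
      rw [h5] at hF'
      have hb1 : b = 1 := by
        have : 2 ^ b = 2 ^ 1 := by rw [pow_one]; exact hF'.symm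
        exact Nat.pow_right_injective le_rfl this
      exact h.casePSU (by omega) h5 hE _ (eN.trans e)
  · exact h.caseGamma e hE fun g => by
      obtain ⟨c, σ, hc⟩ := hsl _ (ε g).2
      exact ⟨c, σ, hc⟩
  · omega
  · omega
  · omega
  · omega
  · exact h.case13 h6 h3 (ε.trans e)

end Cfsg.Agent.H87.HerC
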