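import Cfsg.Agent.H87.Cov

/-!
# Sets of points with few intersection numbers with respect to lines

`lemS` : a set of points of a projective space of dimension at least `3` which meets every line in `0`, `m` or all
points (`1 ≤ m ≤ q` fixed) is empty, everything, a subspace or the complement of a subspace.
-/

set_option autoImplicit false
set_option linter.unusedSectionVars false

namespace Cfsg.Agent.H87.LemS

open Finset Submodule Module Cfsg.Agent.H87.Cov

variable {F V : Type*} [Field F] [Fintype F] [AddCommGroup V] [Module F V] [Fintype V]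

/-- the property `D` depends only on the subspace `P ⊔ ⟨v⟩`. -/
def Inv (P : Submodule F V) (D : V → Prop) : Prop :=
  ∀ v w, v ∉ P → w ∉ P → P ⊔ span F {v} = P ⊔ span F {w} → D v → D w

/-- number of vectors of a point outside `P`. -/
noncomputable def u (P : Submodule F V) : ℕ := Fintype.card F ^ finrank F P * (Fintype.card F - 1)

theorem u_pos (P : Submodule F V) : 0 < u P := by
  have := one_lt_q (F := F)
  unfold u
  have h1 : 0 < Fintype.card F ^ finrank F P := by positivity
  exact Nat.mul_pos h1 (by omega)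

theorem cn_le (D : V → Prop) (A B : Submodule F V) : cn D A B ≤ cn (fun _ => True) A B := by
  classical
  apply card_le_card
  intro v hv
  simp only [mem_filter, mem_univ, true_and, and_true] at hv ⊢
  exact ⟨hv.1, hv.2.1⟩

theorem cn_not (D : V → Prop) (A B : Submodule F V) :
    cn D A B + cn (fun v => ¬ D v) A B = cn (fun _ => True) A B := by
  classical
  rw [cn, cn, cn, ← card_union_of_disjoint]
  · congr 1
    ext v
    simp only [mem_filter, mem_univ, true_and, mem_union, and_true]
    tauto
  · rw [disjoint_left]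
    intro v hv hv'
    simp only [mem_filter, mem_univ, true_and] at hv hv'
    exact hv'.2.2 hv.2.2

theorem eq_zero_iff {D : V → Prop} {A B : Submodule F V} : cn D A B = 0 ↔ ∀ v ∈ B, v ∉ A → ¬ D v := by
  classical
  rw [cn, card_eq_zero, filter_eq_empty_iff]
  constructor
  · intro h v hv hvA hD
    exact h (mem_univ v) ⟨hv, hvA, hD⟩
  · intro h v _ hv
    exact h v hv.1 hv.2.1 hv.2.2

theorem full_iff {D : V → Prop} {A B : Submodule F V} :
    cn D A B = cn (fun _ => True) A B ↔ ∀ v ∈ B, v ∉ A → D v := by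
  have h1 := cn_not D A B
  have h2 : cn D A B = cn (fun _ => True) A B ↔ cn (fun v => ¬ D v) A B = 0 := by omega
  rw [h2, eq_zero_iff]
  simp only [not_not]

theorem cn_true_add {A B : Submodule F V} (hAB : A ≤ B) (j : ℕ) (h : finrank F B = finrank F A + j) :
    cn (fun _ : V => True) A B = Fintype.card F ^ finrank F A * (Fintype.card F ^ j - 1) := by
  have h1 := cn_true hAB
  rw [h, pow_add] at h1
  rw [Nat.mul_sub, mul_one]
  omega

theorem sq_sub_one (q : ℕ) (hq : 1 < q) : q ^ 2 - 1 = (q + 1) * (q - 1) := by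
  obtain ⟨k, rfl⟩ : ∃ k, q = k + 1 := ⟨q - 1, by omega⟩
  simp only [Nat.add_sub_cancel]
  have : (k + 1) ^ 2 = (k + 1 + 1) * k + 1 := by ring
  omega

theorem cn_true_two {P B : Submodule F V} (hPB : P ≤ B) (h : finrank F B = finrank F P + 2) :
    cn (fun _ : V => True) P B = (Fintype.card F + 1) * u P := by
  rw [cn_true_add hPB 2 h, sq_sub_one _ one_lt_q, u]
  ring

theorem cn_true_one {P B : Submodule F V} (hPB : P ≤ B) (h : finrank F B = finrank F P + 1) :
    cn (fun _ : V => True) P B = u P := by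
  rw [cn_true_add hPB 1 h, pow_one, u]

theorem cn_point {P : Submodule F V} {D : V → Prop} (hI : Inv P D) {v : V} (hv : v ∉ P) (h : D v) :
    cn D P (P ⊔ span F {v}) = u P := by
  rw [← cn_true_one (le_sup_left : P ≤ P ⊔ span F {v}) (finrank_sup_span hv), full_iff]
  intro w hw hwP
  exact hI v w hv hwP (sup_span_eq hw hwP).symm h

theorem cn_point' {P : Submodule F V} {D : V → Prop} (hI : Inv P D) {v : V} (hv : v ∉ P) (h : ¬ D v) :
    cn D P (P ⊔ span F {v}) = 0 := by
  rw [eq_zero_iff]
  intro w hw hwP hD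
  exact h (hI w v hwP hv (sup_span_eq hw hwP) hD)

theorem Inv.not {P : Submodule F V} {D : V → Prop} (hI : Inv P D) : Inv P (fun v => ¬ D v) := by
  intro v w hv hw h h1 h2
  exact h1 (hI w v hw hv h.symm h2)

/-- the intersection numbers with lines. -/
def Lines (P : Submodule F V) (D : V → Prop) (m : ℕ) : Prop :=
  ∀ B : Submodule F V, P ≤ B → finrank F B = finrank F P + 2 →
    cn D P B = 0 ∨ cn D P B = m * u P ∨ cn D P B = (Fintype.card F + 1) * u P

theorem Lines.not {P : Submodule F V} {D : V → Prop} {m : ℕ} (hm : m ≤ Fintype.card F) (h : Lines P D m) :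
    Lines P (fun v => ¬ D v) (Fintype.card F + 1 - m) := by
  intro B hB1 hB2
  have h1 := cn_not D P B
  rw [cn_true_two hB1 hB2] at h1
  have h2 : m * u P + (Fintype.card F + 1 - m) * u P = (Fintype.card F + 1) * u P := by
    rw [← add_mul]
    congr 1
    omega
  rcases h B hB1 hB2 with h3 | h3 | h3
  · right; right; omega
  · right; left; omega
  · left; omega

/-- the lines through a point in a bigger subspace: `cn D P B` from the lines. -/
theorem cn_of_lines {P : Submodule F V} {D : V → Prop} {v : V} (hv : v ∉ P) {T : Submodule F V}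
    (hT : P ⊔ span F {v} ≤ T) {k : ℕ}
    (hk : ∀ C ∈ cov (P ⊔ span F {v}) T, cn D P C = k) :
    cn D P T + (cov (P ⊔ span F {v}) T).card * cn D P (P ⊔ span F {v}) =
      cn D P (P ⊔ span F {v}) + (cov (P ⊔ span F {v}) T).card * k := by
  rw [sum_cov D (le_sup_left : P ≤ P ⊔ span F {v}) hT, sum_congr rfl hk, sum_const, smul_eq_mul]

theorem line_of_mem_cov {P : Submodule F V} {v : V} (hv : v ∉ P) {T C : Submodule F V}
    (hC : C ∈ cov (P ⊔ span F {v}) T) : P ≤ C ∧ finrank F C = finrank F P + 2 := by
  refine ⟨le_sup_left.trans (le_of_mem_cov hC), ?_⟩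
  rw [finrank_of_mem_cov hC, finrank_sup_span hv]

theorem card_cov_three {A B : Submodule F V} (hAB : A ≤ B) (h : finrank F B = finrank F A + 3) :
    (cov A B).card = Fintype.card F ^ 2 + Fintype.card F + 1 := by
  have h1 := card_cov hAB
  obtain ⟨k, hk⟩ : ∃ k, Fintype.card F = k + 2 := ⟨Fintype.card F - 2, by have := one_lt_q (F := F); omega⟩
  rw [h, hk] at h1
  rw [hk]
  have hpos : 0 < (k + 2) ^ finrank F A := by positivity
  have h2 : (k + 2) ^ finrank F A * ((cov A B).card * (k + 1) + 1) = (k + 2) ^ finrank F A * (k + 2) ^ 3 := by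
    rw [pow_add] at h1
    rw [← h1]
    simp only [show k + 2 - 1 = k + 1 by omega]
    ring
  have h3 := Nat.eq_of_mul_eq_mul_left hpos h2
  have h4 : (cov A B).card * (k + 1) = ((k + 2) ^ 2 + (k + 2) + 1) * (k + 1) := by
    nlinarith
  exact Nat.eq_of_mul_eq_mul_right (by omega) h4

/-- **No set of type `(0, m)` with `2 ≤ m ≤ q - 1` in a solid.** -/
theorem caseA {P : Submodule F V} {D : V → Prop} {m : ℕ} (hI : Inv P D) (h2 : 2 ≤ m) (hm : m + 1 ≤ Fintype.card F)
    (hl : ∀ B : Submodule F V, P ≤ B → finrank F B = finrank F P + 2 → cn D P B = 0 ∨ cn D P B = m * u P)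
    (hdim : finrank F P + 4 ≤ finrank F V) {p : V} (hp : p ∉ P) (hD : D p) : False := by
  set q := Fintype.card F with hq
  have hu := u_pos P
  -- secant lines through `p`
  have hsec : ∀ x, x ∉ P → D x → ∀ T : Submodule F V, P ⊔ span F {x} ≤ T → ∀ C ∈ cov (P ⊔ span F {x}) T,
      cn D P C = m * u P := by
    intro x hx hDx T _ C hC
    obtain ⟨h3, h4⟩ := line_of_mem_cov hx hC
    rcases hl C h3 h4 with h5 | h5
    · exfalso
      rw [eq_zero_iff] at h5
      exact h5 x (le_of_mem_cov hC (mem_sup_right (mem_span_singleton_self _))) hx hDx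
    · exact h5
  -- planes and solids
  have hpl : ∀ T : Submodule F V, P ≤ T → finrank F T = finrank F P + 3 → (∃ x ∈ T, x ∉ P ∧ D x) →
      cn D P T = (1 + (m - 1) * (q + 1)) * u P := by
    rintro T hPT hT ⟨x, hxT, hx, hDx⟩
    have hle : P ⊔ span F {x} ≤ T := sup_le hPT ((span_singleton_le_iff_mem _ _).2 hxT)
    have h3 := cn_of_lines hx hle (hsec x hx hDx T hle)
    rw [cn_point hI hx hDx, card_cov_two hle (by rw [hT, finrank_sup_span hx])] at h3
    obtain ⟨j, rfl⟩ : ∃ j, m = j + 1 := ⟨m - 1, by omega⟩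
    simp only [Nat.add_sub_cancel]
    nlinarith
  have hsol : ∀ T : Submodule F V, P ≤ T → finrank F T = finrank F P + 4 → (∃ x ∈ T, x ∉ P ∧ D x) →
      cn D P T = (1 + (m - 1) * (q ^ 2 + q + 1)) * u P := by
    rintro T hPT hT ⟨x, hxT, hx, hDx⟩
    have hle : P ⊔ span F {x} ≤ T := sup_le hPT ((span_singleton_le_iff_mem _ _).2 hxT)
    have h3 := cn_of_lines hx hle (hsec x hx hDx T hle)
    rw [cn_point hI hx hDx, card_cov_three hle (by rw [hT, finrank_sup_span hx])] at h3
    obtain ⟨j, rfl⟩ : ∃ j, m = j + 1 := ⟨m - 1, by omega⟩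
    simp only [Nat.add_sub_cancel]
    nlinarith
  -- a plane `T` and a solid `S`
  obtain ⟨T, hT1, hT2⟩ := exists_finrank (P ⊔ span F {p}) 2 (by rw [finrank_sup_span hp]; omega)
  obtain ⟨S, hS1, hS2⟩ := exists_finrank T 1 (by rw [hT2, finrank_sup_span hp]; omega)
  have hPT : P ≤ T := le_sup_left.trans hT1
  have hPS : P ≤ S := hPT.trans hS1
  have hT3 : finrank F T = finrank F P + 3 := by rw [hT2, finrank_sup_span hp]
  have hS3 : finrank F S = finrank F P + 4 := by rw [hS2, hT3]
  have hpT : p ∈ T := hT1 (mem_sup_right (mem_span_singleton_self _))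
  have hcT := hpl T hPT hT3 ⟨p, hpT, hp, hD⟩
  have hcS := hsol S hPS hS3 ⟨p, hS1 hpT, hp, hD⟩
  -- a point `r` of `T` outside the set
  obtain ⟨r, hrT, hr, hDr⟩ : ∃ r ∈ T, r ∉ P ∧ ¬ D r := by
    by_contra hcon
    push Not at hcon
    obtain ⟨C, hC1, hC3, hC2⟩ := exists_finrank_between hT1 1 (by rw [hT2]; omega)
    have h5 : cn D P C = cn (fun _ => True) P C := by
      rw [full_iff]
      intro v hv hvP
      exact hcon v (hC3 hv) hvP
    have hPC : P ≤ C := le_sup_left.trans hC1
    have hC4 : finrank F C = finrank F P + 2 := by rw [hC2, finrank_sup_span hp]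
    rw [cn_true_two hPC hC4] at h5
    rcases hl C hPC hC4 with h6 | h6
    · rw [h6] at h5
      have : 0 < (Fintype.card F + 1) * u P := by positivity
      omega
    · rw [h6] at h5
      have := Nat.eq_of_mul_eq_mul_right hu h5
      omega
  have hrle : P ⊔ span F {r} ≤ T := sup_le hPT ((span_singleton_le_iff_mem _ _).2 hrT)
  -- an exterior line through `r`
  obtain ⟨L, hL, hL0⟩ : ∃ L ∈ cov (P ⊔ span F {r}) T, cn D P L = 0 := by
    by_contra hcon
    push Not at hcon
    have h5 : ∀ C ∈ cov (P ⊔ span F {r}) T, cn D P C = m * u P := by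
      intro C hC
      obtain ⟨h3, h4⟩ := line_of_mem_cov hr hC
      rcases hl C h3 h4 with h6 | h6
      · exact absurd h6 (hcon C hC)
      · exact h6
    have h6 := cn_of_lines hr hrle h5
    rw [cn_point' hI hr hDr, card_cov_two hrle (by rw [hT3, finrank_sup_span hr]), hcT] at h6
    have h7 : (1 + (m - 1) * (q + 1)) * u P = ((q + 1) * m) * u P := by
      nlinarith
    have h8 := Nat.eq_of_mul_eq_mul_right hu h7
    obtain ⟨j, rfl⟩ : ∃ j, m = j + 1 := ⟨m - 1, by omega⟩
    simp only [Nat.add_sub_cancel] at h8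
    nlinarith
  obtain ⟨hPL, hL2⟩ := line_of_mem_cov hr hL
  have hLT : L ≤ T := le_of_mem_cov' hrle hL
  have hLS : L ≤ S := hLT.trans hS1
  have h5 := sum_cov D hPL hLS
  rw [hL0, mul_zero, add_zero, zero_add] at h5
  have h6 : (1 + (m - 1) * (q + 1)) * u P ∣ ∑ C ∈ cov L S, cn D P C := by
    apply dvd_sum
    intro C hC
    have hPC : P ≤ C := hPL.trans (le_of_mem_cov hC)
    have hC3 : finrank F C = finrank F P + 3 := by rw [finrank_of_mem_cov hC, hL2]
    by_cases h7 : ∃ x ∈ C, x ∉ P ∧ D x
    · rw [hpl C hPC hC3 h7]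
    · have : cn D P C = 0 := by
        rw [eq_zero_iff]
        intro v hv hvP hDv
        exact h7 ⟨v, hv, hvP, hDv⟩
      rw [this]
      exact dvd_zero _
  rw [← h5, hcS] at h6
  have h7 := Nat.dvd_of_mul_dvd_mul_right hu h6
  -- arithmetic
  obtain ⟨j, rfl⟩ : ∃ j, m = j + 1 := ⟨m - 1, by omega⟩
  simp only [Nat.add_sub_cancel] at h7
  obtain ⟨i, hi⟩ : ∃ i, q = j + 1 + (i + 1) := ⟨q - (j + 2), by omega⟩
  have h8 : q * (1 + j * (q + 1)) = (1 + j * (q ^ 2 + q + 1)) + (i + 1) := by
    rw [hi]
    ring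
  have h9 : 1 + j * (q + 1) ∣ i + 1 := by
    have h10 : 1 + j * (q + 1) ∣ (1 + j * (q ^ 2 + q + 1)) + (i + 1) := by
      rw [← h8]
      exact dvd_mul_left _ _
    exact (Nat.dvd_add_right h7).1 h10
  have h10 := Nat.le_of_dvd (by omega) h9
  have h11 : q + 1 ≤ j * (q + 1) := Nat.le_mul_of_pos_left _ (by omega)
  omega

/-- a plane containing a full line and a point outside the set. -/
theorem mixed_plane {P : Submodule F V} {D : V → Prop} {m : ℕ} (hI : Inv P D) (h1 : 1 ≤ m)
    (hm : m ≤ Fintype.card F) (hl : Lines P D m) {L : Submodule F V} (hPL : P ≤ L) (hL2 : finrank F L = finrank F P + 2)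
    (hL : ∀ v ∈ L, v ∉ P → D v) {r : V} (hr : r ∉ P) (hDr : ¬ D r) :
    Fintype.card F + 1 - m ∣ Fintype.card F := by
  classical
  set q := Fintype.card F with hq
  have hu := u_pos P
  have hrL : r ∉ L := fun h => hDr (hL r h hr)
  set T : Submodule F V := L ⊔ span F {r} with hTdef
  have hLT : L ≤ T := le_sup_left
  have hPT : P ≤ T := hPL.trans hLT
  have hrT : r ∈ T := mem_sup_right (mem_span_singleton_self _)
  have hT3 : finrank F T = finrank F P + 3 := by rw [hTdef, finrank_sup_span hrL, hL2]
  have hrle : P ⊔ span F {r} ≤ T := sup_le hPT ((span_singleton_le_iff_mem _ _).2 hrT)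
  have h5 : ∀ C ∈ cov (P ⊔ span F {r}) T, cn D P C = m * u P := by
    intro C hC
    obtain ⟨h3, h4⟩ := line_of_mem_cov hr hC
    have hCT : C ≤ T := le_of_mem_cov' hrle hC
    rcases hl C h3 h4 with h6 | h6 | h6
    · exfalso
      -- `C` meets `L` outside `P`
      have h7 := finrank_sup_add_finrank_inf_eq C L
      have h8 : finrank F ↥(C ⊔ L) ≤ finrank F T := finrank_mono (sup_le hCT hLT)
      have h9 : finrank F P + 1 ≤ finrank F ↥(C ⊓ L) := by omega
      obtain ⟨x, hx, hxP⟩ : ∃ x ∈ C ⊓ L, x ∉ P := by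
        by_contra hcon
        push Not at hcon
        have : C ⊓ L ≤ P := hcon
        have := finrank_mono this
        omega
      rw [eq_zero_iff] at h6
      exact h6 x hx.1 hxP (hL x hx.2 hxP)
    · exact h6
    · exfalso
      rw [← cn_true_two h3 h4, full_iff] at h6
      exact hDr (h6 r (le_of_mem_cov hC (mem_sup_right (mem_span_singleton_self _))) hr)
  have h6 := cn_of_lines hr hrle h5
  rw [cn_point' hI hr hDr, card_cov_two hrle (by rw [hT3, finrank_sup_span hr]), mul_zero, add_zero, zero_add] at h6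
  -- a point of the set
  obtain ⟨p, hpL, hp⟩ : ∃ p ∈ L, p ∉ P := by
    by_contra hcon
    push Not at hcon
    have : L ≤ P := hcon
    have := finrank_mono this
    omega
  have hDp := hL p hpL hp
  have hple : P ⊔ span F {p} ≤ T := sup_le hPT ((span_singleton_le_iff_mem _ _).2 (hLT hpL))
  have h7 := sum_cov D (le_sup_left : P ≤ P ⊔ span F {p}) hple
  rw [cn_point hI hp hDp, card_cov_two hple (by rw [hT3, finrank_sup_span hp]), h6] at h7
  -- number of full lines
  set φ := ((cov (P ⊔ span F {p}) T).filter fun C => cn D P C = (q + 1) * u P).card with hφ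
  have h8 : ∑ C ∈ cov (P ⊔ span F {p}) T, cn D P C = ∑ C ∈ cov (P ⊔ span F {p}) T,
      (m * u P + if cn D P C = (q + 1) * u P then (q + 1 - m) * u P else 0) := by
    apply sum_congr rfl
    intro C hC
    obtain ⟨h3, h4⟩ := line_of_mem_cov hp hC
    split_ifs with h9
    · rw [h9, ← add_mul]
      congr 1
      omega
    · rcases hl C h3 h4 with h10 | h10 | h10
      · exfalso
        rw [eq_zero_iff] at h10
        exact h10 p (le_of_mem_cov hC (mem_sup_right (mem_span_singleton_self _))) hp hDp
      · rw [h10, add_zero]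
      · exact absurd h10 h9
  rw [h8, sum_add_distrib, sum_const, ← sum_filter, sum_const, ← hφ, smul_eq_mul, smul_eq_mul,
    card_cov_two hple (by rw [hT3, finrank_sup_span hp])] at h7
  have h9 : q * u P = (φ * (q + 1 - m)) * u P := by
    have : φ * ((q + 1 - m) * u P) = (φ * (q + 1 - m)) * u P := by ring
    rw [← this]
    have h11 : (q + 1) * u P = q * u P + u P := by ring
    have h12 : (q + 1) * (m * u P) + (q + 1) * u P = u P + ((q + 1) * (m * u P) + φ * ((q + 1 - m) * u P)) := h7
    omega
  have h10 := Nat.eq_of_mul_eq_mul_right hu h9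
  exact ⟨φ, by rw [mul_comm]; exact h10⟩

/-- a set closed under joining points is a subspace. -/
theorem subspace_of_closed {P : Submodule F V} {D : V → Prop} (hI : Inv P D)
    (h : ∀ v w, v ∉ P → w ∉ P → D v → D w → w ∉ P ⊔ span F {v} →
      ∀ x ∈ (P ⊔ span F {v}) ⊔ span F {w}, x ∉ P → D x) :
    ∃ U : Submodule F V, ∀ v, v ∈ U ↔ v ∈ P ∨ D v ∧ v ∉ P := by
  refine ⟨{ carrier := {v | v ∈ P ∨ D v ∧ v ∉ P}
            add_mem' := ?_
            zero_mem' := Or.inl (zero_mem _)
            smul_mem' := ?_ }, fun v => Iff.rfl⟩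
  · have key : ∀ a b : V, D b → b ∉ P → a ∈ P → D (a + b) ∧ a + b ∉ P := by
      intro a b hb hbP ha
      have h1 : a + b ∉ P := fun hc => hbP ((add_mem_cancel_left ha).1 hc)
      refine ⟨hI b (a + b) hbP h1 ?_ hb, h1⟩
      exact (sup_span_eq (add_mem (mem_sup_left ha) (mem_sup_right (mem_span_singleton_self _))) h1).symm
    rintro a b (ha | ⟨ha, haP⟩) (hb | ⟨hb, hbP⟩)
    · exact Or.inl (add_mem ha hb)
    · exact Or.inr (key a b hb hbP ha)
    · rw [add_comm]
      exact Or.inr (key b a ha haP hb)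
    · by_cases hab : a + b ∈ P
      · exact Or.inl hab
      · refine Or.inr ⟨?_, hab⟩
        by_cases hba : b ∈ P ⊔ span F {a}
        · refine hI a (a + b) haP hab ?_ ha
          exact (sup_span_eq (add_mem (mem_sup_right (mem_span_singleton_self _)) hba) hab).symm
        · exact h a b haP hbP ha hb hba (a + b)
            (add_mem (mem_sup_left (mem_sup_right (mem_span_singleton_self _)))
              (mem_sup_right (mem_span_singleton_self _))) hab
  · rintro c a (ha | ⟨ha, haP⟩)
    · exact Or.inl (smul_mem _ _ ha)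
    · by_cases hc : c = 0
      · rw [hc, zero_smul]
        exact Or.inl (zero_mem _)
      · have h1 : c • a ∉ P := fun h => haP (by
          have := smul_mem P c⁻¹ h
          rwa [smul_smul, inv_mul_cancel₀ hc, one_smul] at this)
        refine Or.inr ⟨hI a (c • a) haP h1 ?_ ha, h1⟩
        exact (sup_span_eq (smul_mem _ _ (mem_sup_right (mem_span_singleton_self _))) h1).symm

/-- **Sets of type `(0, 1, q + 1)` are subspaces.** -/
theorem of_one {P : Submodule F V} {D : V → Prop} (hI : Inv P D) (hl : Lines P D 1) :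
    ∃ U : Submodule F V, ∀ v, v ∈ U ↔ v ∈ P ∨ D v ∧ v ∉ P := by
  apply subspace_of_closed hI
  intro v w hv hw hDv hDw hne x hx hxP
  have hPL : P ≤ (P ⊔ span F {v}) ⊔ span F {w} := le_sup_left.trans le_sup_left
  have hL2 : finrank F ↥((P ⊔ span F {v}) ⊔ span F {w}) = finrank F P + 2 := by
    rw [finrank_sup_span hne, finrank_sup_span hv]
  have hu := u_pos P
  rcases hl _ hPL hL2 with h1 | h1 | h1
  · exfalso
    rw [eq_zero_iff] at h1
    exact h1 v (mem_sup_left (mem_sup_right (mem_span_singleton_self _))) hv hDv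
  · exfalso
    have h2 := cn_split D (le_sup_left : P ≤ P ⊔ span F {v}) (le_sup_left : P ⊔ span F {v} ≤ (P ⊔ span F {v}) ⊔ span F {w})
    rw [h1, cn_point hI hv hDv, one_mul] at h2
    have h3 : cn D (P ⊔ span F {v}) ((P ⊔ span F {v}) ⊔ span F {w}) = 0 := by omega
    rw [eq_zero_iff] at h3
    exact h3 w (mem_sup_right (mem_span_singleton_self _)) hne hDw
  · rw [← cn_true_two hPL hL2, full_iff] at h1
    exact h1 x hx hxP

/-- **Sets of points meeting every line in `0`, `m` or `q + 1` points.** -/
theorem lemS {P : Submodule F V} {D : V → Prop} {m : ℕ} (hI : Inv P D) (h1 : 1 ≤ m) (hm : m ≤ Fintype.card F)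
    (hl : Lines P D m) (hdim : finrank F P + 4 ≤ finrank F V) (hex : ∃ p, p ∉ P ∧ D p) (hex' : ∃ r, r ∉ P ∧ ¬ D r) :
    (∃ U : Submodule F V, ∀ v, v ∈ U ↔ v ∈ P ∨ D v ∧ v ∉ P) ∨
      (∃ U : Submodule F V, ∀ v, v ∈ U ↔ v ∈ P ∨ ¬ D v ∧ v ∉ P) := by
  obtain ⟨p, hp, hDp⟩ := hex
  obtain ⟨r, hr, hDr⟩ := hex'
  have hl' := hl.not hm
  rcases Nat.lt_or_ge 1 m with h2 | h2
  · rcases Nat.lt_or_ge m (Fintype.card F) with h3 | h3
    · exfalso
      -- full lines?
      by_cases hf : ∃ B : Submodule F V, P ≤ B ∧ finrank F B = finrank F P + 2 ∧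
          cn D P B = (Fintype.card F + 1) * u P
      · by_cases he : ∃ B : Submodule F V, P ≤ B ∧ finrank F B = finrank F P + 2 ∧ cn D P B = 0
        · obtain ⟨B, hB1, hB2, hB3⟩ := hf
          obtain ⟨B', hB1', hB2', hB3'⟩ := he
          rw [← cn_true_two hB1 hB2, full_iff] at hB3
          rw [eq_zero_iff] at hB3'
          have h4 := mixed_plane hI h1 hm hl hB1 hB2 hB3 hr hDr
          have h5 := mixed_plane hI.not (by omega) (by omega) hl' hB1' hB2' hB3' hp (not_not.2 hDp)
          have h6 : Fintype.card F + 1 - (Fintype.card F + 1 - m) = m := by omega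
          rw [h6] at h5
          obtain ⟨a, ha⟩ := h4
          obtain ⟨b, hb⟩ := h5
          have hb2 : 2 ≤ b := by
            rcases Nat.lt_or_ge b 2 with h | h
            · interval_cases b
              · omega
              · omega
            · exact h
          have ha2 : 2 ≤ a := by
            rcases Nat.lt_or_ge a 2 with h | h
            · interval_cases a
              · omega
              · omega
            · exact h
          have h7 : m * 2 ≤ m * b := Nat.mul_le_mul_left _ hb2
          have h8 : (Fintype.card F + 1 - m) * 2 ≤ (Fintype.card F + 1 - m) * a := Nat.mul_le_mul_left _ ha2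
          omega
        · -- no exterior lines
          refine caseA (m := Fintype.card F + 1 - m) hI.not (by omega) (by omega) ?_ hdim hr hDr
          intro B hB1 hB2
          rcases hl' B hB1 hB2 with h4 | h4 | h4
          · exact Or.inl h4
          · exact Or.inr h4
          · exfalso
            apply he
            refine ⟨B, hB1, hB2, ?_⟩
            have h5 := cn_not D P B
            rw [cn_true_two hB1 hB2] at h5
            omega
      · refine caseA hI h2 (by omega) ?_ hdim hp hDp
        intro B hB1 hB2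
        rcases hl B hB1 hB2 with h4 | h4 | h4
        · exact Or.inl h4
        · exact Or.inr h4
        · exact absurd ⟨B, hB1, hB2, h4⟩ hf
    · right
      have h4 : Fintype.card F + 1 - m = 1 := by omega
      rw [h4] at hl'
      exact of_one hI.not hl'
  · left
    have : m = 1 := by omega
    subst this
    exact of_one hI hl

end Cfsg.Agent.H87.LemS
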