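import Cfsg.Agent.H139.Young

/-!
# Counting `ℕ`-matrices with given margins

`comp l` is the composition with parts the list `l` (and zeros); the numbers of matrices with row sums
`comp l` and column sums `(1, n-1)`, `(2, n-2)`, `(1, 1, n-2)`.
-/

set_option autoImplicit false

namespace Cfsg.Agent.H87.MargCount

open Finset Cfsg.Agent.H139.Young

variable {n : ℕ}

/-- The composition with the parts of the list `l`, followed by zeros. -/
def comp (n : ℕ) (l : List ℕ) : Fin n → ℕ := fun i => l.getD i.val 0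

theorem sum_three (hn : 3 ≤ n) (f : Fin n → ℕ) (h : ∀ j : Fin n, 3 ≤ j.val → f j = 0) :
    ∑ j, f j = f ⟨0, by omega⟩ + f ⟨1, by omega⟩ + f ⟨2, by omega⟩ := by
  obtain ⟨k, rfl⟩ : ∃ k, n = k + 3 := ⟨n - 3, by omega⟩
  rw [Fin.sum_univ_succ, Fin.sum_univ_succ, Fin.sum_univ_succ]
  have : ∑ i : Fin k, f i.succ.succ.succ = 0 := by
    apply sum_eq_zero
    intro i _
    apply h
    simp
  rw [this, add_zero, ← add_assoc]
  rfl

theorem sum_four (hn : 4 ≤ n) (f : Fin n → ℕ) (h : ∀ j : Fin n, 4 ≤ j.val → f j = 0) :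
    ∑ j, f j = f ⟨0, by omega⟩ + f ⟨1, by omega⟩ + f ⟨2, by omega⟩ + f ⟨3, by omega⟩ := by
  obtain ⟨k, rfl⟩ : ∃ k, n = k + 4 := ⟨n - 4, by omega⟩
  rw [Fin.sum_univ_succ, Fin.sum_univ_succ, Fin.sum_univ_succ, Fin.sum_univ_succ]
  have : ∑ i : Fin k, f i.succ.succ.succ.succ = 0 := by
    apply sum_eq_zero
    intro i _
    apply h
    simp
  rw [this, add_zero, ← add_assoc, ← add_assoc]
  rfl

/-- pairs of columns. -/
def Cols (a : Fin n → ℕ) (b0 b1 : ℕ) : Type :=
  {p : (Fin n → ℕ) × (Fin n → ℕ) // (∀ i, p.1 i + p.2 i ≤ a i) ∧ ∑ i, p.1 i = b0 ∧ ∑ i, p.2 i = b1}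

/-- the matrix with given first two columns. -/
def fill (a c c' : Fin n → ℕ) (i j : Fin n) : ℕ :=
  if j.val = 0 then c i else if j.val = 1 then c' i else if j.val = 2 then a i - c i - c' i else 0

theorem comp_big (b0 b1 b2 : ℕ) {j : Fin n} (hj : 3 ≤ j.val) : comp n [b0, b1, b2] j = 0 := by
  rw [comp, List.getD_eq_getElem?_getD, List.getElem?_eq_none (by simpa using hj)]
  rfl

theorem fill_row (hn : 3 ≤ n) {a c c' : Fin n → ℕ} (h : ∀ i, c i + c' i ≤ a i) (i : Fin n) :
    ∑ j, fill a c c' i j = a i := by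
  rw [sum_three hn]
  · have := h i
    simp only [fill]
    simp
    omega
  · intro j hj
    rw [fill, if_neg (by omega), if_neg (by omega), if_neg (by omega)]

theorem fill_col {a c c' : Fin n → ℕ} (h : ∀ i, c i + c' i ≤ a i) {b0 b1 b2 : ℕ}
    (h0 : ∑ i, c i = b0) (h1 : ∑ i, c' i = b1) (ha : ∑ i, a i = b0 + b1 + b2) (j : Fin n) :
    ∑ i, fill a c c' i j = comp n [b0, b1, b2] j := by
  by_cases hj0 : j.val = 0
  · have e : ∀ i, fill a c c' i j = c i := fun i => if_pos hj0
    rw [sum_congr rfl (fun i _ => e i), h0, comp, hj0]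
    rfl
  · by_cases hj1 : j.val = 1
    · have e : ∀ i, fill a c c' i j = c' i := fun i => by rw [fill, if_neg hj0, if_pos hj1]
      rw [sum_congr rfl (fun i _ => e i), h1, comp, hj1]
      rfl
    · by_cases hj2 : j.val = 2
      · have e : ∀ i, fill a c c' i j = a i - c i - c' i := fun i => by
          rw [fill, if_neg hj0, if_neg hj1, if_pos hj2]
        have h4 : ∑ i, (a i - c i - c' i) + ∑ i, c i + ∑ i, c' i = ∑ i, a i := by
          rw [← sum_add_distrib, ← sum_add_distrib]
          apply sum_congr rfl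
          intro i _
          have := h i
          omega
        rw [h0, h1, ha] at h4
        rw [sum_congr rfl (fun i _ => e i)]
        have h5 : comp n [b0, b1, b2] j = b2 := by
          rw [comp, hj2]
          rfl
        rw [h5]
        omega
      · have e : ∀ i, fill a c c' i j = 0 := fun i => by rw [fill, if_neg hj0, if_neg hj1, if_neg hj2]
        rw [sum_congr rfl (fun i _ => e i), comp_big _ _ _ (by omega)]
        simp

theorem marg_big {a : Fin n → ℕ} {b0 b1 b2 : ℕ} (M : Marg a (comp n [b0, b1, b2])) (i : Fin n) :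
    ∀ j : Fin n, 3 ≤ j.val → M.1 i j = 0 := by
  intro j hj
  have h2 := M.2.2 j
  rw [comp_big _ _ _ hj, sum_eq_zero_iff] at h2
  exact h2 i (mem_univ i)

theorem marg_row (hn : 3 ≤ n) {a : Fin n → ℕ} {b0 b1 b2 : ℕ} (M : Marg a (comp n [b0, b1, b2])) (i : Fin n) :
    M.1 i ⟨0, by omega⟩ + M.1 i ⟨1, by omega⟩ + M.1 i ⟨2, by omega⟩ = a i := by
  have h2 := M.2.1 i
  rwa [sum_three hn _ (marg_big M i)] at h2

theorem fill_marg (hn : 3 ≤ n) {a : Fin n → ℕ} {b0 b1 b2 : ℕ} (M : Marg a (comp n [b0, b1, b2])) :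
    fill a (fun i => M.1 i ⟨0, by omega⟩) (fun i => M.1 i ⟨1, by omega⟩) = M.1 := by
  funext i j
  have h2 := marg_row hn M i
  rw [fill]
  split_ifs with h3 h4 h5
  · have h6 : j = ⟨0, by omega⟩ := Fin.ext h3
    rw [h6]
  · have h6 : j = ⟨1, by omega⟩ := Fin.ext h4
    rw [h6]
  · have h6 : j = ⟨2, by omega⟩ := Fin.ext h5
    rw [h6]
    omega
  · exact (marg_big M i j (by omega)).symm

/-- matrices with at most three nonzero columns are given by the first two columns. -/
def margEquiv (hn : 3 ≤ n) (a : Fin n → ℕ) (b0 b1 b2 : ℕ) (ha : ∑ i, a i = b0 + b1 + b2) :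
    Marg a (comp n [b0, b1, b2]) ≃ Cols a b0 b1 where
  toFun M := ⟨(fun i => M.1 i ⟨0, by omega⟩, fun i => M.1 i ⟨1, by omega⟩),
    fun i => by
      have := marg_row hn M i
      change M.1 i ⟨0, by omega⟩ + M.1 i ⟨1, by omega⟩ ≤ a i
      omega, M.2.2 ⟨0, by omega⟩, M.2.2 ⟨1, by omega⟩⟩
  invFun p := ⟨fill a p.1.1 p.1.2, fill_row hn p.2.1, fill_col p.2.1 p.2.2.1 p.2.2.2 ha⟩
  left_inv M := Subtype.ext (fill_marg hn M)
  right_inv p := by
    apply Subtype.ext
    apply Prod.ext
    · funext i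
      rfl
    · funext i
      rfl

theorem single_of_sum_one {c : Fin n → ℕ} (h : ∑ i, c i = 1) : ∃ i, c = Pi.single i 1 := by
  obtain ⟨i, hi⟩ : ∃ i, c i ≠ 0 := by
    by_contra hcon
    push Not at hcon
    rw [sum_eq_zero (fun i _ => hcon i)] at h
    exact zero_ne_one h
  refine ⟨i, ?_⟩
  have h1 := add_sum_erase univ c (mem_univ i)
  rw [h] at h1
  funext j
  by_cases hj : j = i
  · rw [hj, Pi.single_eq_same]
    omega
  · rw [Pi.single_eq_of_ne hj]
    have h2 : ∑ x ∈ univ.erase i, c x = 0 := by omega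
    rw [sum_eq_zero_iff] at h2
    exact h2 j (mem_erase.2 ⟨hj, mem_univ j⟩)

theorem sum_single_one (i : Fin n) : ∑ j, (Pi.single i 1 : Fin n → ℕ) j = 1 := by
  rw [sum_pi_single' i 1 univ, if_pos (mem_univ i)]

/-- unit vectors: type `(1, 0)`. -/
theorem card_cols_one (a : Fin n → ℕ) : Nat.card (Cols a 1 0) = ∑ i, if 1 ≤ a i then 1 else 0 := by
  classical
  have e : {i : Fin n // 1 ≤ a i} ≃ Cols a 1 0 := by
    refine Equiv.ofBijective (fun i => ⟨(Pi.single i.1 1, 0), ?_, sum_single_one _, by simp⟩) ⟨?_, ?_⟩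
    · intro j
      by_cases hj : j = i.1
      · rw [hj]
        simpa using i.2
      · change (Pi.single i.1 1 : Fin n → ℕ) j + 0 ≤ _
        rw [Pi.single_eq_of_ne hj]
        simp
    · intro i j h
      have h1 := congrArg (fun p => p.1.1) h
      change (Pi.single i.1 1 : Fin n → ℕ) = Pi.single j.1 1 at h1
      apply Subtype.ext
      by_contra hne
      have h2 := congrFun h1 i.1
      rw [Pi.single_eq_same, Pi.single_eq_of_ne hne] at h2
      exact one_ne_zero h2
    · rintro ⟨⟨c, c'⟩, h1, h2, h3⟩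
      obtain ⟨i, hi⟩ := single_of_sum_one h2
      have h4 : c' = 0 := by
        funext j
        change ∑ i, c' i = 0 at h3
        rw [sum_eq_zero_iff] at h3
        exact h3 j (mem_univ j)
      have h5 := h1 i
      change c = _ at hi
      change c i + c' i ≤ a i at h5
      rw [hi, Pi.single_eq_same] at h5
      refine ⟨⟨i, by omega⟩, ?_⟩
      apply Subtype.ext
      change (Pi.single i 1, (0 : Fin n → ℕ)) = (c, c')
      rw [hi, h4]
  rw [← Nat.card_congr e, Nat.card_eq_fintype_card, Fintype.card_subtype, card_filter]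

/-- type `(1, 1)`. -/
theorem card_cols_one_one (a : Fin n → ℕ) :
    Nat.card (Cols a 1 1) = ∑ i, ∑ j, if 1 ≤ a i ∧ 1 ≤ a j ∧ (i = j → 2 ≤ a i) then 1 else 0 := by
  classical
  have e : {p : Fin n × Fin n // 1 ≤ a p.1 ∧ 1 ≤ a p.2 ∧ (p.1 = p.2 → 2 ≤ a p.1)} ≃ Cols a 1 1 := by
    refine Equiv.ofBijective (fun p => ⟨(Pi.single p.1.1 1, Pi.single p.1.2 1), ?_, sum_single_one _,
      sum_single_one _⟩) ⟨?_, ?_⟩
    · intro j
      obtain ⟨⟨i, i'⟩, h1, h2, h3⟩ := p
      change (Pi.single i 1 : Fin n → ℕ) j + (Pi.single i' 1 : Fin n → ℕ) j ≤ a j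
      change i = i' → 2 ≤ a i at h3
      change 1 ≤ a i at h1
      change 1 ≤ a i' at h2
      by_cases hj : j = i
      · by_cases hj' : j = i'
        · subst hj
          have := h3 hj'
          rw [← hj', Pi.single_eq_same]
          exact this
        · rw [Pi.single_eq_of_ne hj', hj, Pi.single_eq_same]
          exact h1
      · by_cases hj' : j = i'
        · rw [Pi.single_eq_of_ne hj, hj', Pi.single_eq_same]
          simpa using h2
        · rw [Pi.single_eq_of_ne hj, Pi.single_eq_of_ne hj']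
          exact Nat.zero_le _
    · intro p p' h
      have h1 := congrArg (fun p => p.1.1) h
      have h2 := congrArg (fun p => p.1.2) h
      change (Pi.single p.1.1 1 : Fin n → ℕ) = Pi.single p'.1.1 1 at h1
      change (Pi.single p.1.2 1 : Fin n → ℕ) = Pi.single p'.1.2 1 at h2
      apply Subtype.ext
      apply Prod.ext
      · by_contra hne
        have h3 := congrFun h1 p.1.1
        rw [Pi.single_eq_same, Pi.single_eq_of_ne hne] at h3
        exact one_ne_zero h3
      · by_contra hne
        have h3 := congrFun h2 p.1.2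
        rw [Pi.single_eq_same, Pi.single_eq_of_ne hne] at h3
        exact one_ne_zero h3
    · rintro ⟨⟨c, c'⟩, h1, h2, h3⟩
      obtain ⟨i, hi⟩ := single_of_sum_one h2
      obtain ⟨i', hi'⟩ := single_of_sum_one h3
      change c = _ at hi
      change c' = _ at hi'
      change ∀ i, c i + c' i ≤ a i at h1
      subst hi hi'
      refine ⟨⟨(i, i'), ?_, ?_, ?_⟩, rfl⟩
      · have := h1 i
        rw [Pi.single_eq_same] at this
        change 1 ≤ a i
        omega
      · have := h1 i'
        rw [Pi.single_eq_same] at this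
        change 1 ≤ a i'
        omega
      · intro h
        change i = i' at h
        have := h1 i
        rw [← h, Pi.single_eq_same] at this
        exact this
  rw [← Nat.card_congr e, Nat.card_eq_fintype_card, Fintype.card_subtype, card_filter, Fintype.sum_prod_type]

theorem exists_of_sum_two {c : Fin n → ℕ} (h : ∑ i, c i = 2) :
    ∃ i j : Fin n, i ≤ j ∧ c = Pi.single i 1 + Pi.single j 1 := by
  obtain ⟨i, hi⟩ : ∃ i, c i ≠ 0 := by
    by_contra hcon
    push Not at hcon
    rw [sum_eq_zero (fun i _ => hcon i)] at h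
    omega
  have h1 : ∑ j, (c j - (Pi.single i 1 : Fin n → ℕ) j) = 1 := by
    have h2 : ∑ j, (c j - (Pi.single i 1 : Fin n → ℕ) j) + ∑ j, (Pi.single i 1 : Fin n → ℕ) j = ∑ j, c j := by
      rw [← sum_add_distrib]
      apply sum_congr rfl
      intro j _
      by_cases hj : j = i
      · rw [hj, Pi.single_eq_same]
        omega
      · rw [Pi.single_eq_of_ne hj]
        simp
    rw [sum_single_one, h] at h2
    omega
  obtain ⟨j, hj⟩ := single_of_sum_one h1
  have h2 : c = Pi.single i 1 + Pi.single j 1 := by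
    funext k
    have h3 := congrFun hj k
    rw [Pi.add_apply, ← h3]
    by_cases hk : k = i
    · rw [hk, Pi.single_eq_same]
      omega
    · rw [Pi.single_eq_of_ne hk]
      simp
  rcases le_total i j with h3 | h3
  · exact ⟨i, j, h3, h2⟩
  · exact ⟨j, i, h3, by rw [h2, add_comm]⟩

/-- type `(2, 0)`. -/
theorem card_cols_two (a : Fin n → ℕ) :
    Nat.card (Cols a 2 0) = ∑ i, ∑ j, if i ≤ j ∧ 1 ≤ a i ∧ 1 ≤ a j ∧ (i = j → 2 ≤ a i) then 1 else 0 := by
  classical
  have e : {p : Fin n × Fin n // p.1 ≤ p.2 ∧ 1 ≤ a p.1 ∧ 1 ≤ a p.2 ∧ (p.1 = p.2 → 2 ≤ a p.1)} ≃ Cols a 2 0 := by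
    refine Equiv.ofBijective (fun p => ⟨(Pi.single p.1.1 1 + Pi.single p.1.2 1, 0), ?_, ?_, by simp⟩) ⟨?_, ?_⟩
    · intro j
      obtain ⟨⟨i, i'⟩, _, h1, h2, h3⟩ := p
      change (Pi.single i 1 : Fin n → ℕ) j + (Pi.single i' 1 : Fin n → ℕ) j + 0 ≤ a j
      rw [add_zero]
      change i = i' → 2 ≤ a i at h3
      change 1 ≤ a i at h1
      change 1 ≤ a i' at h2
      by_cases hj : j = i
      · by_cases hj' : j = i'
        · subst hj
          have := h3 hj'
          rw [← hj', Pi.single_eq_same]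
          exact this
        · rw [Pi.single_eq_of_ne hj', hj, Pi.single_eq_same]
          exact h1
      · by_cases hj' : j = i'
        · rw [Pi.single_eq_of_ne hj, hj', Pi.single_eq_same]
          simpa using h2
        · rw [Pi.single_eq_of_ne hj, Pi.single_eq_of_ne hj']
          exact Nat.zero_le _
    · change ∑ i, ((Pi.single p.1.1 1 : Fin n → ℕ) i + (Pi.single p.1.2 1 : Fin n → ℕ) i) = 2
      rw [sum_add_distrib, sum_single_one, sum_single_one]
    · rintro ⟨⟨i, j⟩, hij, _⟩ ⟨⟨i', j'⟩, hij', _⟩ h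
      have h1 := congrArg (fun p => p.1.1) h
      change (Pi.single i 1 : Fin n → ℕ) + Pi.single j 1 = Pi.single i' 1 + Pi.single j' 1 at h1
      change i ≤ j at hij
      change i' ≤ j' at hij'
      have h6 : i = i' := by
        rcases lt_trichotomy i i' with h | h | h
        · exfalso
          have h2 := congrFun h1 i
          rw [Pi.add_apply, Pi.add_apply, Pi.single_eq_same, Pi.single_eq_of_ne h.ne,
            Pi.single_eq_of_ne (h.trans_le hij').ne] at h2
          omega
        · exact h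
        · exfalso
          have h2 := congrFun h1 i'
          rw [Pi.add_apply, Pi.add_apply, Pi.single_eq_same, Pi.single_eq_of_ne h.ne,
            Pi.single_eq_of_ne (h.trans_le hij).ne] at h2
          omega
      subst h6
      have h7 := add_left_cancel h1
      have h8 : j = j' := by
        by_contra hne
        have h2 := congrFun h7 j
        rw [Pi.single_eq_same, Pi.single_eq_of_ne hne] at h2
        exact one_ne_zero h2
      subst h8
      rfl
    · rintro ⟨⟨c, c'⟩, h1, h2, h3⟩
      obtain ⟨i, j, hij, hc⟩ := exists_of_sum_two h2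
      change c = _ at hc
      have h4 : c' = 0 := by
        funext j
        change ∑ i, c' i = 0 at h3
        rw [sum_eq_zero_iff] at h3
        exact h3 j (mem_univ j)
      change ∀ i, c i + c' i ≤ a i at h1
      subst hc h4
      have h5 : ∀ k, (Pi.single i 1 : Fin n → ℕ) k + (Pi.single j 1 : Fin n → ℕ) k ≤ a k := fun k => h1 k
      refine ⟨⟨(i, j), hij, ?_, ?_, ?_⟩, rfl⟩
      · have := h5 i
        rw [Pi.single_eq_same] at this
        change 1 ≤ a i
        omega
      · have := h5 j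
        rw [Pi.single_eq_same] at this
        change 1 ≤ a j
        omega
      · intro h
        change i = j at h
        have := h5 i
        rw [← h, Pi.single_eq_same] at this
        exact this
  rw [← Nat.card_congr e, Nat.card_eq_fintype_card, Fintype.card_subtype, card_filter, Fintype.sum_prod_type]

theorem comp_apply (l : List ℕ) (k : ℕ) (hk : k < n) : comp n l ⟨k, hk⟩ = l.getD k 0 := rfl

theorem comp_big' {l : List ℕ} (hl : l.length ≤ 4) {j : Fin n} (hj : 4 ≤ j.val) : comp n l j = 0 := by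
  rw [comp, List.getD_eq_getElem?_getD, List.getElem?_eq_none (by omega)]
  rfl

/-- number of nonzero entries of a list of length at most four. -/
def S1 (l : List ℕ) : ℕ := ∑ i ∈ range 4, if 1 ≤ l.getD i 0 then 1 else 0

theorem card_one (hn : 4 ≤ n) (l : List ℕ) (hl : l.length ≤ 4) :
    Nat.card (Cols (comp n l) 1 0) = S1 l := by
  rw [card_cols_one, sum_four hn]
  · simp only [comp_apply, S1, sum_range_succ, sum_range_zero, zero_add]
    rfl
  · intro j hj
    rw [comp_big' hl hj, if_neg (by omega)]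

def S11 (l : List ℕ) : ℕ := ∑ i ∈ range 4, ∑ j ∈ range 4,
  if 1 ≤ l.getD i 0 ∧ 1 ≤ l.getD j 0 ∧ (i = j → 2 ≤ l.getD i 0) then 1 else 0

def S2 (l : List ℕ) : ℕ := ∑ i ∈ range 4, ∑ j ∈ range 4,
  if i ≤ j ∧ 1 ≤ l.getD i 0 ∧ 1 ≤ l.getD j 0 ∧ (i = j → 2 ≤ l.getD i 0) then 1 else 0

theorem card_one_one (hn : 4 ≤ n) (l : List ℕ) (hl : l.length ≤ 4) :
    Nat.card (Cols (comp n l) 1 1) = S11 l := by
  rw [card_cols_one_one, sum_four hn]
  · rw [sum_four hn, sum_four hn, sum_four hn, sum_four hn]
    · simp only [comp_apply, S11, sum_range_succ, sum_range_zero, zero_add, Fin.mk.injEq]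
    all_goals
      intro j hj
      rw [comp_big' hl hj, if_neg (by omega)]
  · intro j hj
    apply sum_eq_zero
    intro i _
    rw [comp_big' hl hj, if_neg (by omega)]

theorem card_two (hn : 4 ≤ n) (l : List ℕ) (hl : l.length ≤ 4) :
    Nat.card (Cols (comp n l) 2 0) = S2 l := by
  rw [card_cols_two, sum_four hn]
  · rw [sum_four hn, sum_four hn, sum_four hn, sum_four hn]
    · simp only [comp_apply, S2, sum_range_succ, sum_range_zero, zero_add, Fin.mk.injEq, Fin.mk_le_mk]
    all_goals
      intro j hj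
      rw [comp_big' hl hj, if_neg (by omega)]
  · intro j hj
    apply sum_eq_zero
    intro i _
    rw [comp_big' hl hj, if_neg (by omega)]

theorem sum_comp (hn : 4 ≤ n) (l : List ℕ) (hl : l.length ≤ 4) : ∑ i, comp n l i = l.sum := by
  rw [sum_four hn]
  · simp only [comp_apply]
    match l, hl with
    | [], _ => rfl
    | [a], _ => simp
    | [a, b], _ => simp
    | [a, b, c], _ => simp [add_assoc]
    | [a, b, c, d], _ => simp [add_assoc]
  · intro j hj
    exact comp_big' hl hj

theorem marg_one (hn : 4 ≤ n) (l : List ℕ) (hl : l.length ≤ 4) (hs : l.sum = n) :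
    Nat.card (Marg (comp n l) (comp n [1, 0, n - 1])) = S1 l := by
  rw [Nat.card_congr (margEquiv (by omega) (comp n l) 1 0 (n - 1) (by rw [sum_comp hn l hl]; omega)),
    card_one hn l hl]

theorem marg_one_one (hn : 4 ≤ n) (l : List ℕ) (hl : l.length ≤ 4) (hs : l.sum = n) :
    Nat.card (Marg (comp n l) (comp n [1, 1, n - 2])) = S11 l := by
  rw [Nat.card_congr (margEquiv (by omega) (comp n l) 1 1 (n - 2) (by rw [sum_comp hn l hl]; omega)),
    card_one_one hn l hl]

theorem marg_two (hn : 4 ≤ n) (l : List ℕ) (hl : l.length ≤ 4) (hs : l.sum = n) :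
    Nat.card (Marg (comp n l) (comp n [2, 0, n - 2])) = S2 l := by
  rw [Nat.card_congr (margEquiv (by omega) (comp n l) 2 0 (n - 2) (by rw [sum_comp hn l hl]; omega)),
    card_two hn l hl]

theorem S1_1 (k : ℕ) : S1 [1, 0, k + 1] = 2 := by
  simp only [S1, sum_range_succ, sum_range_zero, List.getD_cons_zero, List.getD_cons_succ]
  simp
theorem S1_2 (k : ℕ) : S1 [2, 0, k + 1] = 2 := by
  simp only [S1, sum_range_succ, sum_range_zero, List.getD_cons_zero, List.getD_cons_succ]
  simp
theorem S1_12 (k : ℕ) : S1 [1, 1, k + 1] = 3 := by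
  simp only [S1, sum_range_succ, sum_range_zero, List.getD_cons_zero, List.getD_cons_succ]
  simp
theorem S1_13 (k : ℕ) : S1 [1, 2, k + 1] = 3 := by
  simp only [S1, sum_range_succ, sum_range_zero, List.getD_cons_zero, List.getD_cons_succ]
  simp
theorem S1_24 (k : ℕ) : S1 [2, 2, k + 1] = 3 := by
  simp only [S1, sum_range_succ, sum_range_zero, List.getD_cons_zero, List.getD_cons_succ]
  simp
theorem S1_123 (k : ℕ) : S1 [1, 1, 1, k + 1] = 4 := by
  simp only [S1, sum_range_succ, sum_range_zero, List.getD_cons_zero, List.getD_cons_succ]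
  simp
theorem S2_2 (k : ℕ) : S2 [2, 0, k + 2] = 3 := by
  simp only [S2, sum_range_succ, sum_range_zero, List.getD_cons_zero, List.getD_cons_succ]
  simp
theorem S2_12 (k : ℕ) : S2 [1, 1, k + 2] = 4 := by
  simp only [S2, sum_range_succ, sum_range_zero, List.getD_cons_zero, List.getD_cons_succ]
  simp
theorem S2_13 (k : ℕ) : S2 [1, 2, k + 2] = 5 := by
  simp only [S2, sum_range_succ, sum_range_zero, List.getD_cons_zero, List.getD_cons_succ]
  simp
theorem S2_24 (k : ℕ) : S2 [2, 2, k + 2] = 6 := by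
  simp only [S2, sum_range_succ, sum_range_zero, List.getD_cons_zero, List.getD_cons_succ]
  simp
theorem S2_123 (k : ℕ) : S2 [1, 1, 1, k + 2] = 7 := by
  simp only [S2, sum_range_succ, sum_range_zero, List.getD_cons_zero, List.getD_cons_succ]
  simp
theorem S11_12 (k : ℕ) : S11 [1, 1, k + 2] = 7 := by
  simp only [S11, sum_range_succ, sum_range_zero, List.getD_cons_zero, List.getD_cons_succ]
  simp

end Cfsg.Agent.H87.MargCount
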