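import Cfsg.Agent.H139.Unipotent
import Cfsg.Agent.H87.SLInner

/-!
# Constituents of flag characters of `SL_n(q)` have degree divisible by `q`'s prime

`dvd_degree` : a function of norm one on `SL_n(q)` having integral inner products with all flag characters, orthogonal
to the principal character but not to all flag characters, has value at `1` an integral multiple of `q`.
-/

set_option autoImplicit false
set_option linter.unusedSectionVars false

namespace Cfsg.Agent.H87.Uni

open scoped MatrixGroups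
open Finset MulAction Matrix Cfsg.Agent.H87.Orb Cfsg.Agent.H87.SLInner
open Cfsg.Agent.H139.Young Cfsg.Agent.H139

variable {F : Type*} [Field F] [Fintype F] {n : ℕ} [Fintype (SpecialLinearGroup (Fin n) F)]

/-- a permutation is valid for `ν`. -/
def Valid (ν : Fin n → ℕ) (κ : Equiv.Perm (Fin n)) : Prop := ∀ i : Fin n, (κ i).val ≤ ν i + i.val

instance (ν : Fin n → ℕ) : DecidablePred (Valid ν) := fun κ => by unfold Valid; infer_instance

/-- the composition `λ - κ`. -/
def lk (ν : Fin n → ℕ) (κ : Equiv.Perm (Fin n)) : Fin n → ℕ := fun i => ν i + i.val - (κ i).val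

variable (F) in
/-- the unipotent characters of `SL_n(q)`. -/
noncomputable def chi (ν : Fin n → ℕ) : SpecialLinearGroup (Fin n) F → ℝ :=
  ∑ κ : Equiv.Perm (Fin n), if Valid ν κ then ((Equiv.Perm.sign κ : ℤ) : ℝ) • theta F (lk ν κ) else 0

theorem sum_lk {ν : Fin n → ℕ} (hsum : ∑ i, ν i = n) {κ : Equiv.Perm (Fin n)} (hκ : Valid ν κ) :
    ∑ i, lk ν κ i = n := Degree.sum_sub_eq ν hsum κ hκ

theorem ip_chi (hn : 0 < n) {ν : Fin n → ℕ} (hsum : ∑ i, ν i = n) :
    ip (chi F ν) (chi F ν) = ∑ κ : Equiv.Perm (Fin n), ∑ κ' : Equiv.Perm (Fin n),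
      if Valid ν κ ∧ Valid ν κ' then ((Equiv.Perm.sign κ : ℤ) : ℝ) * ((Equiv.Perm.sign κ' : ℤ) : ℝ) *
        (Nat.card (Marg (lk ν κ) (lk ν κ')) : ℝ) else 0 := by
  rw [chi, ip_sum_left]
  apply sum_congr rfl
  intro κ _
  rw [ip_sum_right]
  apply sum_congr rfl
  intro κ' _
  by_cases h : Valid ν κ
  · by_cases h' : Valid ν κ'
    · rw [if_pos h, if_pos h', if_pos ⟨h, h'⟩, ip_smul_left, ip_smul_right,
        ip_theta hn _ _ (sum_lk hsum h) (sum_lk hsum h')]
      ring
    · rw [if_neg h', ip_zero_right, if_neg (fun hh => h' hh.2)]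
  · rw [if_neg h, ip_zero_left, if_neg (fun hh => h hh.1)]

/-- the unipotent characters have norm one. -/
theorem norm_chi (hn : 0 < n) {ν : Fin n → ℕ} (hmono : Monotone ν) (hsum : ∑ i, ν i = n) :
    ip (chi F ν) (chi F ν) = 1 := by
  classical
  have : Fintype (GL (Fin n) F) := Fintype.ofFinite _
  have h1 := Unipotent.inner_eq (F := F) ν ν hsum hsum
  rw [H614.pair_self_of_strictMono (Unipotent.strictMono_add hmono), Int.cast_one] at h1
  have e1 : ∀ (ν : Fin n → ℕ) (g : GL (Fin n) F), Cfsg.unipotentCharacterGL n F ν g =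
      ∑ κ : Equiv.Perm (Fin n), if (Valid ν κ) then
      ((Equiv.Perm.sign κ : ℤ) : ℂ) *
        Cfsg.fixedPointCharacter (Cfsg.parabolicGL n F (lk ν κ)) g else 0 := by
    intro ν g
    rw [Cfsg.unipotentCharacterGL]
    apply sum_congr rfl
    intro κ _
    by_cases h : Valid ν κ
    · rw [if_pos h]
      exact if_pos h
    · rw [if_neg h]
      exact if_neg h
  simp only [e1] at h1
  rw [Unipotent.expand] at h1
  have h2 : ((ip (chi F ν) (chi F ν) : ℝ) : ℂ) = 1 := by
    rw [ip_chi hn hsum, ← h1]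
    push_cast
    apply sum_congr rfl
    intro κ _
    apply sum_congr rfl
    intro κ' _
    by_cases h : Valid ν κ ∧ Valid ν κ'
    · rw [if_pos h, if_pos h, FlagInner.inner_flag _ _ (sum_lk hsum h.1) (sum_lk hsum h.2)]
      push_cast
      rfl
    · rw [if_neg h, if_neg h, Complex.ofReal_zero]
  exact_mod_cast h2

/-- permuting the rows. -/
def margComp {a b : Fin n → ℕ} (π : Equiv.Perm (Fin n)) : Marg (a ∘ π) b ≃ Marg a b where
  toFun M := ⟨fun i j => M.1 (π⁻¹ i) j, by
    intro i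
    have := M.2.1 (π⁻¹ i)
    rw [this]
    simp, by
    intro j
    rw [← M.2.2 j]
    exact Equiv.sum_comp (π⁻¹) (fun i => M.1 i j)⟩
  invFun M := ⟨fun i j => M.1 (π i) j, fun i => M.2.1 (π i), by
    intro j
    rw [← M.2.2 j]
    exact Equiv.sum_comp π (fun i => M.1 i j)⟩
  left_inv M := by
    apply Subtype.ext
    funext i j
    change M.1 (π⁻¹ (π i)) j = M.1 i j
    rw [perm_inv_apply]
  right_inv M := by
    apply Subtype.ext
    funext i j
    change M.1 (π (π⁻¹ i)) j = M.1 i j
    rw [perm_apply_inv]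

/-- transposing. -/
def margT {a b : Fin n → ℕ} : Marg a b ≃ Marg b a where
  toFun M := ⟨fun i j => M.1 j i, M.2.2, M.2.1⟩
  invFun M := ⟨fun i j => M.1 j i, M.2.2, M.2.1⟩
  left_inv _ := rfl
  right_inv _ := rfl

/-- the flag characters do not depend on the order of the parts. -/
theorem theta_comp (hn : 0 < n) {a : Fin n → ℕ} (ha : ∑ i, a i = n) (π : Equiv.Perm (Fin n)) :
    theta F (a ∘ π) = theta F a := by
  have ha' : ∑ i, (a ∘ π) i = n := (Equiv.sum_comp π a).trans ha
  have h1 : ∀ b : Fin n → ℕ, ∑ i, b i = n → ip (theta F (a ∘ π)) (theta F b) = ip (theta F a) (theta F b) := by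
    intro b hb
    rw [ip_theta hn _ _ ha' hb, ip_theta hn _ _ ha hb, Nat.card_congr (margComp π)]
  have h2 : ip (theta F (a ∘ π) - theta F a) (theta F (a ∘ π) - theta F a) = 0 := by
    rw [ip_sub_left, ip_sub_right, ip_sub_right, h1 _ ha', h1 _ ha]
    ring
  have := ip_self_eq_zero h2
  exact sub_eq_zero.1 this

/-- the sum of the squares increases. -/
theorem sq_lt {ν : Fin n → ℕ} (hmono : Monotone ν) {κ : Equiv.Perm (Fin n)} (hκ : Valid ν κ) (hne : κ ≠ 1) :
    ∑ i, ν i ^ 2 < ∑ i, lk ν κ i ^ 2 := by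
  set l : Fin n → ℤ := fun i => (ν i : ℤ) + (i.val : ℤ) with hl
  have hlm : StrictMono l := by
    intro i j hij
    have h1 := hmono hij.le
    have h2 : i.val < j.val := hij
    simp only [hl]
    omega
  set v : Fin n → ℤ := fun i => (i.val : ℤ) with hv
  have hvm : StrictMono v := by
    intro i j hij
    have h2 : i.val < j.val := hij
    simp only [hv]
    omega
  -- rearrangement
  have h1 : ∑ i, l i * v (κ i) < ∑ i, l i * v i := by
    have h2 : Monovary l v := hlm.monotone.monovary hvm.monotone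
    have h3 := h2.sum_mul_comp_perm_lt_sum_mul_iff (σ := κ)
    rw [h3]
    intro h4
    apply hne
    -- `v ∘ κ` monovary with strictly monotone `l`
    have h5 : Monotone (κ : Fin n → Fin n) := by
      intro i j hij
      rcases eq_or_lt_of_le hij with rfl | hij
      · exact le_rfl
      · by_contra hcon
        rw [not_le] at hcon
        have h6 : (v ∘ κ) j < (v ∘ κ) i := hvm hcon
        have h7 := h4 h6
        exact absurd (hlm hij) (not_lt.2 h7)
    ext i
    have h8 : StrictMono (κ : Fin n → Fin n) := h5.strictMono_of_injective κ.injective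
    have h9 : ∀ i : Fin n, i ≤ κ i := fun i => h8.id_le i
    have h10 : ∑ i : Fin n, (κ i).val = ∑ i : Fin n, i.val := Equiv.sum_comp κ (fun i => i.val)
    have h11 := (sum_eq_sum_iff_of_le (s := univ) (f := fun i : Fin n => i.val) (g := fun i => (κ i).val)
      (fun i _ => h9 i)).1 h10.symm i (mem_univ i)
    exact h11.symm
  have h2 : ∑ i, (lk ν κ i : ℤ) ^ 2 = ∑ i, (l i) ^ 2 - 2 * ∑ i, l i * v (κ i) + ∑ i, v i ^ 2 := by
    have h3 : ∑ i, v (κ i) ^ 2 = ∑ i, v i ^ 2 := Equiv.sum_comp κ (fun i => v i ^ 2)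
    rw [← h3, mul_sum, ← sum_sub_distrib, ← sum_add_distrib]
    apply sum_congr rfl
    intro i _
    have h4 : (lk ν κ i : ℤ) = l i - v (κ i) := by
      have h5 := hκ i
      simp only [lk, hl, hv]
      push_cast [h5]
      ring
    rw [h4]
    ring
  have h3 : ∑ i, (ν i : ℤ) ^ 2 = ∑ i, (l i) ^ 2 - 2 * ∑ i, l i * v i + ∑ i, v i ^ 2 := by
    rw [mul_sum, ← sum_sub_distrib, ← sum_add_distrib]
    apply sum_congr rfl
    intro i _
    simp only [hl, hv]
    ring
  have h4 : ∑ i, (ν i : ℤ) ^ 2 < ∑ i, (lk ν κ i : ℤ) ^ 2 := by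
    rw [h2, h3]
    linarith
  exact_mod_cast h4

theorem sum_sq_le {a : Fin n → ℕ} (ha : ∑ i, a i = n) : ∑ i, a i ^ 2 ≤ n ^ 2 := by
  have h1 : ∑ i, a i ^ 2 ≤ ∑ i, a i * n := by
    apply sum_le_sum
    intro i _
    rw [pow_two]
    apply Nat.mul_le_mul_left
    rw [← ha]
    exact single_le_sum (fun j _ => Nat.zero_le _) (mem_univ i)
  rw [← sum_mul, ha] at h1
  rw [pow_two]
  exact h1

theorem lk_one (ν : Fin n → ℕ) : lk ν 1 = ν := by
  funext i
  simp [lk]

theorem valid_one (ν : Fin n → ℕ) : Valid ν 1 := by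
  intro i
  simp

/-- the flag characters are in the span of the unipotent characters. -/
theorem ip_theta_eq_zero (hn : 0 < n) (y : SpecialLinearGroup (Fin n) F → ℝ)
    (hy : ∀ ν : Fin n → ℕ, Monotone ν → ∑ i, ν i = n → ip y (chi F ν) = 0) (a : Fin n → ℕ) (ha : ∑ i, a i = n) :
    ip y (theta F a) = 0 := by
  classical
  induction hk : n ^ 2 - ∑ i, a i ^ 2 using Nat.strong_induction_on generalizing a with
  | _ k ih =>
    subst hk
    set π := Tuple.sort a with hπ
    have hmono : Monotone (a ∘ π) := Tuple.monotone_sort a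
    have hsum : ∑ i, (a ∘ π) i = n := (Equiv.sum_comp π a).trans ha
    have hsq : ∑ i, (a ∘ π) i ^ 2 = ∑ i, a i ^ 2 := Equiv.sum_comp π (fun i => a i ^ 2)
    rw [← theta_comp hn ha π]
    have h1 := hy _ hmono hsum
    rw [chi, ip_sum_right, ← add_sum_erase univ _ (mem_univ (1 : Equiv.Perm (Fin n))), if_pos (valid_one _),
      lk_one] at h1
    have h2 : ∑ κ ∈ univ.erase (1 : Equiv.Perm (Fin n)), ip y (if Valid (a ∘ π) κ then
        ((Equiv.Perm.sign κ : ℤ) : ℝ) • theta F (lk (a ∘ π) κ) else 0) = 0 := by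
      apply sum_eq_zero
      intro κ hκ
      by_cases h : Valid (a ∘ π) κ
      · rw [if_pos h, ip_smul_right]
        have h3 := sq_lt hmono h (ne_of_mem_erase hκ)
        have h4 := sum_sq_le (sum_lk hsum h)
        rw [ih (n ^ 2 - ∑ i, lk (a ∘ π) κ i ^ 2) (by omega) (lk (a ∘ π) κ) (sum_lk hsum h) rfl, mul_zero]
      · rw [if_neg h, ip_zero_right]
    rw [h2, add_zero] at h1
    simpa using h1

theorem qint_modEq (q j : ℕ) : ∑ l ∈ range (j + 1), q ^ l ≡ 1 [MOD q] := by
  rw [sum_range_succ', pow_zero]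
  have h1 : ∑ k ∈ range j, q ^ (k + 1) ≡ 0 [MOD q] := by
    rw [Nat.modEq_zero_iff_dvd]
    apply dvd_sum
    intro k _
    exact dvd_pow_self q (by omega)
  exact h1.add_right 1

theorem prod_modEq_one {ι : Type*} (s : Finset ι) (f : ι → ℕ) (q : ℕ) (h : ∀ i ∈ s, f i ≡ 1 [MOD q]) :
    ∏ i ∈ s, f i ≡ 1 [MOD q] := by
  classical
  induction s using Finset.induction_on with
  | empty => rw [prod_empty]
  | insert a s ha ih =>
    rw [prod_insert ha]
    have h1 := (h a (mem_insert_self a s)).mul (ih fun i hi => h i (mem_insert_of_mem hi))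
    rwa [one_mul] at h1

theorem card_Co_modEq {a : Fin n → ℕ} (ha : ∑ i, a i = n) : Nat.card (Co F a) ≡ 1 [MOD Fintype.card F] := by
  have h1 := BlockCount.index_parabolicGL (F := F) rfl a ha
  have h2 : ∏ i : Fin n, ∏ j ∈ range (a i), ∑ l ∈ range (j + 1), Fintype.card F ^ l ≡ 1 [MOD Fintype.card F] :=
    prod_modEq_one _ _ _ fun i _ => prod_modEq_one _ _ _ fun j _ => qint_modEq _ j
  have h3 : ∏ j ∈ range n, ∑ l ∈ range (j + 1), Fintype.card F ^ l ≡ 1 [MOD Fintype.card F] :=
    prod_modEq_one _ _ _ fun j _ => qint_modEq _ j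
  have h4 : Nat.card (Co F a) * 1 ≡ 1 [MOD Fintype.card F] := by
    refine (Nat.ModEq.mul_left (Nat.card (Co F a)) h2.symm).trans ?_
    change Nat.card (GL (Fin n) F ⧸ Cfsg.parabolicGL n F a) * _ ≡ 1 [MOD Fintype.card F]
    rw [h1]
    exact h3
  rwa [mul_one] at h4

theorem theta_one (a : Fin n → ℕ) : theta F a 1 = Nat.card (Co F a) := pc_one _

/-- the alternating sum of the signs of the valid permutations vanishes. -/
theorem sum_sign (hn : 2 ≤ n) {ν : Fin n → ℕ} (hν : 1 ≤ ν ⟨n - 2, by omega⟩) :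
    ∑ κ : Equiv.Perm (Fin n), (if Valid ν κ then (Equiv.Perm.sign κ : ℤ) else 0) = 0 := by
  set s : Equiv.Perm (Fin n) := Equiv.swap ⟨n - 2, by omega⟩ ⟨n - 1, by omega⟩ with hs
  have h1 : ∀ κ : Equiv.Perm (Fin n), Valid ν (κ * s) ↔ Valid ν κ := by
    have key : ∀ κ : Equiv.Perm (Fin n), Valid ν κ → Valid ν (κ * s) := by
      intro κ h i
      rw [Equiv.Perm.mul_apply]
      by_cases hi1 : i.val = n - 1
      · have := (κ (s i)).isLt
        omega
      · by_cases hi2 : i.val = n - 2
        · have h2 := (κ (s i)).isLt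
          have h3 : i = ⟨n - 2, by omega⟩ := Fin.ext hi2
          rw [← h3] at hν
          omega
        · have h2 : s i = i := by
            rw [hs]
            apply Equiv.swap_apply_of_ne_of_ne
            · intro h4
              exact hi2 (congrArg Fin.val h4)
            · intro h4
              exact hi1 (congrArg Fin.val h4)
          rw [h2]
          exact h i
    intro κ
    refine ⟨fun h => ?_, key κ⟩
    have h2 := key _ h
    rwa [mul_assoc, hs, Equiv.swap_mul_self, mul_one] at h2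
  have hsign : Equiv.Perm.sign s = -1 := by
    rw [hs]
    apply Equiv.Perm.sign_swap
    intro h
    have := congrArg Fin.val h
    simp only at this
    omega
  have h2 : ∑ κ : Equiv.Perm (Fin n), (if Valid ν κ then (Equiv.Perm.sign κ : ℤ) else 0) =
      ∑ κ : Equiv.Perm (Fin n), (if Valid ν (κ * s) then (Equiv.Perm.sign (κ * s) : ℤ) else 0) :=
    (Equiv.sum_comp (Equiv.mulRight s) (fun κ => if Valid ν κ then (Equiv.Perm.sign κ : ℤ) else 0)).symm
  have h3 : ∑ κ : Equiv.Perm (Fin n), (if Valid ν (κ * s) then (Equiv.Perm.sign (κ * s) : ℤ) else 0) =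
      - ∑ κ : Equiv.Perm (Fin n), (if Valid ν κ then (Equiv.Perm.sign κ : ℤ) else 0) := by
    rw [← sum_neg_distrib]
    apply sum_congr rfl
    intro κ _
    by_cases h : Valid ν κ
    · rw [if_pos h, if_pos ((h1 κ).2 h), map_mul, hsign]
      push_cast
      ring
    · rw [if_neg h, if_neg (fun hh => h ((h1 κ).1 hh)), neg_zero]
  omega

/-- the degree of a nontrivial unipotent character is divisible by `q`. -/
theorem chi_one (hn : 2 ≤ n) {ν : Fin n → ℕ} (hsum : ∑ i, ν i = n) (hν : 1 ≤ ν ⟨n - 2, by omega⟩) :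
    ∃ z : ℤ, chi F ν 1 = (Fintype.card F : ℝ) * z := by
  have h1 : chi F ν 1 = ((∑ κ : Equiv.Perm (Fin n),
      (if Valid ν κ then (Equiv.Perm.sign κ : ℤ) * (Nat.card (Co F (lk ν κ)) : ℤ) else 0) : ℤ) : ℝ) := by
    rw [chi, Finset.sum_apply, Int.cast_sum]
    apply sum_congr rfl
    intro κ _
    by_cases h : Valid ν κ
    · rw [if_pos h, if_pos h, Pi.smul_apply, theta_one, smul_eq_mul]
      push_cast
      rfl
    · rw [if_neg h, if_neg h, Pi.zero_apply, Int.cast_zero]
  have h2 : (Fintype.card F : ℤ) ∣ ∑ κ : Equiv.Perm (Fin n),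
      (if Valid ν κ then (Equiv.Perm.sign κ : ℤ) * (Nat.card (Co F (lk ν κ)) : ℤ) else 0) := by
    have h3 : ∑ κ : Equiv.Perm (Fin n),
      (if Valid ν κ then (Equiv.Perm.sign κ : ℤ) * (Nat.card (Co F (lk ν κ)) : ℤ) else 0) =
      ∑ κ : Equiv.Perm (Fin n),
      (if Valid ν κ then (Equiv.Perm.sign κ : ℤ) * ((Nat.card (Co F (lk ν κ)) : ℤ) - 1) else 0) := by
      rw [← add_zero (∑ κ : Equiv.Perm (Fin n),
        (if Valid ν κ then (Equiv.Perm.sign κ : ℤ) * ((Nat.card (Co F (lk ν κ)) : ℤ) - 1) else 0)),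
        ← sum_sign hn hν, ← sum_add_distrib]
      apply sum_congr rfl
      intro κ _
      by_cases h : Valid ν κ
      · rw [if_pos h, if_pos h, if_pos h]
        ring
      · rw [if_neg h, if_neg h, if_neg h, add_zero]
    rw [h3]
    apply dvd_sum
    intro κ _
    by_cases h : Valid ν κ
    · rw [if_pos h]
      apply dvd_mul_of_dvd_right
      have h4 := (card_Co_modEq (F := F) (sum_lk hsum h)).symm
      rw [Nat.modEq_iff_dvd] at h4
      push_cast at h4
      exact h4
    · rw [if_neg h]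
      exact dvd_zero _
  obtain ⟨z, hz⟩ := h2
  refine ⟨z, ?_⟩
  rw [h1, hz]
  push_cast
  rfl

theorem eq_top_of_zero (hn : 2 ≤ n) {ν : Fin n → ℕ} (hmono : Monotone ν) (hsum : ∑ i, ν i = n)
    (hν : ν ⟨n - 2, by omega⟩ = 0) : chi F ν = fun _ => 1 := by
  have h0 : ∀ i : Fin n, i.val ≤ n - 2 → ν i = 0 := by
    intro i hi
    have h1 := hmono (show i ≤ ⟨n - 2, by omega⟩ from hi)
    omega
  have h1 : ∀ κ : Equiv.Perm (Fin n), Valid ν κ → κ = 1 := by
    intro κ hκ
    have h2 : ∀ i : Fin n, κ i ≤ i := by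
      intro i
      rw [Fin.le_def]
      by_cases hi : i.val ≤ n - 2
      · have := hκ i
        rw [h0 i hi] at this
        omega
      · have := (κ i).isLt
        omega
    have h10 : ∑ i : Fin n, (κ i).val = ∑ i : Fin n, i.val := Equiv.sum_comp κ (fun i => i.val)
    ext i
    exact (sum_eq_sum_iff_of_le (s := univ) (f := fun i : Fin n => (κ i).val) (g := fun i => i.val)
      (fun i _ => h2 i)).1 h10 i (mem_univ i)
  have h2 : chi F ν = theta F ν := by
    rw [chi, ← add_sum_erase univ _ (mem_univ (1 : Equiv.Perm (Fin n))), if_pos (valid_one _), lk_one]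
    rw [sum_eq_zero, add_zero]
    · simp
    · intro κ hκ
      rw [if_neg]
      intro h
      exact (ne_of_mem_erase hκ) (h1 κ h)
  rw [h2]
  -- the parabolic subgroup is everything
  have h3 : parabolicGL n F ν = ⊤ := by
    rw [eq_top_iff]
    intro g _
    change (g : Matrix (Fin n) (Fin n) F).BlockTriangular (compLabel ν)
    have h4 : ∀ i : Fin n, compLabel ν i = n - 1 := by
      intro i
      have h5 := BlockCount.compLabel_lt ν hsum i
      have h6 : BlockCount.psum ν n = n := by rw [BlockCount.psum_last, hsum]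
      have h7 := BlockCount.compLabel_lt_iff ν i (k := n - 1) (by omega) h6
      have h8 : BlockCount.psum ν (n - 1) = 0 := by
        rw [BlockCount.psum]
        apply sum_eq_zero
        intro j hj
        apply h0
        rw [mem_filter] at hj
        omega
      rw [h8] at h7
      omega
    intro i j hij
    rw [h4, h4] at hij
    exact absurd hij (lt_irrefl _)
  have h4 : Subsingleton (Co F ν) := by
    unfold Co
    rw [h3]
    exact QuotientGroup.subsingleton_quotient_top
  funext g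
  rw [theta, pc]
  have h5 : Nat.card (fixedBy (Co F ν) g) = 1 := by
    rw [Nat.card_eq_one_iff_unique]
    refine ⟨?_, ?_⟩
    · exact ⟨fun a b => Subtype.ext (Subsingleton.elim _ _)⟩
    · exact ⟨⟨Classical.arbitrary _, by rw [mem_fixedBy]; exact Subsingleton.elim _ _⟩⟩
  rw [h5, Nat.cast_one]

/-- **Degrees of constituents of flag characters.** -/
theorem dvd_degree (hn : 2 ≤ n) (y : SpecialLinearGroup (Fin n) F → ℝ) (hy1 : ip y y = 1)
    (hint : ∀ a : Fin n → ℕ, ∑ i, a i = n → ∃ z : ℤ, ip y (theta F a) = z)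
    (h1 : ip y (fun _ => 1) = 0) (a : Fin n → ℕ) (ha : ∑ i, a i = n) (hne : ip y (theta F a) ≠ 0) :
    ∃ z : ℤ, y 1 = (Fintype.card F : ℝ) * z := by
  obtain ⟨ν, hmono, hsum, hν⟩ : ∃ ν : Fin n → ℕ, Monotone ν ∧ ∑ i, ν i = n ∧ ip y (chi F ν) ≠ 0 := by
    by_contra hcon
    push Not at hcon
    exact hne (ip_theta_eq_zero (by omega) y hcon a ha)
  have h2 : 1 ≤ ν ⟨n - 2, by omega⟩ := by
    by_contra h3
    apply hν
    rw [eq_top_of_zero hn hmono hsum (by omega)]
    exact h1
  obtain ⟨z, hz⟩ := chi_one (F := F) hn hsum h2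
  obtain ⟨w, hw⟩ : ∃ w : ℤ, ip y (chi F ν) = w := by
    have h3 : ∀ κ : Equiv.Perm (Fin n), ∃ w : ℤ, ip y (if Valid ν κ then
        ((Equiv.Perm.sign κ : ℤ) : ℝ) • theta F (lk ν κ) else 0) = w := by
      intro κ
      by_cases h : Valid ν κ
      · obtain ⟨w, hw⟩ := hint _ (sum_lk hsum h)
        refine ⟨(Equiv.Perm.sign κ : ℤ) * w, ?_⟩
        rw [if_pos h, ip_smul_right, hw]
        push_cast
        rfl
      · exact ⟨0, by rw [if_neg h, ip_zero_right, Int.cast_zero]⟩
    choose f hf using h3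
    refine ⟨∑ κ, f κ, ?_⟩
    rw [chi, ip_sum_right, Int.cast_sum]
    exact sum_congr rfl fun κ _ => hf κ
  have h3 := ip_sq_le hy1 (norm_chi (by omega) hmono hsum)
  rw [hw] at h3 hν
  have h4 : |w| ≤ 1 := by exact_mod_cast h3
  have h5 : w ≠ 0 := by exact_mod_cast hν
  rw [abs_le] at h4
  have h6 : w = 1 ∨ w = -1 := by omega
  rcases h6 with h6 | h6
  · rw [h6, Int.cast_one] at hw
    have h7 := eq_of_norm_one hy1 (norm_chi (by omega) hmono hsum) hw
    exact ⟨z, by rw [h7, hz]⟩
  · rw [h6] at hw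
    have h7 : y = - chi F ν := by
      apply eq_of_norm_one hy1
      · rw [ip_neg_left, ip_neg_right, norm_chi (by omega) hmono hsum]
        ring
      · rw [ip_neg_right, hw]
        push_cast
        ring
    refine ⟨-z, ?_⟩
    rw [h7, Pi.neg_apply, hz]
    push_cast
    ring

end Cfsg.Agent.H87.Uni
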